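import Groth.Agent.CohBase.RpushSections
import Groth.Agent.QCohMod.ClosedImm
import Groth.Prelude.Def_CohBC2
import Mathlib.AlgebraicGeometry.Morphisms.Affine

/-! The edge map to the direct image of a higher direct image along an affine morphism. -/

universe u

open CategoryTheory Limits AlgebraicGeometry TopologicalSpace Opposite
open Groth.QCohMod (res_app appₗ)

namespace Groth.CohDev.LerayAffine

open Groth.CohBase

variable {X Y Z : Scheme.{u}} (f : X ⟶ Y) (g : Y ⟶ Z) {M : X.Modules} (I : InjectiveResolution M) (p : ℕ)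

/-- The complex computing the composite. -/
noncomputable abbrev compCx : CochainComplex Z.Modules ℕ :=
  ((Scheme.Modules.pushforward g).mapHomologicalComplex (ComplexShape.up ℕ)).obj (pushCx f I)

/-- A cocycle of the composite over `W` as a cocycle over the preimage of `W`. -/
noncomputable def toCyc (W : Z.Opens)
    (z : LinearMap.ker (appₗ ((compCx f g I).d p (p + 1)) W)) :
    LinearMap.ker (appₗ ((pushCx f I).d p (p + 1)) (g ⁻¹ᵁ W)) :=
  ⟨z.1, z.2⟩

lemma app_homologyComparison_θ (W : Z.Opens)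
    (z : LinearMap.ker (appₗ ((compCx f g I).d p (p + 1)) W)) :
    (RDer.homologyComparison (Scheme.Modules.pushforward g) (pushCx f I) p).app W
        (θ (compCx f g I) p W z) =
      (θ (pushCx f I) p (g ⁻¹ᵁ W) (toCyc f g I p W z) :
        Γ((pushCx f I).homology p, g ⁻¹ᵁ W)) := by
  obtain ⟨c, rfl⟩ := (cycSecEquiv (compCx f g I) p W).surjective z
  rw [θ_iCycles]
  let c' : Γ((pushCx f I).cycles p, g ⁻¹ᵁ W) :=
    (RDer.cyclesComparison (Scheme.Modules.pushforward g) (pushCx f I) p).app W c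
  have e : cycSecEquiv (pushCx f I) p (g ⁻¹ᵁ W) c' =
      toCyc f g I p W (cycSecEquiv (compCx f g I) p W c) := by
    apply Subtype.ext
    exact congr($(RDer.cyclesComparison_i (Scheme.Modules.pushforward g) (pushCx f I) p).app W c)
  rw [← e, θ_iCycles]
  exact congr($(RDer.homologyπ_homologyComparison (Scheme.Modules.pushforward g) (pushCx f I) p).app W c)

variable [QuasiCompact f] [QuasiSeparated f] [M.IsQuasicoherent] [IsAffineHom g]

lemma θ_comp_eq_zero (W : Z.Opens) (hW : IsAffineOpen W)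
    (z : LinearMap.ker (appₗ ((compCx f g I).d p (p + 1)) W))
    (hz : θ (pushCx f I) p (g ⁻¹ᵁ W) (toCyc f g I p W z) = 0) :
    θ (compCx f g I) p W z = 0 := by
  have hb : (show Γ(I.cocomplex.X p, f ⁻¹ᵁ g ⁻¹ᵁ W) from z.1) ∈
      (Res.ofInjective I).Bd (f ⁻¹ᵁ g ⁻¹ᵁ W) p :=
    θH_ker f I p (hW.preimage g) ⟨z.1, z.2⟩ hz
  obtain ⟨w, hw⟩ := (mem_range_d_iff f I p (g ⁻¹ᵁ W) z.1).2 hb
  refine (θ_zero_local (compCx f g I) p z).2 fun x hx => ⟨W, le_rfl, hx, w, ?_⟩
  rw [QCohMod.res_self]
  exact hw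

/-- Homology commutes with the direct image by an affine morphism. -/
theorem isIso_homologyComparison :
    IsIso (RDer.homologyComparison (Scheme.Modules.pushforward g) (pushCx f I) p) := by
  refine QCohMod.isIso_of_affine_bijective _ fun W hW => ⟨?_, fun s => ?_⟩
  · refine (injective_iff_map_eq_zero _).2 fun t ht => CohTwo.eq_of_local _ _ _ fun x hx => ?_
    obtain ⟨W₁, h₁, z, hxW₁, hz⟩ := θ_exists_local (compCx f g I) p t x hx
    obtain ⟨_, ⟨W₂, hW₂, rfl⟩, hxW₂, h₂⟩ :=
      Z.isBasis_affineOpens.exists_subset_of_mem_open hxW₁ W₁.2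
    have h₂' : W₂ ≤ W₁ := h₂
    refine ⟨W₂, h₂'.trans h₁, hxW₂, ?_⟩
    rw [map_zero]
    change QCohMod.res _ (h₂'.trans h₁) t = 0
    rw [← QCohMod.res_res _ h₁ h₂', ← hz, θ_res]
    refine θ_comp_eq_zero f g I p W₂ hW₂ _ ?_
    refine (app_homologyComparison_θ f g I p W₂ _).symm.trans ?_
    rw [← θ_res _ _ h₂', hz, QCohMod.res_res, ← res_app, ht, map_zero]
    rfl
  · obtain ⟨z, hz⟩ := θH_surjective f I p (hW.preimage g) s
    exact ⟨θ (compCx f g I) p W ⟨z.1, z.2⟩, (app_homologyComparison_θ f g I p W _).trans hz⟩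

/-- The edge map is an isomorphism. -/
theorem isIso_lerayEdgeOut [HasInjectiveResolutions X.Modules] :
    IsIso (CohBC.lerayEdgeOut f g p M) := by
  have : IsIso (RDer.homologyComparison (Scheme.Modules.pushforward g)
      (((Scheme.Modules.pushforward f).mapHomologicalComplex (ComplexShape.up ℕ)).obj
        (injectiveResolution M).cocomplex) p) :=
    isIso_homologyComparison f g (injectiveResolution M) p
  unfold CohBC.lerayEdgeOut RDer.edgeOut
  exact IsIso.comp_isIso' inferInstance (IsIso.comp_isIso' inferInstance (IsIso.comp_isIso' this inferInstance))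

end Groth.CohDev.LerayAffine
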