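import Groth.Agent.CohC3.ProperHelpers

/-! Artin–Rees bounds for the cohomology of the sequence `n ↦ I^n M`. -/

universe u

open CategoryTheory CategoryTheory.Limits AlgebraicGeometry Opposite TopologicalSpace

namespace Groth.CohDev

open Groth.CohC3

variable {A : Type u} [CommRing A] [IsNoetherianRing A] {X : Scheme.{u}} [X.Over (Spec (CommRingCat.of A))]
  [AlgebraicGeometry.IsNoetherian X] {I : Ideal A} {M : X.Modules}
  {P : X.Modules → Prop} (hP : GSeq.FinClass A X P) (hPM : ∀ n, P (powSub I M n)) (hM : Coh.IsCoh M)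

include hP hPM hM in
/-- The images of `H^p(I^(n+m) M) → H^p(I^n M)` are adically small. -/
theorem exists_range_lower_le (p : ℕ) : ∃ c, ∀ n m, c ≤ n + m → ∀ z,
    hmap A (lower I M (Nat.le_add_right n m)) p z ∈
      I ^ (m - (c - n)) • (⊤ : Submodule A (Coh.HH X (powSub I M n) p)) := by
  obtain ⟨r, t, hspan⟩ := Submodule.fg_iff_exists_fin_generating_family.1 (IsNoetherian.noetherian I)
  have ht : ∀ i, t i ∈ I := fun i => hspan ▸ Submodule.subset_span ⟨i, rfl⟩
  obtain ⟨d, hd⟩ := GSeq.gen_hh hP (adicSeq I M t ht) hPM (gen_adicSeq t ht hM hspan) p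
  have h1 : ∀ n j, d ≤ n → ∀ z, hmap A (lower I M (Nat.le_add_right n j)) p z ∈
      I ^ j • (⊤ : Submodule A (Coh.HH X (powSub I M n) p)) := by
    intro n j hn
    induction j with
    | zero =>
      intro z
      rw [pow_zero, Ideal.one_eq_top, Submodule.top_smul]
      trivial
    | succ j ih =>
      intro z
      refine Submodule.iSup_induction _ (motive := fun z => hmap A (lower I M (Nat.le_add_right n (j + 1))) p z ∈
        I ^ (j + 1) • (⊤ : Submodule A (Coh.HH X (powSub I M n) p))) (hd (n + j) (by omega) (trivial : z ∈ ⊤)) ?_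
        (by rw [map_zero]; exact zero_mem _) fun a b ha hb => by rw [map_add]; exact add_mem ha hb
      rintro i _ ⟨x, rfl⟩
      change hmap A (lower I M ((Nat.le_add_right n j).trans (Nat.le_succ (n + j)))) p
        (hmap A (raise I M (ht i) (n + j)) p x) ∈ _
      rw [hmap_comp, raise_lower_self I M (ht i) (Nat.le_add_right n j), ← hmap_comp, hmap_smulMod,
        pow_succ', Submodule.mul_smul]
      exact Submodule.smul_mem_smul (ht i) (ih x)
  refine ⟨d, fun n m hnm z => ?_⟩
  by_cases hn : d ≤ n
  · rw [Nat.sub_eq_zero_of_le hn, Nat.sub_zero]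
    exact h1 n m hn z
  · have hd' : d ≤ n + m := hnm
    have key : ∀ (k : ℕ) (hk : d + (m - (d - n)) = k) (h : n ≤ k) (z : _),
        hmap A (lower I M h) p z ∈ I ^ (m - (d - n)) • (⊤ : Submodule A (Coh.HH X (powSub I M n) p)) := by
      rintro k rfl h z
      rw [← lower_comp I M (show n ≤ d by omega) (Nat.le_add_right d _), ← hmap_comp]
      have hz := Submodule.mem_map_of_mem (f := hmap A (lower I M (show n ≤ d by omega)) p)
        (h1 d (m - (d - n)) le_rfl z)
      rw [Submodule.map_smul''] at hz
      exact Submodule.smul_mono le_rfl le_top hz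
    exact key (n + m) (by omega) _ z

include hP hPM hM in
/-- A class of `H^p(I^n M)` that dies in `H^p(M)` dies in `H^p(I^(n-c) M)`. -/
theorem exists_ker_lower (p : ℕ) : ∃ c, ∀ n, c ≤ n → ∀ z, hmap A (powSubι I M n) p z = 0 →
    hmap A (lower I M (Nat.sub_le n c)) p z = 0 := by
  obtain ⟨r, t, hspan⟩ := Submodule.fg_iff_exists_fin_generating_family.1 (IsNoetherian.noetherian I)
  have ht : ∀ i, t i ∈ I := fun i => hspan ▸ Submodule.subset_span ⟨i, rfl⟩
  let Z : ∀ n, Submodule A (Coh.HH X (powSub I M n) p) := fun n =>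
    LinearMap.ker (hmap A (powSubι I M n) p)
  have hZ : ∀ i n, (Z n).map (hmap A ((adicSeq I M t ht).op i n) p) ≤ Z (n + 1) := fun i n => by
    rintro _ ⟨x, hx, rfl⟩
    have hx' : hmap A (powSubι I M n) p x = 0 := hx
    change hmap A (powSubι I M (n + 1)) p (hmap A (raise I M (ht i) n) p x) = 0
    rw [hmap_comp, raise_ι, ← hmap_comp, hx', map_zero]
  obtain ⟨d, hd⟩ := (adicSeq I M t ht).exists_bound_hh p (fun n => hP.fin (hPM n) p)
    (GSeq.gen_hh hP (adicSeq I M t ht) hPM (gen_adicSeq t ht hM hspan) p) Z hZ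
  -- `Z_(d+j)` lands in `I^j Z_d`
  have h1 : ∀ j, ∀ z ∈ Z (d + j), hmap A (lower I M (Nat.le_add_right d j)) p z ∈ I ^ j • Z d := by
    intro j
    induction j with
    | zero =>
      intro z hz
      rw [show lower I M (Nat.le_add_right d 0) = 𝟙 _ from
        (cancel_mono (powSubι I M d)).1 ((lower_ι I M _).trans (Category.id_comp _).symm),
        hmap_id, pow_zero, Ideal.one_eq_top, Submodule.top_smul]
      exact hz
    | succ j ih =>
      intro z hz
      refine Submodule.iSup_induction _ (motive := fun z => hmap A (lower I M (Nat.le_add_right d (j + 1))) p z ∈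
        I ^ (j + 1) • Z d) (hd (d + j) (Nat.le_add_right d j) hz) ?_
        (by rw [map_zero]; exact zero_mem _) fun a b ha hb => by rw [map_add]; exact add_mem ha hb
      rintro i _ ⟨x, hx, rfl⟩
      change hmap A (lower I M ((Nat.le_add_right d j).trans (Nat.le_succ (d + j)))) p
        (hmap A (raise I M (ht i) (d + j)) p x) ∈ _
      rw [hmap_comp, raise_lower_self I M (ht i) (Nat.le_add_right d j), ← hmap_comp, hmap_smulMod, pow_succ', Submodule.mul_smul]
      exact Submodule.smul_mem_smul (ht i) (ih x hx)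
  -- `I^d` kills `Z_d`
  have h2 : ∀ a ∈ I ^ d, ∀ z ∈ Z d, a • z = 0 := fun a ha z hz => by
    let l : M ⟶ powSub I M d := kernel.lift _ (Formal.smulMod A M a) ((isQuot_modPowπ I d M).le_ann ha)
    have e : Formal.smulMod A (powSub I M d) a = powSubι I M d ≫ l := by
      rw [← cancel_mono (powSubι I M d), Category.assoc, kernel.lift_ι, smulMod_naturality]
    rw [← hmap_smulMod, e, ← hmap_comp, show hmap A (powSubι I M d) p z = 0 from hz, map_zero]
  have h3 : ∀ m, d ≤ m → ∀ (k : ℕ) (_ : k = m + d) (h : m ≤ k), ∀ z ∈ Z k, hmap A (lower I M h) p z = 0 := by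
    intro m hm
    induction m, hm using Nat.le_induction with
    | base =>
      rintro k rfl h z hz
      refine Submodule.smul_induction_on (h1 d z hz) (fun a ha x hx => h2 a ha x hx)
        fun a b ha hb => by rw [ha, hb, add_zero]
    | succ m hm ih =>
      intro k hk hk' z hz
      obtain rfl : k = m + d + 1 := by omega
      refine Submodule.iSup_induction _ (motive := fun z => hmap A (lower I M hk') p z = 0)
        (hd (m + d) (by omega) hz) ?_ (map_zero _) fun a b ha hb => by rw [map_add, ha, hb, add_zero]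
      rintro i _ ⟨x, hx, rfl⟩
      rw [hmap_comp, show hk' = Nat.succ_le_succ (Nat.le_add_right m d) from rfl,
        raise_lower I M (ht i) (Nat.le_add_right m d),
        ← hmap_comp, ih _ rfl _ x hx, map_zero]
  refine ⟨2 * d, fun n hn z hz => ?_⟩
  rw [← lower_comp I M (show n - 2 * d ≤ n - d by omega) (Nat.sub_le n d), ← hmap_comp,
    h3 (n - d) (by omega) n (by omega) (Nat.sub_le n d) z hz, map_zero]

end Groth.CohDev
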