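import Mathlib.RingTheory.Flat.FaithfullyFlat.Algebra
import Mathlib.RingTheory.Nakayama
import Mathlib.RingTheory.Ideal.Colon
import Mathlib.RingTheory.Finiteness.Ideal
import Mathlib.RingTheory.TensorProduct.Basic
import Mathlib.RingTheory.Noetherian.Basic
import Mathlib.LinearAlgebra.TensorProduct.RightExactness

/-!
# Approximating an isomorphism of base changed modules by a map over the base

The commutative algebra behind the rigidity of bundles on Zariski pairs.
-/

universe u v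

open TensorProduct Submodule
open scoped Pointwise

namespace Groth.CohDev.Rigidity

variable {A A' : Type u} [CommRing A] [CommRing A'] [Algebra A A']
  {M : Type v} [AddCommGroup M] [Module A M] {M' : Type v} [AddCommGroup M'] [Module A' M']

/-- The map `A' ⊗ M → M'` extending a semilinear map. -/
noncomputable def liftP (p : M →ₛₗ[algebraMap A A'] M') : A' ⊗[A] M →+ M' :=
  TensorProduct.liftAddHom
    (AddMonoidHom.mk' (fun b => AddMonoidHom.mk' (fun m => b • p m) fun m m' => by rw [map_add, smul_add])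
      fun b b' => AddMonoidHom.ext fun m => add_smul b b' (p m))
    fun r b m => by
      show (r • b) • p m = b • p (r • m)
      rw [map_smulₛₗ, ← mul_smul, Algebra.smul_def, mul_comm]

@[simp] lemma liftP_tmul (p : M →ₛₗ[algebraMap A A'] M') (b : A') (m : M) :
    liftP p (b ⊗ₜ m) = b • p m := rfl

/-- All elements are combinations of the images. -/
lemma span_range_eq_top {p : M →ₛₗ[algebraMap A A'] M'} (hp : Function.Surjective (liftP p)) :
    span A' (Set.range p) = ⊤ := by
  refine eq_top_iff.2 fun x _ => ?_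
  obtain ⟨z, rfl⟩ := hp x
  clear * - z
  induction z using TensorProduct.induction_on with
  | zero => simp
  | tmul b m => exact smul_mem _ _ (subset_span ⟨m, rfl⟩)
  | add a b ha hb => rw [map_add]; exact add_mem ha hb

/-- Faithfully flat descent of membership. -/
lemma mem_of_mem_span [Module.FaithfullyFlat A A'] {p : M →ₛₗ[algebraMap A A'] M'}
    (hp : Function.Injective (liftP p)) (P : Submodule A M) {x : M}
    (hx : p x ∈ span A' (p '' P)) : x ∈ P := by
  have key : ∀ y ∈ span A' (p '' P), ∃ z : A' ⊗[A] M,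
      liftP p z = y ∧ P.mkQ.baseChange A' z = 0 := by
    intro y hy
    induction hy using span_induction with
    | mem y hy =>
      obtain ⟨m, hm, rfl⟩ := hy
      exact ⟨1 ⊗ₜ m, by simp, by simp [(Quotient.mk_eq_zero P).2 hm]⟩
    | zero => exact ⟨0, by simp, by simp⟩
    | add y y' _ _ h h' =>
      obtain ⟨z, h1, h2⟩ := h
      obtain ⟨z', h1', h2'⟩ := h'
      exact ⟨z + z', by rw [map_add, h1, h1'], by rw [map_add, h2, h2', add_zero]⟩
    | smul c y _ h =>
      obtain ⟨z, h1, h2⟩ := h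
      refine ⟨c • z, ?_, by rw [map_smul, h2, smul_zero]⟩
      rw [← h1]
      clear h1 h2
      induction z using TensorProduct.induction_on with
      | zero => simp
      | tmul b m => simp [smul_tmul', mul_smul]
      | add a b ha hb => simp only [smul_add, map_add, ha, hb]
  obtain ⟨z, h1, h2⟩ := key _ hx
  obtain rfl : z = 1 ⊗ₜ x := hp (by rw [h1]; simp)
  rw [LinearMap.baseChange_tmul] at h2
  refine (Quotient.mk_eq_zero P).1 (Module.FaithfullyFlat.tensorProduct_mk_injective (A := A) (B := A') (M ⧸ P) ?_)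
  simpa using h2

variable [IsNoetherianRing A'] {M₁ M₂ : Type v} [AddCommGroup M₁] [Module A M₁] [AddCommGroup M₂]
  [Module A M₂] {N₁ N₂ : Type v} [AddCommGroup N₁] [Module A' N₁] [AddCommGroup N₂] [Module A' N₂]

/-- Powers of the extended ideal move spans into the span of a lattice. -/
lemma exists_pow_smul_mem_span (p : M →ₛₗ[algebraMap A A'] M') (𝔞 : Ideal A) (S : Set M) {T : Finset M'}
    (hT : ∀ x ∈ T, x ∈ span A' (Set.range p))
    (hS : ∀ z : M, ∃ l : ℕ, ∀ c ∈ 𝔞 ^ l, c • z ∈ span A S) :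
    ∃ q : ℕ, ∀ x ∈ T, (𝔞.map (algebraMap A A')) ^ q ≤ (span A' (p '' S)).colon {x} := by
  have h1 : ∀ x ∈ span A' (Set.range p),
      ∃ q : ℕ, (𝔞.map (algebraMap A A')) ^ q ≤ (span A' (p '' S)).colon {x} := by
    intro x hx
    induction hx using span_induction with
    | mem x hx =>
      obtain ⟨z, rfl⟩ := hx
      obtain ⟨l, hl⟩ := hS z
      refine ⟨l, ?_⟩
      rw [← Ideal.map_pow, Ideal.map_le_iff_le_comap]
      intro c hc
      rw [Ideal.mem_comap, mem_colon_singleton, ← map_smulₛₗ]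
      exact (span_le (p := (span A' (p '' S)).comap p)).2 (fun y hy => subset_span ⟨y, hy, rfl⟩) (hl c hc)
    | zero => exact ⟨0, fun c _ => mem_colon_singleton.2 (by simp)⟩
    | add x y _ _ hx hy =>
      obtain ⟨q, hq⟩ := hx
      obtain ⟨q', hq'⟩ := hy
      refine ⟨q + q', fun c hc => mem_colon_singleton.2 ?_⟩
      rw [smul_add]
      exact add_mem (mem_colon_singleton.1 (hq (Ideal.pow_le_pow_right (Nat.le_add_right _ _) hc)))
        (mem_colon_singleton.1 (hq' (Ideal.pow_le_pow_right (Nat.le_add_left _ _) hc)))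
    | smul b x _ hx =>
      obtain ⟨q, hq⟩ := hx
      refine ⟨q, fun c hc => mem_colon_singleton.2 ?_⟩
      rw [smul_comm c]
      exact smul_mem _ b (mem_colon_singleton.1 (hq hc))
  choose! q hq using h1
  exact ⟨T.sup q, fun x hx => (Ideal.pow_le_pow_right (Finset.le_sup hx)).trans (hq x (hT x hx))⟩

/-- An isomorphism after base change is approximated by a map over the base with full range away from `𝔞`. -/
theorem exists_coeff [Module.FaithfullyFlat A A'] {J 𝔞 : Ideal A} {k : ℕ} (hk : J ^ k ≤ 𝔞)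
    (hJ' : J.map (algebraMap A A') ≤ (⊥ : Ideal A').jacobson)
    (happrox : ∀ (c : ℕ) (x : A'), ∃ a, x - algebraMap A A' a ∈ (J ^ c).map (algebraMap A A'))
    (p₁ : M₁ →ₛₗ[algebraMap A A'] N₁) (p₂ : M₂ →ₛₗ[algebraMap A A'] N₂)
    (hp₁ : Function.Surjective (liftP p₁)) (hp₂ : Function.Injective (liftP p₂))
    (S₁ : Set M₁) (hS₁f : S₁.Finite) (hS₁ : ∀ z : M₁, ∃ l : ℕ, ∀ c ∈ 𝔞 ^ l, c • z ∈ span A S₁)
    (S₂ : Set M₂) (hS₂f : S₂.Finite) (hS₂ : ∀ z : M₂, ∃ l : ℕ, ∀ c ∈ 𝔞 ^ l, c • z ∈ span A S₂)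
    (ψ : N₁ →ₗ[A'] N₂) (hψ : Function.Surjective ψ) {ι : Type*} [Fintype ι] (h : ι → M₁ →ₗ[A] M₂)
    (b : ι → A') (hb : ∀ m, ψ (p₁ m) = ∑ i, b i • p₂ (h i m)) :
    ∃ a : ι → A, ∀ z : M₂, ∃ l : ℕ, ∀ c ∈ 𝔞 ^ l, c • z ∈ (∑ i, a i • h i).range := by
  classical
  let 𝔞' := 𝔞.map (algebraMap A A')
  have htop := span_range_eq_top hp₁
  choose x hx using fun y : M₂ => hψ (p₂ y)
  obtain ⟨q, hq⟩ := exists_pow_smul_mem_span p₁ 𝔞 S₁ (T := hS₂f.toFinset.image x)
    (fun _ _ => htop ▸ mem_top) hS₁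
  obtain ⟨pp, hpp⟩ := exists_pow_smul_mem_span p₂ 𝔞 S₂
    (T := (hS₁f.toFinset ×ˢ (Finset.univ : Finset ι)).image fun z => p₂ (h z.2 z.1))
    (fun y hy => by
      obtain ⟨z, -, rfl⟩ := Finset.mem_image.1 hy
      exact subset_span ⟨_, rfl⟩) hS₂
  choose a ha using fun i => happrox (1 + k * (q + pp)) (b i)
  refine ⟨a, ?_⟩
  let f₀ : M₁ →ₗ[A] M₂ := ∑ i, a i • h i
  let N₂' : Submodule A' N₂ := span A' (p₂ '' S₂)
  let W : Submodule A' N₂ := 𝔞' ^ q • N₂'
  let R₀ : Submodule A' N₂ := span A' (p₂ '' (LinearMap.range f₀ : Set M₂))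
  have herr : ∀ m ∈ S₁, ∀ i, (b i - algebraMap A A' (a i)) • p₂ (h i m) ∈ J.map (algebraMap A A') • W := by
    intro m hm i
    have h1 : b i - algebraMap A A' (a i) ∈ J.map (algebraMap A A') * (𝔞' ^ q * 𝔞' ^ pp) := by
      refine SetLike.le_def.1 ?_ (ha i)
      rw [pow_add, pow_one, pow_mul, Ideal.map_mul, Ideal.map_pow _ (J ^ k), ← pow_add]
      exact Ideal.mul_mono le_rfl (Ideal.pow_right_mono (Ideal.map_mono hk) _)
    refine Submodule.mul_induction_on h1 (fun c hc d hd => ?_) fun c d hc hd => by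
      rw [add_smul]; exact add_mem hc hd
    rw [mul_smul]
    refine smul_mem_smul hc (Submodule.mul_induction_on hd (fun e he g hg => ?_) fun e g he hg => by
      rw [add_smul]; exact add_mem he hg)
    rw [mul_smul]
    refine smul_mem_smul he (mem_colon_singleton.1 (hpp _ ?_ hg))
    exact Finset.mem_image.2 ⟨(m, i), Finset.mem_product.2 ⟨hS₁f.mem_toFinset.2 hm, Finset.mem_univ _⟩, rfl⟩
  have hψ₀ : span A' (p₁ '' S₁) ≤ (R₀ ⊔ J.map (algebraMap A A') • W).comap ψ := by
    refine span_le.2 ?_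
    rintro _ ⟨m, hm, rfl⟩
    rw [SetLike.mem_coe, mem_comap, hb, show ∑ i, b i • p₂ (h i m) =
      ∑ i, algebraMap A A' (a i) • p₂ (h i m) + ∑ i, (b i - algebraMap A A' (a i)) • p₂ (h i m) by
        rw [← Finset.sum_add_distrib]; exact Finset.sum_congr rfl fun i _ => by rw [← add_smul, add_sub_cancel]]
    refine add_mem_sup (subset_span ⟨f₀ m, ⟨m, rfl⟩, ?_⟩) (sum_mem fun i _ => herr m hm i)
    simp [f₀, map_sum]
  have hW : W ≤ R₀ ⊔ J.map (algebraMap A A') • W := by
    refine smul_le.2 fun c hc y hy => ?_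
    induction hy using span_induction with
    | mem y hy =>
      obtain ⟨n, hn, rfl⟩ := hy
      rw [← hx n, ← map_smul]
      exact hψ₀ (mem_colon_singleton.1 (hq (x n) (Finset.mem_image_of_mem x (hS₂f.mem_toFinset.2 hn)) hc))
    | zero => simp
    | add y z _ _ hy hz => rw [smul_add]; exact add_mem hy hz
    | smul d y _ hy => rw [smul_comm c]; exact smul_mem _ d hy
  have hWfg : W.FG := Submodule.FG.smul (IsNoetherian.noetherian _) (fg_span (hS₂f.image _))
  have hWle : W ≤ R₀ := le_of_le_smul_of_le_jacobson_bot hWfg hJ' hW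
  have hrange : ∀ c ∈ 𝔞 ^ q, ∀ n ∈ span A S₂, c • n ∈ LinearMap.range f₀ := by
    intro c hc n hn
    induction hn using span_induction with
    | mem n hn =>
      refine mem_of_mem_span hp₂ _ (hWle ?_)
      rw [map_smulₛₗ]
      refine smul_mem_smul ?_ (subset_span ⟨n, hn, rfl⟩)
      show algebraMap A A' c ∈ 𝔞' ^ q
      rw [← Ideal.map_pow]
      exact Ideal.mem_map_of_mem _ hc
    | zero => simp
    | add y z _ _ hy hz => rw [smul_add]; exact add_mem hy hz
    | smul d y _ hy => rw [smul_comm c]; exact smul_mem _ d hy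
  intro z
  obtain ⟨l, hl⟩ := hS₂ z
  refine ⟨q + l, fun c hc => ?_⟩
  rw [pow_add] at hc
  refine Submodule.mul_induction_on hc (fun e he g hg => ?_) fun e g he hg => by
    rw [add_smul]; exact add_mem he hg
  rw [mul_smul]
  exact hrange e he _ (hl g hg)

end Groth.CohDev.Rigidity
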