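import Groth.Agent.AlgGrp2.CompletionFlat
import Mathlib.RingTheory.Flat.Localization
import Mathlib.RingTheory.Ideal.GoingDown
import Mathlib.RingTheory.Localization.AtPrime.Basic

/-! A map of Zariski pairs which is bijective modulo all powers of the ideal is faithfully flat. -/

universe u

open IsLocalRing

namespace Groth.CohDev.ZariskiPair

variable {A A' : Type u} [CommRing A] [CommRing A'] (φ : A →+* A') (J : Ideal A)
  (hq : ∀ n : ℕ, Function.Bijective (Ideal.quotientMap (Ideal.map φ (J ^ n)) φ Ideal.le_comap_map))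

include hq

lemma exists_approx (n : ℕ) (x : A') : ∃ a, x - φ a ∈ (J ^ n).map φ := by
  obtain ⟨z, hz⟩ := (hq n).2 (Ideal.Quotient.mk _ x)
  obtain ⟨a, rfl⟩ := Ideal.Quotient.mk_surjective z
  exact ⟨a, Ideal.Quotient.eq.1 hz.symm⟩

lemma mem_of_map_mem (n : ℕ) (a : A) (ha : φ a ∈ (J ^ n).map φ) : a ∈ J ^ n := by
  refine Ideal.Quotient.eq_zero_iff_mem.1 ((hq n).1 ?_)
  rw [map_zero]
  exact Ideal.Quotient.eq_zero_iff_mem.2 ha

lemma mem_of_map_mem_of_le {K : Ideal A} {n : ℕ} (hK : J ^ n ≤ K) (a : A) (ha : φ a ∈ K.map φ) :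
    a ∈ K := by
  suffices h : ∀ y ∈ K.map φ, ∃ k ∈ K, y - φ k ∈ (J ^ n).map φ by
    obtain ⟨k, hk, h'⟩ := h _ ha
    rw [← map_sub] at h'
    exact (sub_add_cancel a k) ▸ add_mem (hK (mem_of_map_mem φ J hq n _ h')) hk
  intro y hy
  refine Submodule.span_induction ?_ ?_ ?_ ?_ hy
  · rintro _ ⟨k, hk, rfl⟩
    exact ⟨k, hk, by simp⟩
  · exact ⟨0, zero_mem _, by simp⟩
  · rintro y z - - ⟨k, hk, hy⟩ ⟨l, hl, hz⟩
    exact ⟨k + l, add_mem hk hl, by rw [map_add, add_sub_add_comm]; exact add_mem hy hz⟩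
  · rintro x y - ⟨k, hk, hy⟩
    obtain ⟨b, hb⟩ := exists_approx φ J hq n x
    refine ⟨b * k, K.mul_mem_left b hk, ?_⟩
    rw [smul_eq_mul, map_mul, show x * y - φ b * φ k = x * (y - φ k) + (x - φ b) * φ k by ring]
    exact add_mem (Ideal.mul_mem_left _ _ hy) (Ideal.mul_mem_right _ _ hb)

/-- Flatness and surjectivity on spectra. -/
theorem flat_and_comap_surjective [IsNoetherianRing A] [IsNoetherianRing A']
    (hJ : J ≤ (⊥ : Ideal A).jacobson) (hJ' : J.map φ ≤ (⊥ : Ideal A').jacobson) :
    φ.Flat ∧ Function.Surjective (PrimeSpectrum.comap φ) := by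
  algebraize [φ]
  have hflat : Module.Flat A A' := by
    refine Module.flat_of_isLocalized_maximal (R := A) A' A'
      (fun P _ => Localization.AtPrime P) (fun P _ => Algebra.linearMap A' (Localization.AtPrime P)) ?_
    intro P hP
    let m : Ideal A := P.comap φ
    have hJP : J.map φ ≤ P := hJ'.trans (sInf_le ⟨bot_le, hP⟩)
    have hJm : J ≤ m := Ideal.map_le_iff_le_comap.1 hJP
    have hm : m.IsMaximal := by
      have hs : Function.Surjective ((Ideal.Quotient.mk P).comp φ) := fun z => by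
        obtain ⟨x, rfl⟩ := Ideal.Quotient.mk_surjective z
        obtain ⟨a, ha⟩ := exists_approx φ J hq 1 x
        rw [pow_one] at ha
        exact ⟨a, (Ideal.Quotient.eq.2 (hJP ha)).symm⟩
      let := Ideal.Quotient.field P
      have := RingHom.ker_isMaximal_of_surjective ((Ideal.Quotient.mk P).comp φ) hs
      rwa [← RingHom.comap_ker, Ideal.mk_ker] at this
    have hP' : P = m.map φ := by
      refine le_antisymm (fun x hx => ?_) Ideal.map_comap_le
      obtain ⟨a, ha⟩ := exists_approx φ J hq 1 x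
      rw [pow_one] at ha
      have ha' : a ∈ m := show φ a ∈ P by simpa using sub_mem hx (hJP ha)
      rw [← sub_add_cancel x (φ a)]
      exact add_mem (Ideal.map_mono hJm ha) (Ideal.mem_map_of_mem _ ha')
    let Am := Localization.AtPrime m
    let B := Localization.AtPrime P
    let _ : Algebra Am B := (Localization.localRingHom m P φ rfl).toAlgebra
    have : IsScalarTower A Am B := IsScalarTower.of_algebraMap_eq fun a => by
      rw [RingHom.algebraMap_toAlgebra (Localization.localRingHom m P φ rfl), Localization.localRingHom_to_map]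
      rfl
    have : IsLocalHom (algebraMap Am B) := Localization.isLocalHom_localRingHom m P φ rfl
    have hpow : ∀ n, P ^ n = (m ^ n).map φ := fun n => by rw [hP', Ideal.map_pow]
    have hB : ∀ (n : ℕ) (x : A'), algebraMap A' B x ∈ maximalIdeal B ^ n ↔ x ∈ P ^ n := fun n x => by
      rw [← Ideal.mem_under, IsLocalization.AtPrime.under_maximalIdeal_pow P]
    have hA : ∀ (n : ℕ) (a : A), algebraMap A Am a ∈ maximalIdeal Am ^ n ↔ a ∈ m ^ n := fun n a => by
      rw [← Ideal.mem_under, IsLocalization.AtPrime.under_maximalIdeal_pow m]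
    have : IsNoetherianRing Am := IsLocalization.isNoetherianRing m.primeCompl Am ‹_›
    have : IsNoetherianRing B := IsLocalization.isNoetherianRing P.primeCompl B ‹_›
    have : Module.Flat Am B := by
      refine Groth.AlgGrp2.flat_of_bijective_mod_pow Am B fun n => ⟨fun y => ?_, fun z => ?_⟩
      · obtain ⟨x, hx⟩ := (IsLocalization.AtPrime.equivQuotMaximalIdealPow P B (n + 1)).surjective y
        obtain ⟨x, rfl⟩ := Ideal.Quotient.mk_surjective x
        obtain ⟨a, ha⟩ := exists_approx φ J hq (n + 1) x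
        refine ⟨algebraMap A Am a, ?_⟩
        rw [← hx, IsLocalization.AtPrime.equivQuotMaximalIdealPow_apply_mk, RingHom.comp_apply,
          ← IsScalarTower.algebraMap_apply A Am B, IsScalarTower.algebraMap_apply A A' B,
          Ideal.Quotient.eq, ← map_sub, hB, hpow]
        rw [← neg_sub]
        exact neg_mem (Ideal.map_mono (Ideal.pow_right_mono hJm _) ha)
      · obtain ⟨a, s, rfl⟩ := IsLocalization.exists_mk'_eq m.primeCompl z
        have hsu : IsUnit (algebraMap A Am s) := IsLocalization.map_units Am s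
        rw [← Ideal.mul_unit_mem_iff_mem _ (hsu.map (algebraMap Am B)), ← map_mul,
          ← Ideal.mul_unit_mem_iff_mem (maximalIdeal Am ^ (n + 1)) hsu, IsLocalization.mk'_spec,
          ← IsScalarTower.algebraMap_apply A Am B, IsScalarTower.algebraMap_apply A A' B, hB, hA, hpow]
        exact ⟨mem_of_map_mem_of_le φ J hq (Ideal.pow_right_mono hJm (n + 1)) a,
          fun h => Ideal.mem_map_of_mem _ h⟩
    exact Module.Flat.trans A Am B
  refine ⟨hflat, fun p => ?_⟩
  obtain ⟨m, hm, hpm⟩ := Ideal.exists_le_maximal p.asIdeal p.isPrime.ne_top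
  have hJm : J ≤ m := hJ.trans (sInf_le ⟨bot_le, hm⟩)
  have hne : m.map φ ≠ ⊤ := fun h => hm.ne_top ((Ideal.eq_top_iff_one _).2
    (mem_of_map_mem_of_le φ J hq (n := 1) (by rwa [pow_one]) 1 (h ▸ Submodule.mem_top)))
  obtain ⟨Q, hQ, hle⟩ := Ideal.exists_le_maximal _ hne
  have : Q.LiesOver m :=
    ⟨hm.eq_of_le (Ideal.IsPrime.comap _).ne_top (Ideal.map_le_iff_le_comap.1 hle)⟩
  obtain ⟨P, -, hP, hPp⟩ := Ideal.exists_ideal_le_liesOver_of_le (p := p.asIdeal) Q hpm
  exact ⟨⟨P, hP⟩, PrimeSpectrum.ext hPp.over.symm⟩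

end Groth.CohDev.ZariskiPair
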