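import Groth.Agent.CohDev.SpecOpenLattice
import Groth.Agent.CohDev.RigidityAlgebra
import Groth.Agent.CohDev.ZariskiPairFlat
import Groth.Agent.CohBase.HomPull
import Groth.Agent.CohBase.FlatBC.SecZero
import Groth.Agent.KTheory.LocFree
import Groth.Agent.OmegaSheaf.IsoLocal
import Groth.Agent.QCohMod.Category
import Groth.Agent.QCohMod.PullbackQCoh
import Groth.Agent.LocFree.Basic
import Mathlib.RingTheory.OrzechProperty
import Mathlib.RingTheory.FiniteType

/-!
# Rigidity of bundles on Zariski pairs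

Finite locally free modules on an open `U` of `Spec A` containing the complement of `V(J)` which become
isomorphic over a map of Zariski pairs `(A, J) → (A', JA')`, bijective modulo powers of `J`, are isomorphic.
-/

universe u

open CategoryTheory AlgebraicGeometry TopologicalSpace Opposite TensorProduct
open Groth.CohDev.SpecOpen
open scoped Groth.CohDev.SpecOpen
open Groth.RefRank (secToLin applySec)
open Groth.QCohMod (res resFun)
open Groth.CohBase.FlatBC

namespace Groth.CohDev.Rigidity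

variable {A A' : Type u} [CommRing A] [CommRing A'] [Algebra A A']
  (U : (Spec (CommRingCat.of A)).Opens)

variable (A') in
/-- The base map of spectra. -/
noncomputable abbrev specMap : Spec (CommRingCat.of A') ⟶ Spec (CommRingCat.of A) :=
  Spec.map (CommRingCat.ofHom (algebraMap A A'))

variable (A') in
/-- The preimage of `U`. -/
noncomputable abbrev preU : (Spec (CommRingCat.of A')).Opens := specMap A' (A := A) ⁻¹ᵁ U

variable (A') in
/-- The base changed map. -/
noncomputable abbrev gm : (preU A' U : Scheme.{u}) ⟶ (U : Scheme.{u}) := specMap A' ∣_ U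

lemma specMap_appLE (a : A) : (specMap A' (A := A)).appLE ⊤ ⊤ le_top
    ((Scheme.ΓSpecIso (CommRingCat.of A)).inv a) =
      (Scheme.ΓSpecIso (CommRingCat.of A')).inv (algebraMap A A' a) := by
  have := congr($(Scheme.ΓSpecIso_inv_naturality (CommRingCat.ofHom (algebraMap A A'))) a)
  rw [Scheme.Hom.appTop, Scheme.Hom.app_eq_appLE] at this
  exact this.symm

lemma topLe {X Y : Scheme.{u}} (g : X ⟶ Y) : (⊤ : X.Opens) ≤ g ⁻¹ᵁ ⊤ := fun _ _ => trivial

lemma gm_appLE (a : A) : (gm A' U).appLE ⊤ ⊤ (topLe _) (theta U a) =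
    theta (preU A' U) (algebraMap A A' a) := by
  show (gm A' U).appLE ⊤ ⊤ (topLe _) (U.ι.appLE ⊤ ⊤ le_top _) =
    (preU A' U).ι.appLE ⊤ ⊤ le_top ((Scheme.ΓSpecIso (CommRingCat.of A')).inv (algebraMap A A' a))
  rw [← specMap_appLE]
  have h : U.ι.appLE ⊤ ⊤ le_top ≫ (gm A' U).appLE ⊤ ⊤ (topLe _) =
      (specMap A' (A := A)).appLE ⊤ ⊤ le_top ≫ (preU A' U).ι.appLE ⊤ ⊤ le_top := by
    rw [Scheme.Hom.appLE_comp_appLE, Scheme.Hom.appLE_comp_appLE]
    simp only [morphismRestrict_ι]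
  exact congr($h ((Scheme.ΓSpecIso (CommRingCat.of A)).inv a))

/-- Pullback of global sections. -/
noncomputable def pullL (M : (U : Scheme.{u}).Modules) :
    Γ(M, ⊤) →ₛₗ[algebraMap A A'] Γ((Scheme.Modules.pullback (gm A' U)).obj M, ⊤) where
  toFun m := psec (gm A' U) M (topLe _) m
  map_add' := map_add _
  map_smul' a m := by
    show psec (gm A' U) M (topLe _) (theta U a • m) = theta (preU A' U) (algebraMap A A' a) • _
    rw [psec_smul, gm_appLE]

theorem bijective_liftP (hflat : Module.Flat A A') (M : (U : Scheme.{u}).Modules) [M.IsQuasicoherent]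
    [CompactSpace (U : Scheme.{u})] : Function.Bijective (liftP (pullL (A' := A') U M)) := by
  have sq : IsPullback (gm A' U) (preU A' U).ι U.ι (specMap A') := isPullback_morphismRestrict _ U
  have : Flat (specMap A' (A := A)) :=
    (HasRingHomProperty.Spec_iff (P := @Flat)).2 (RingHom.flat_algebraMap_iff.2 hflat)
  have : QuasiCompact U.ι := by
    rw [quasiCompact_iff_compactSpace]; infer_instance
  have e : (⊤ : (Spec (CommRingCat.of A')).Opens) ≤ specMap A' (A := A) ⁻¹ᵁ ⊤ := le_top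
  have hT := SecZero.bc_preimage sq.w e M sq (isAffineOpen_top _) (isAffineOpen_top _)
    le_rfl ⊤ (topLe _) (topLe _) (inf_top_eq (a := (⊤ : (preU A' U : Scheme.{u}).Opens))).symm
  let iA := Scheme.ΓSpecIso (CommRingCat.of A)
  let iA' := Scheme.ΓSpecIso (CommRingCat.of A')
  let tm := TensorProduct.mk Γ(Spec (CommRingCat.of A), ⊤) (SecZero.fnMod (specMap A' (A := A)) e)
    (secMod U.ι M (le_refl (U.ι ⁻¹ᵁ ⊤)))
  let Φ : A' ⊗[A] Γ(M, ⊤) →+ SecZero.fnMod (specMap A' (A := A)) e ⊗[Γ(Spec (CommRingCat.of A), ⊤)]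
      secMod U.ι M (le_refl (U.ι ⁻¹ᵁ ⊤)) :=
    TensorProduct.liftAddHom (AddMonoidHom.mk' (fun b => AddMonoidHom.mk'
        (fun m => tm (iA'.inv b) m) fun m m' => map_add (tm (iA'.inv b)) m m')
        fun b b' => AddMonoidHom.ext fun m => by
          show tm (iA'.inv (b + b')) m = _
          rw [map_add iA'.inv.hom b b']
          exact LinearMap.map_add₂ tm _ _ _)
      fun a b m => by
        show tm (iA'.inv (a • b)) m = tm (iA'.inv b) (theta U a • m)
        refine Eq.trans ?_ (smul_tmul (iA.inv a) _ _)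
        refine congrArg (· ⊗ₜ _) ?_
        show iA'.inv (a • b) = (specMap A' (A := A)).appLE ⊤ ⊤ e (iA.inv a) * iA'.inv b
        rw [specMap_appLE, Algebra.smul_def, map_mul]
  have hlift : ∀ z, liftP (pullL (A' := A') U M) z =
      SecZero.T sq.w e M (le_refl _) (topLe _) (topLe _) (Φ z) := fun z => by
    induction z using TensorProduct.induction_on with
    | zero => simp only [map_zero]
    | tmul b m => rfl
    | add x y hx hy => rw [map_add, map_add, map_add, hx, hy]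
  let Ψ : SecZero.fnMod (specMap A' (A := A)) e ⊗[Γ(Spec (CommRingCat.of A), ⊤)]
      secMod U.ι M (le_refl (U.ι ⁻¹ᵁ ⊤)) →+ A' ⊗[A] Γ(M, ⊤) :=
    TensorProduct.liftAddHom (AddMonoidHom.mk' (fun b => AddMonoidHom.mk'
        (fun m => iA'.hom (show Γ(Spec (CommRingCat.of A'), ⊤) from b) ⊗ₜ (show Γ(M, ⊤) from m))
          fun m m' => tmul_add _ _ _)
        fun b b' => AddMonoidHom.ext fun m => by
          exact (congrArg (· ⊗ₜ _) (map_add iA'.hom.hom (show Γ(Spec (CommRingCat.of A'), ⊤) from b)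
            (show Γ(Spec (CommRingCat.of A'), ⊤) from b'))).trans (add_tmul _ _ _))
      fun r b m => by
        show iA'.hom ((specMap A' (A := A)).appLE ⊤ ⊤ e r * (show Γ(Spec (CommRingCat.of A'), ⊤) from b)) ⊗ₜ[A] _ =
          iA'.hom (show Γ(Spec (CommRingCat.of A'), ⊤) from b) ⊗ₜ[A] (U.ι.appLE ⊤ ⊤ le_top r • (show Γ(M, ⊤) from m))
        conv_lhs => rw [← iA.hom_inv_id_apply r, specMap_appLE, map_mul, Iso.inv_hom_id_apply,
          ← Algebra.smul_def]
        rw [smul_tmul, smul_def]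
        show _ ⊗ₜ (U.ι.appLE ⊤ ⊤ le_top (iA.inv (iA.hom r)) • _) = _
        exact congrArg (fun x => _ ⊗ₜ[A] (U.ι.appLE ⊤ ⊤ le_top x • _)) (iA.hom_inv_id_apply r)
  have hΨΦ : ∀ z, Ψ (Φ z) = z := fun z => by
    induction z using TensorProduct.induction_on with
    | zero => simp only [map_zero]
    | tmul b m => exact congrArg (· ⊗ₜ m) (iA'.inv_hom_id_apply b)
    | add x y hx hy => rw [map_add, map_add, hx, hy]
  have hΦΨ : ∀ w, Φ (Ψ w) = w := fun w => by
    induction w using TensorProduct.induction_on with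
    | zero => simp only [map_zero]
    | tmul b m => exact congrArg (· ⊗ₜ m) (iA'.hom_inv_id_apply (show Γ(Spec (CommRingCat.of A'), ⊤) from b))
    | add x y hx hy => rw [map_add, map_add, hx, hy]
  rw [show ⇑(liftP (pullL (A' := A') U M)) = _ ∘ Φ from funext hlift]
  exact hT.comp ⟨Function.LeftInverse.injective hΨΦ, Function.RightInverse.surjective hΦΨ⟩

/-- A section of the sheaf Hom as a map over `A`. -/
noncomputable def homL {E₁ E₂ : (U : Scheme.{u}).Modules} (h : Γ(RefHull.homSh E₁ E₂, ⊤)) :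
    Γ(E₁, ⊤) →ₗ[A] Γ(E₂, ⊤) where
  toFun m := secToLin h m
  map_add' := map_add _
  map_smul' a m := map_smul (secToLin h) (theta U a) m

/-- An epimorphism of bundles of the same rank is an isomorphism. -/
theorem isIso_of_surjective_cover {X : Scheme.{u}} {n : ℕ} {M N : X.Modules}
    (hM : FlatMod.IsFinLocFreeOfRank n M) (hN : FlatMod.IsFinLocFreeOfRank n N) (f : M ⟶ N)
    (hf : ∀ x : X, ∃ W : X.Opens, IsAffineOpen W ∧ x ∈ W ∧ Function.Surjective (f.app W)) : IsIso f := by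
  have := KTheory.LocFree.isQCoh (Groth.LocFree.isFinLocFree_of_rank hM)
  have := KTheory.LocFree.isQCoh (Groth.LocFree.isFinLocFree_of_rank hN)
  have : Epi f := OmegaSheaf.epi_of_affine_cover f hf
  refine OmegaSheaf.isIso_of_affine_cover f fun x => ?_
  obtain ⟨U₀, s, hU₀, hxU₀, hs⟩ := Groth.LocFree.exists_affine_basis_ofRank hM x
  obtain ⟨U₁, t, hU₁, hxU₁, ht⟩ := Groth.LocFree.exists_affine_basis_ofRank hN x
  obtain ⟨_, ⟨V, hV, rfl⟩, hxV, hVle⟩ := X.isBasis_affineOpens.exists_subset_of_mem_open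
    (show x ∈ ((U₀ ⊓ U₁ : X.Opens) : Set X) from ⟨hxU₀, hxU₁⟩) (U₀ ⊓ U₁).2
  have hle : V ≤ U₀ ⊓ U₁ := hVle
  have hsur := QCohMod.app_surjective_of_epi f hV
  let cM : (Fin n → Γ(X, V)) ≃ₗ[Γ(X, V)] Γ(M, V) := LinearEquiv.ofBijective
    (Fintype.linearCombination Γ(X, V) fun i => PicAux.res M (hle.trans inf_le_left) (s i))
    (by convert hs V (hle.trans inf_le_left) using 1; funext r; exact Fintype.linearCombination_apply _ _ _)
  let cN : (Fin n → Γ(X, V)) ≃ₗ[Γ(X, V)] Γ(N, V) := LinearEquiv.ofBijective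
    (Fintype.linearCombination Γ(X, V) fun i => PicAux.res N (hle.trans inf_le_right) (t i))
    (by convert ht V (hle.trans inf_le_right) using 1; funext r; exact Fintype.linearCombination_apply _ _ _)
  refine ⟨V, hV, hxV, ?_⟩
  let L := (cN.symm.toLinearMap ∘ₗ QCohMod.appₗ f V) ∘ₗ cM.toLinearMap
  have hL : Function.Bijective L := OrzechProperty.bijective_of_surjective_endomorphism L
    ((cN.symm.surjective.comp hsur).comp cM.surjective)
  have := ((cN.bijective.comp hL).comp cM.symm.bijective)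
  convert this using 1
  funext m
  simp [L, QCohMod.appₗ]

/-- An isomorphism of pullbacks is a combination of pulled back maps. -/
theorem exists_expansion (hflat : Module.Flat A A') [CompactSpace (U : Scheme.{u})]
    {E₁ E₂ : (U : Scheme.{u}).Modules} (hlf₁ : FlatMod.IsFinLocFree E₁) (hlf₂ : FlatMod.IsFinLocFree E₂)
    (ψ : (Scheme.Modules.pullback (gm A' U)).obj E₁ ⟶ (Scheme.Modules.pullback (gm A' U)).obj E₂) :
    ∃ S : Finset (A' × Γ(RefHull.homSh E₁ E₂, ⊤)), ∀ m : Γ(E₁, ⊤), appL ψ (pullL U E₁ m) =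
      ∑ i : S, i.1.1 • pullL U E₂ (homL U i.1.2 m) := by
  have := KTheory.LocFree.isQCoh hlf₁
  have := KTheory.LocFree.isQCoh hlf₂
  have := KTheory.LocFree.isQCoh (Groth.LocFree.isFinLocFree_homSh hlf₁ hlf₂)
  have := CohBase.HomPull.isIso_comp (gm A' U) hlf₁ hlf₂
  let σ := CohBase.HomPull.secOfHom ψ
  let t := (inv (CohBase.HomPull.comp (gm A' U) E₁ E₂)).app ⊤ σ
  obtain ⟨z, hz⟩ := (bijective_liftP U hflat (RefHull.homSh E₁ E₂)).2 t
  obtain ⟨S, rfl⟩ := TensorProduct.exists_finset z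
  have hσ : (CohBase.HomPull.comp (gm A' U) E₁ E₂).app ⊤ t = σ := by
    rw [← ConcreteCategory.comp_apply, ← Scheme.Modules.Hom.comp_app, IsIso.inv_hom_id]
    rfl
  refine ⟨S, fun m => ?_⟩
  show ψ.app ⊤ (pullL U E₁ m) = _
  rw [← CohBase.HomPull.applySec_secOfHom ψ]
  show CohTwo.SheafHomIso.secToLinₗ _ _ ⊤ σ (pullL U E₁ m) = _
  rw [← hσ, ← hz, map_sum, map_sum, map_sum, LinearMap.sum_apply]
  refine (Finset.sum_congr rfl fun i _ => ?_).trans
    (Finset.sum_coe_sort S fun i => i.1 • pullL U E₂ (homL U i.2 m)).symm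
  rw [liftP_tmul, SpecOpen.smul_def, Scheme.Modules.Hom.app_smul, map_smul, LinearMap.smul_apply]
  refine congrArg (theta (preU A' U) i.1 • ·) ?_
  exact CohBase.HomPull.secToLin_comp (gm A' U) E₁ E₂ (topLe _) i.2 m

/-- A map whose range on global sections is saturated on a basic open is surjective there. -/
theorem surjective_app_basicOpen [IsNoetherianRing A] {E₁ E₂ : (U : Scheme.{u}).Modules}
    [E₂.IsQuasicoherent] [CompactSpace (U : Scheme.{u})] [QuasiSeparatedSpace (U : Scheme.{u})]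
    (f₀ : E₁ ⟶ E₂) (r : A) (h : ∀ z, ∃ l : ℕ, r ^ l • z ∈ LinearMap.range (appL f₀)) :
    Function.Surjective (f₀.app ((U : Scheme.{u}).basicOpen (theta U r))) := fun y => by
  obtain ⟨d, w, hw⟩ := QCohMod.exists_pow_smul_eq_res_of_qcqs E₂ (W := ⊤)
    CompactSpace.isCompact_univ isQuasiSeparated_univ (theta U r) y
  obtain ⟨l, m, hm⟩ := h w
  change f₀.app ⊤ m = _ at hm
  have hu : IsUnit (resFun (U : Scheme.{u}) ((U : Scheme.{u}).basicOpen_le (theta U r)) (theta U r)) :=
    RingedSpace.isUnit_res_basicOpen (U : Scheme.{u}).toRingedSpace (theta U r)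
  obtain ⟨v, hv⟩ := (hu.pow (l + d)).exists_left_inv
  refine ⟨v • res E₁ ((U : Scheme.{u}).basicOpen_le _) m, ?_⟩
  rw [Scheme.Modules.Hom.app_smul, ← QCohMod.res_app, hm, SpecOpen.res_pow_smul, hw, ← mul_smul,
    ← mul_smul, mul_assoc, ← pow_add, hv, one_smul]

variable [IsNoetherianRing A] [IsNoetherianRing A'] {J : Ideal A}

/-- **Rigidity of bundles on Zariski pairs.** -/
theorem nonempty_iso (hJ : J ≤ (⊥ : Ideal A).jacobson)
    (hJ' : J.map (algebraMap A A') ≤ (⊥ : Ideal A').jacobson)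
    (hq : ∀ n : ℕ, Function.Bijective
      (Ideal.quotientMap (Ideal.map (algebraMap A A') (J ^ n)) (algebraMap A A') Ideal.le_comap_map))
    (hU : ∀ p : PrimeSpectrum A, ¬ J ≤ p.asIdeal → (show (Spec (CommRingCat.of A)) from p) ∈ U)
    {n : ℕ} {E₁ E₂ : (U : Scheme.{u}).Modules}
    (h₁ : FlatMod.IsFinLocFreeOfRank n E₁) (h₂ : FlatMod.IsFinLocFreeOfRank n E₂)
    (ψ : (Scheme.Modules.pullback (gm A' U)).obj E₁ ≅ (Scheme.Modules.pullback (gm A' U)).obj E₂) :
    Nonempty (E₁ ≅ E₂) := by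
  classical
  obtain ⟨hflat, hsurj⟩ := ZariskiPair.flat_and_comap_surjective (algebraMap A A') J hq hJ hJ'
  rw [RingHom.flat_algebraMap_iff] at hflat
  have : Module.FaithfullyFlat A A' := Module.FaithfullyFlat.of_comap_surjective hsurj
  have : CompactSpace (U : Scheme.{u}) :=
    isCompact_iff_compactSpace.mp (NoetherianSpace.isCompact (α := PrimeSpectrum A) _)
  have : QuasiSeparatedSpace (U : Scheme.{u}) := quasiSeparatedSpace_of_quasiSeparated U.ι
  have hlf₁ := Groth.LocFree.isFinLocFree_of_rank h₁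
  have hlf₂ := Groth.LocFree.isFinLocFree_of_rank h₂
  have := KTheory.LocFree.isQCoh hlf₁
  have := KTheory.LocFree.isQCoh hlf₂
  have := KTheory.LocFree.isQCoh (Groth.LocFree.isFinLocFree_homSh hlf₁ hlf₂)
  obtain ⟨s, hs, hcov⟩ := SpecOpen.exists_gens U
  obtain ⟨k, hk⟩ := SpecOpen.exists_pow_le_span U s hcov J hU
  obtain ⟨S₁, hS₁f, hS₁⟩ := SpecOpen.exists_lattice E₁
    ((QCohMod.isCoh_iff E₁).1 (KTheory.LocFree.isCoh hlf₁)).2 s hs
  obtain ⟨S₂, hS₂f, hS₂⟩ := SpecOpen.exists_lattice E₂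
    ((QCohMod.isCoh_iff E₂).1 (KTheory.LocFree.isCoh hlf₂)).2 s hs
  obtain ⟨S, hψ⟩ := exists_expansion U hflat hlf₁ hlf₂ ψ.hom
  obtain ⟨a, ha⟩ := exists_coeff hk hJ' (fun c x => ZariskiPair.exists_approx _ J hq c x)
    (pullL U E₁) (pullL U E₂) (bijective_liftP U hflat E₁).2 (bijective_liftP U hflat E₂).1
    S₁ hS₁f hS₁ S₂ hS₂f hS₂ (appL ψ.hom)
    (fun y => ⟨ψ.inv.app ⊤ y, (by
      show ψ.hom.app ⊤ (ψ.inv.app ⊤ y) = y
      rw [← ConcreteCategory.comp_apply, ← Scheme.Modules.Hom.comp_app, ψ.inv_hom_id]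
      rfl)⟩)
    (fun i : S => homL U i.1.2) (fun i => i.1.1) hψ
  obtain ⟨f₀, hf₀⟩ := CohBase.HomPull.exists_hom_of_global
    (∑ i : S, theta U (a i) • i.1.2 : Γ(RefHull.homSh E₁ E₂, ⊤))
  have happ : ∀ m : Γ(E₁, ⊤), appL f₀ m = (∑ i : S, a i • homL U i.1.2) m := fun m => by
    show f₀.app ⊤ m = _
    rw [hf₀, LinearMap.sum_apply]
    show CohTwo.SheafHomIso.secToLinₗ E₁ E₂ ⊤ _ m = _
    rw [map_sum, LinearMap.sum_apply]
    exact Finset.sum_congr rfl fun i _ => by rw [map_smul]; rfl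
  refine ⟨@asIso _ _ _ _ f₀ (isIso_of_surjective_cover h₁ h₂ f₀ fun x => ?_)⟩
  obtain ⟨r, hr, hxr⟩ := hcov x.1 x.2
  refine ⟨_, SpecOpen.isAffineOpen_basicOpen r (hs r hr), ?_,
    surjective_app_basicOpen U f₀ r fun w => ?_⟩
  · rw [SpecOpen.basicOpen_theta]
    exact SpecOpen.mem_dOpen.2 hxr
  obtain ⟨l, hl⟩ := ha w
  obtain ⟨m, hm⟩ := hl (r ^ l) (Ideal.pow_mem_pow (Ideal.subset_span hr) l)
  exact ⟨l, m, (happ m).trans hm⟩

end Groth.CohDev.Rigidity
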