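import Groth.Agent.CohDev.CdOnePairing
import Groth.Agent.CohC3.HMap
import Groth.Agent.CohC3.Tricky
import Groth.Agent.CohC3.Affines
import Groth.Agent.PicAux.AbLES
import Groth.Agent.PicAux.FreeBasis
import Groth.Agent.QCohMod.Category
import Groth.Prelude.Def_Formal2

/-!
# Contractions of coherent formal modules and the limit topology on cohomology

Maps `φ_j : I^c → A` with `Σ g_j φ_j = id` give morphisms `I^(s+1) G_{n+s} ⟶ G_n`, compatible in `n`, whose
combination with the `g_j` is the transition map.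
-/

universe u

open CategoryTheory CategoryTheory.Limits AlgebraicGeometry Opposite TopologicalSpace

namespace Groth.CohDev.CdOne

open Groth.CohC3

variable {A : Type u} [CommRing A] {X : Scheme.{u}} [X.Over (Spec (CommRingCat.of A))]
  [AlgebraicGeometry.IsNoetherian X] {I : Ideal A} {G : ℕᵒᵖ ⥤ X.Modules}

variable (G) in
/-- The part of `G_m` dying at level `s`. -/
noncomputable abbrev kerTo (s m : ℕ) (h : s ≤ m) : X.Modules := kernel (sysMap G h)

/-- The transition on the kernels. -/
noncomputable def kerTr (s n : ℕ) :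
    kerTo G s (n + 1 + s) (Nat.le_add_left s _) ⟶ kerTo G s (n + s) (Nat.le_add_left s n) :=
  kernel.lift _ (kernel.ι _ ≫ sysMap G (show n + s ≤ n + 1 + s by omega)) (by
    rw [Category.assoc, sysMap_comp, kernel.condition])

/-- The uniform contraction bound on affine opens. -/
theorem exists_uniform_bound (hG : Formal.IsCohFormal I G) :
    ∃ e, ∀ x : X, ∃ U : X.affineOpens, x ∈ (U : X.Opens) ∧ ∀ (c : ℕ) (φ : ↥(I ^ c) →ₗ[A] A)
      n m (h : n ≤ m), n + c + e ≤ m → ∀ (N : ℕ) (a : Fin N → A) (ha : ∀ l, a l ∈ I ^ c),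
      (∀ l, φ ⟨a l, ha l⟩ ∈ I ^ e) → ∀ v : Fin N → Γ(G.obj (op m), (U : X.Opens)),
        ∑ l, baseApp X (U : X.Opens) (a l) • v l = 0 →
        ∑ l, baseApp X (U : X.Opens) (φ ⟨a l, ha l⟩) • (sysMap G h).app (U : X.Opens) (v l) = 0 := by
  refine exists_uniform X _ (fun U e e' hee' hP c φ n m h hm N a ha hb v hv => hP c φ n m h (by omega) N a ha
    (fun l => Ideal.pow_le_pow_right hee' (hb l)) v hv) fun U => ?_
  have : IsNoetherianRing Γ(X, (U : X.Opens)) := IsLocallyNoetherian.component_noetherian U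
  have : Module.Finite Γ(X, (U : X.Opens)) Γ(G.obj (op 0), (U : X.Opens)) :=
    ((QCohMod.isCoh_iff _).1 (hG.1 0)).2 U U.2
  exact exists_bound (baseApp X (U : X.Opens))
    (fmodOfSys (isSys_of_isCohFormal hG) (fun n => (hG.1 n).1) U.2)

/-- A contraction is well defined at the level of sheaves. -/
theorem exists_kernel_bound (hG : Formal.IsCohFormal I G) :
    ∃ e, ∀ (c : ℕ) (φ : ↥(I ^ c) →ₗ[A] A) (N : ℕ) (a : Fin N → A) (ha : ∀ l, a l ∈ I ^ c),
      (∀ l, φ ⟨a l, ha l⟩ ∈ I ^ e) → ∀ n m (h : n ≤ m), n + c + e ≤ m →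
        kernel.ι (biproduct.desc fun l => Formal.smulMod A (G.obj (op m)) (a l)) ≫
          (biproduct.desc fun l => sysMap G h ≫ Formal.smulMod A (G.obj (op n)) (φ ⟨a l, ha l⟩)) = 0 := by
  obtain ⟨e, he⟩ := exists_uniform_bound hG
  refine ⟨e, fun c φ N a ha hb n m h hm => ?_⟩
  let v := biproduct.desc fun l => Formal.smulMod A (G.obj (op m)) (a l)
  have hq : ∀ n, (G.obj (op n)).IsQuasicoherent := fun n => (hG.1 n).1
  have : (⨁ fun _ : Fin N => G.obj (op m)).IsQuasicoherent := by
    have : ∀ j, ((Discrete.functor fun _ : Fin N => G.obj (op m)).obj j).IsQuasicoherent := fun _ => hq m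
    exact QCohMod.isQCoh_of_isColimit _ _ (biproduct.isColimit fun _ : Fin N => G.obj (op m))
  have := hq m
  have : (kernel v).IsQuasicoherent := QCohMod.isQCoh_kernel _
  refine hom_eq_zero_of_cover _ fun x => ?_
  obtain ⟨U, hxU, hU⟩ := he x
  refine ⟨U, U.2, hxU, fun y => ?_⟩
  let u := (kernel.ι v).app (U : X.Opens) y
  let z := fun l => (biproduct.π (fun _ : Fin N => G.obj (op m)) l).app (U : X.Opens) u
  have hdec : u = ∑ l, (biproduct.ι (fun _ : Fin N => G.obj (op m)) l).app (U : X.Opens) (z l) := by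
    have h := congr(($(biproduct.total (f := fun _ : Fin N => G.obj (op m)))).app (U : X.Opens) u)
    refine h.symm.trans ?_
    rw [Groth.PicAux.sum_app]
    rfl
  have h0 : v.app (U : X.Opens) u = 0 := congr(($(kernel.condition v)).app (U : X.Opens) y)
  rw [hdec, map_sum] at h0
  show (biproduct.desc fun l => sysMap G h ≫ Formal.smulMod A (G.obj (op n)) (φ ⟨a l, ha l⟩)).app
    (U : X.Opens) u = 0
  rw [hdec, map_sum]
  refine (Finset.sum_congr rfl fun l _ => ?_).trans (hU c φ n m h hm N a ha hb z ?_)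
  · refine (congr(($(biproduct.ι_desc (fun l => sysMap G h ≫
      Formal.smulMod A (G.obj (op n)) (φ ⟨a l, ha l⟩)) l)).app (U : X.Opens) (z l))).trans ?_
    exact smulMod_app _ _ (U : X.Opens) _
  · refine (Finset.sum_congr rfl fun l _ => ?_).trans h0
    exact ((congr(($(biproduct.ι_desc (fun l => Formal.smulMod A (G.obj (op m)) (a l)) l)).app
      (U : X.Opens) (z l))).trans (smulMod_app _ (a l) (U : X.Opens) _)).symm

variable [IsNoetherianRing A]

/-- **The contractions.** -/
theorem exists_contraction (hG : Formal.IsCohFormal I G) {c r : ℕ} (g : Fin r → A)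
    (φ : Fin r → ↥(I ^ c) →ₗ[A] A) (hφ : ∀ x : ↥(I ^ c), (x : A) = ∑ j, g j * φ j x) :
    ∃ s, ∃ β : Fin r → ∀ n, kerTo G s (n + s) (Nat.le_add_left s n) ⟶ G.obj (op n),
      (∀ j n, β j (n + 1) ≫ sysMap G (Nat.le_succ n) = kerTr s n ≫ β j n) ∧
      ∀ n, ∑ j, β j n ≫ Formal.smulMod A (G.obj (op n)) (g j) =
        kernel.ι _ ≫ sysMap G (Nat.le_add_right n s) := by
  obtain ⟨e₁, he₁⟩ := exists_uniform_bound hG
  obtain ⟨e₂, he₂⟩ := exists_kernel_bound hG
  let e := e₁ + e₂
  obtain ⟨N, a, hspan⟩ := Submodule.fg_iff_exists_fin_generating_family.1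
    (IsNoetherian.noetherian (I ^ (c + e + 1) : Ideal A))
  have hs := isSys_of_isCohFormal hG
  have hq : ∀ n, (G.obj (op n)).IsQuasicoherent := fun n => (hG.1 n).1
  have ha : ∀ l, a l ∈ I ^ (c + e + 1) := fun l => hspan ▸ Submodule.subset_span ⟨l, rfl⟩
  have ha' : ∀ l, a l ∈ I ^ (c + e) := fun l => Ideal.pow_le_pow_right (Nat.le_succ _) (ha l)
  let s := c + e
  let b : Fin r → Fin N → A := fun j l =>
    φ j ⟨a l, Ideal.pow_le_pow_right (Nat.le_add_right c e) (ha' l)⟩
  let D : ℕ → X.Modules := fun m => ⨁ fun _ : Fin N => G.obj (op m)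
  have hDq : ∀ m, (D m).IsQuasicoherent := fun m => by
    have : ∀ j, ((Discrete.functor fun _ : Fin N => G.obj (op m)).obj j).IsQuasicoherent := fun _ => hq m
    exact QCohMod.isQCoh_of_isColimit _ _ (biproduct.isColimit fun _ : Fin N => G.obj (op m))
  have hKq : ∀ n, (kerTo G s (n + s) (Nat.le_add_left s n)).IsQuasicoherent := fun n => by
    have := hq (n + s); have := hq s; exact QCohMod.isQCoh_kernel _
  let v : ∀ n, D (n + s) ⟶ kerTo G s (n + s) (Nat.le_add_left s n) := fun n =>
    kernel.lift _ (biproduct.desc fun l => Formal.smulMod A _ (a l)) (by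
      refine biproduct.hom_ext' _ _ fun l => ?_
      rw [biproduct.ι_desc_assoc, ← smulMod_naturality, hs.killed s (a l) (ha l), comp_zero, comp_zero])
  have hv : ∀ n l, biproduct.ι (fun _ : Fin N => G.obj (op (n + s))) l ≫ v n ≫ kernel.ι _ =
      Formal.smulMod A _ (a l) := fun n l => by
    simp only [v, kernel.lift_ι, biproduct.ι_desc]
  -- the elements of `D`
  have hdec : ∀ m (U : X.Opens) (u : Γ(D m, U)), u = ∑ l,
      (biproduct.ι (fun _ : Fin N => G.obj (op m)) l).app U ((biproduct.π (fun _ : Fin N => G.obj (op m)) l).app U u) := by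
    intro m U u
    have h := congr(($(biproduct.total (f := fun _ : Fin N => G.obj (op m)))).app U u)
    refine h.symm.trans ?_
    rw [Groth.PicAux.sum_app]
    rfl
  have hepi : ∀ n, Epi (v n) := fun n => by
    have := hDq (n + s); have := hKq n; have := hq (n + s)
    refine epi_of_cover (v n) fun x => ?_
    obtain ⟨U, hxU, hU⟩ := he₁ x
    refine ⟨U, U.2, hxU, fun y => ?_⟩
    have h1 := ((hs.isQuot (Nat.le_add_left s n)).app_eq_zero_iff _ U.2).1
      (congr(($(kernel.condition (sysMap G (Nat.le_add_left s n)))).app (U : X.Opens) y))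
    rw [show I ^ (s + 1) = Ideal.span (Set.range a) from hspan.symm, Ideal.map_span, ← Set.range_comp] at h1
    obtain ⟨z, hz⟩ : ∃ z : Fin N → Γ(G.obj (op (n + s)), (U : X.Opens)),
        ∑ l, baseApp X (U : X.Opens) (a l) • z l =
          (kernel.ι (sysMap G (Nat.le_add_left s n))).app (U : X.Opens) y := by
      refine Submodule.smul_induction_on h1 (fun t ht w _ => ?_) ?_
      · obtain ⟨q, rfl⟩ := (Submodule.mem_span_range_iff_exists_fun _).1 ht
        exact ⟨fun l => q l • w, by simp [Finset.sum_smul, smul_smul, mul_comm]⟩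
      · rintro u u' ⟨z, rfl⟩ ⟨z', rfl⟩
        exact ⟨z + z', by simp [Finset.sum_add_distrib]⟩
    refine ⟨∑ l, (biproduct.ι (fun _ : Fin N => G.obj (op (n + s))) l).app (U : X.Opens) (z l), ?_⟩
    refine QCohMod.app_injective_of_mono (kernel.ι _) (U : X.Opens) ?_
    rw [map_sum, map_sum, ← hz]
    refine Finset.sum_congr rfl fun l _ => ?_
    exact (congr(($(hv n l)).app (U : X.Opens) (z l))).trans (smulMod_app _ (a l) (U : X.Opens) _)
  let β₀ : Fin r → ∀ n, D (n + s) ⟶ G.obj (op n) := fun j n =>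
    biproduct.desc fun l => sysMap G (Nat.le_add_right n s) ≫ Formal.smulMod A _ (b j l)
  have hwd : ∀ j n, kernel.ι (v n) ≫ β₀ j n = 0 := fun j n => by
    have hk := he₂ c (φ j) N a (fun l => Ideal.pow_le_pow_right (Nat.le_add_right c e) (ha' l))
      (fun l => phi_mem (φ j) (Ideal.pow_le_pow_right (by omega) (ha' l))) n (n + s) (Nat.le_add_right n s)
      (by omega)
    have h0 : kernel.ι (v n) ≫ biproduct.desc (fun l => Formal.smulMod A (G.obj (op (n + s))) (a l)) = 0 := by
      rw [show biproduct.desc (fun l => Formal.smulMod A (G.obj (op (n + s))) (a l)) = v n ≫ kernel.ι _ from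
        (kernel.lift_ι _ _ _).symm, kernel.condition_assoc, zero_comp]
    rw [← kernel.lift_ι _ _ h0, Category.assoc]
    exact (congrArg _ hk).trans comp_zero
  let β : Fin r → ∀ n, kerTo G s (n + s) (Nat.le_add_left s n) ⟶ G.obj (op n) := fun j n =>
    haveI := hepi n
    Abelian.epiDesc (v n) (β₀ j n) (hwd j n)
  have hβ : ∀ j n, v n ≫ β j n = β₀ j n := fun j n =>
    haveI := hepi n
    Abelian.comp_epiDesc _ _ _
  refine ⟨s, β, fun j n => ?_, fun n => ?_⟩
  · have := hepi (n + 1)
    have htr : v (n + 1) ≫ kerTr s n =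
        biproduct.map (fun _ => sysMap G (show n + s ≤ n + 1 + s by omega)) ≫ v n := by
      rw [← cancel_mono (kernel.ι _)]
      refine biproduct.hom_ext' _ _ fun l => ?_
      simp only [Category.assoc, kerTr, kernel.lift_ι, biproduct.ι_map_assoc]
      rw [hv, ← Category.assoc (v (n + 1)), ← Category.assoc, hv]
      exact (smulMod_naturality _ _).symm
    rw [← cancel_epi (v (n + 1)), ← Category.assoc, hβ, ← Category.assoc, htr, Category.assoc, hβ]
    refine biproduct.hom_ext' _ _ fun l => ?_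
    simp only [β₀, biproduct.ι_desc_assoc, biproduct.ι_map_assoc, biproduct.ι_desc, Category.assoc]
    rw [← smulMod_naturality, ← Category.assoc, ← Category.assoc, sysMap_comp, sysMap_comp]
  · have := hepi n
    rw [← cancel_epi (v n), Preadditive.comp_sum]
    simp only [reassoc_of% hβ]
    refine biproduct.hom_ext' _ _ fun l => ?_
    rw [Preadditive.comp_sum, reassoc_of% hv n l]
    simp only [β₀, biproduct.ι_desc_assoc, Category.assoc]
    rw [← Preadditive.comp_sum, ← smulMod_naturality]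
    congr 1
    rw [show a l = ∑ j, g j * b j l from hφ ⟨a l, _⟩,
      show Formal.smulMod A (G.obj (op n)) (∑ j, g j * b j l) = ∑ j, Formal.smulMod A (G.obj (op n)) (g j * b j l)
        from map_sum (AddMonoidHom.mk' (Formal.smulMod A (G.obj (op n))) (smulMod_add (G.obj (op n)))) _ _]
    exact Finset.sum_congr rfl fun j _ => (smulMod_mul _ (g j) (b j l)).symm

end Groth.CohDev.CdOne
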