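import Groth.Agent.CohDev.CdOneFormal
import Mathlib.RingTheory.MvPolynomial.Homogeneous
import Mathlib.Data.Fin.Tuple.NatAntidiagonal

/-!
# The graded contraction on the limit of a coherent formal module
-/

universe u

open CategoryTheory CategoryTheory.Limits AlgebraicGeometry Opposite TopologicalSpace

namespace Groth.CohDev.CdOne

open Groth.CohC3

variable {A : Type u} [CommRing A] {X : Scheme.{u}} [X.Over (Spec (CommRingCat.of A))] {I : Ideal A}

lemma smulMod_sum {ι : Type*} (s : Finset ι) (M : X.Modules) (a : ι → A) :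
    Formal.smulMod A M (∑ l ∈ s, a l) = ∑ l ∈ s, Formal.smulMod A M (a l) :=
  map_sum (AddMonoidHom.mk' (Formal.smulMod A M) (smulMod_add M)) a s

section Pairing

variable [IsNoetherianRing A] (F : X.Modules) (K : ℕ)

/-- Compatible contractions give maps out of `I^K F`. -/
theorem exists_pairing {ι : Type} [Fintype ι] (χ : ι → ↥(I ^ K) →ₗ[A] A)
    (hker : ∀ (d : ι) (N : ℕ) (a : Fin N → A) (ha : ∀ l, a l ∈ I ^ K),
      kernel.ι (biproduct.desc fun l => Formal.smulMod A F (a l)) ≫
        (biproduct.desc fun l => Formal.smulMod A F (χ d ⟨a l, ha l⟩)) = 0) :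
    ∃ Ψ : Formal2.idealPowMod I K F ⟶ ⨁ (fun _ : ι => F),
      (∀ (g : A) (hg : g ∈ I ^ K) (γ : F ⟶ Formal2.idealPowMod I K F),
        γ ≫ Formal2.idealPowModι I K F = Formal.smulMod A F g →
          γ ≫ Ψ = biproduct.lift fun d => Formal.smulMod A F (χ d ⟨g, hg⟩)) ∧
      (∀ c : ι → A, (∀ g : ↥(I ^ K), ∑ d, c d * χ d g = g) →
        Ψ ≫ biproduct.desc (fun d => Formal.smulMod A F (c d)) = Formal2.idealPowModι I K F) ∧
      ∀ Ψ' : Formal2.idealPowMod I K F ⟶ ⨁ (fun _ : ι => F),
        (∀ (g : A) (hg : g ∈ I ^ K) (γ : F ⟶ Formal2.idealPowMod I K F),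
          γ ≫ Formal2.idealPowModι I K F = Formal.smulMod A F g →
            γ ≫ Ψ' = biproduct.lift fun d => Formal.smulMod A F (χ d ⟨g, hg⟩)) → Ψ' = Ψ := by
  obtain ⟨N, a, hspan⟩ := Submodule.fg_iff_exists_fin_generating_family.1
    (IsNoetherian.noetherian (I ^ K : Ideal A))
  have ha : ∀ l, a l ∈ I ^ K := fun l => hspan ▸ Submodule.subset_span ⟨l, rfl⟩
  let v : (⨁ fun _ : Fin N => F) ⟶ Formal2.idealPowMod I K F :=
    kernel.lift _ (biproduct.desc fun l => Formal.smulMod A F (a l)) (by
      refine biproduct.hom_ext' _ _ fun l => ?_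
      rw [biproduct.ι_desc_assoc, comp_zero]
      exact (mem_annHom _ _).1 ((isQuot_modPowπ I K F).le_ann (ha l)))
  have hv : ∀ l, biproduct.ι (fun _ : Fin N => F) l ≫ v ≫ Formal2.idealPowModι I K F =
      Formal.smulMod A F (a l) := fun l => by
    simp only [v, kernel.lift_ι, biproduct.ι_desc]
  -- a map with the property of a member is a combination of the generating ones
  have hγ : ∀ (g : A) (_ : g ∈ I ^ K) (γ : F ⟶ Formal2.idealPowMod I K F),
      γ ≫ Formal2.idealPowModι I K F = Formal.smulMod A F g → ∀ q : Fin N → A, ∑ l, q l * a l = g →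
        γ = ∑ l, Formal.smulMod A F (q l) ≫ biproduct.ι (fun _ : Fin N => F) l ≫ v := by
    intro g _ γ h q hq
    rw [← cancel_mono (Formal2.idealPowModι I K F), h, Preadditive.sum_comp, ← hq, smulMod_sum]
    refine Finset.sum_congr rfl fun l _ => ?_
    simp only [Category.assoc, hv]
    rw [mul_comm, smulMod_mul]
  have hepi : Epi v := by
    let W : ↥(I ^ K) → (F ⟶ ⨁ fun _ : Fin N => F) := fun g =>
      ∑ l, Formal.smulMod A F (((Submodule.mem_span_range_iff_exists_fun A).1
        (hspan.symm ▸ g.2 : (g : A) ∈ Submodule.span A (Set.range a))).choose l) ≫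
          biproduct.ι (fun _ : Fin N => F) l
    have hfac : Sigma.desc W ≫ v = Abelian.factorThruImage (Formal.smulFamily (I ^ K) F) := by
      refine Sigma.hom_ext _ _ fun g => ?_
      rw [colimit.ι_desc_assoc]
      change W g ≫ v = _
      simp only [W, Preadditive.sum_comp, Category.assoc]
      refine (hγ (g : A) g.2 _ ?_ _ ((Submodule.mem_span_range_iff_exists_fun A).1
        (hspan.symm ▸ g.2 : (g : A) ∈ Submodule.span A (Set.range a))).choose_spec).symm
      rw [Category.assoc]
      refine (congrArg (Sigma.ι (fun _ : ↥(I ^ K) => F) g ≫ ·) (Abelian.image.fac _)).trans ?_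
      exact colimit.ι_desc _ _
    have hep : Epi (Abelian.factorThruImage (Formal.smulFamily (I ^ K) F)) := inferInstance
    have : Epi (Sigma.desc W ≫ v) := by rw [hfac]; exact hep
    exact epi_of_epi (Sigma.desc W) v
  let β₀ : (⨁ fun _ : Fin N => F) ⟶ ⨁ (fun _ : ι => F) :=
    biproduct.lift fun d => biproduct.desc fun l => Formal.smulMod A F (χ d ⟨a l, ha l⟩)
  have hwd : kernel.ι v ≫ β₀ = 0 := by
    refine biproduct.hom_ext _ _ fun d => ?_
    have h0 : kernel.ι v ≫ biproduct.desc (fun l => Formal.smulMod A F (a l)) = 0 := by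
      rw [show biproduct.desc (fun l => Formal.smulMod A F (a l)) = v ≫ Formal2.idealPowModι I K F from
        (kernel.lift_ι _ _ _).symm, kernel.condition_assoc, zero_comp]
    rw [Category.assoc, biproduct.lift_π, zero_comp, ← kernel.lift_ι _ _ h0, Category.assoc]
    exact (congrArg _ (hker d N a ha)).trans comp_zero
  have hΨι : ∀ l, biproduct.ι (fun _ : Fin N => F) l ≫ v ≫ Abelian.epiDesc v β₀ hwd =
      biproduct.lift fun d => Formal.smulMod A F (χ d ⟨a l, ha l⟩) := fun l => by
    rw [Abelian.comp_epiDesc]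
    refine biproduct.hom_ext _ _ fun d => ?_
    simp only [β₀, Category.assoc, biproduct.lift_π, biproduct.ι_desc]
  refine ⟨Abelian.epiDesc v β₀ hwd, fun g hg γ h => ?_, fun c hc => ?_, fun Ψ' h' => ?_⟩
  · obtain ⟨q, hq⟩ := (Submodule.mem_span_range_iff_exists_fun A).1
      (hspan.symm ▸ hg : g ∈ Submodule.span A (Set.range a))
    rw [hγ g hg γ h q hq, Preadditive.sum_comp]
    refine biproduct.hom_ext _ _ fun d => ?_
    rw [Preadditive.sum_comp, biproduct.lift_π]
    have e : (⟨g, hg⟩ : ↥(I ^ K)) = ∑ l, q l • (⟨a l, ha l⟩ : ↥(I ^ K)) :=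
      Subtype.ext (by simp [← hq])
    rw [e, map_sum, smulMod_sum]
    refine Finset.sum_congr rfl fun l _ => ?_
    simp only [Category.assoc, reassoc_of% (hΨι l), biproduct.lift_π, map_smul, smul_eq_mul]
    rw [mul_comm, smulMod_mul]
  · rw [← cancel_epi v]
    refine biproduct.hom_ext' _ _ fun l => ?_
    rw [reassoc_of% (hΨι l), hv, biproduct.lift_desc]
    refine Eq.trans ?_ (congrArg (Formal.smulMod A F) (hc ⟨a l, ha l⟩))
    rw [smulMod_sum]
    exact Finset.sum_congr rfl fun d _ => (smulMod_mul F (c d) (χ d ⟨a l, ha l⟩)).symm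
  · rw [← cancel_epi v]
    refine biproduct.hom_ext' _ _ fun l => ?_
    rw [hΨι, ← Category.assoc]
    exact h' (a l) (ha l) _ ((Category.assoc _ _ _).trans (hv l))

end Pairing

/-- The uniform bound for contractions on the limit. -/
theorem exists_limit_bound [AlgebraicGeometry.IsNoetherian X] {G : ℕᵒᵖ ⥤ X.Modules}
    (hG : Formal.IsCohFormal I G) :
    ∃ e, ∀ (c : ℕ) (φ : ↥(I ^ c) →ₗ[A] A) (N : ℕ) (a : Fin N → A) (ha : ∀ l, a l ∈ I ^ c),
      (∀ l, φ ⟨a l, ha l⟩ ∈ I ^ e) →
        kernel.ι (biproduct.desc fun l => Formal.smulMod A (limit G) (a l)) ≫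
          (biproduct.desc fun l => Formal.smulMod A (limit G) (φ ⟨a l, ha l⟩)) = 0 := by
  obtain ⟨e, he⟩ := exists_kernel_bound hG
  refine ⟨e, fun c φ N a ha hb => ?_⟩
  refine limit.hom_ext fun n => ?_
  obtain ⟨n⟩ := n
  let m := n + c + e
  let P : (⨁ fun _ : Fin N => limit G) ⟶ ⨁ fun _ : Fin N => G.obj (op m) :=
    biproduct.map fun _ => limit.π G (op m)
  have h1 : P ≫ biproduct.desc (fun l => Formal.smulMod A (G.obj (op m)) (a l)) =
      biproduct.desc (fun l => Formal.smulMod A (limit G) (a l)) ≫ limit.π G (op m) := by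
    refine biproduct.hom_ext' _ _ fun l => ?_
    simp only [P, biproduct.ι_map_assoc, biproduct.ι_desc, biproduct.ι_desc_assoc]
    exact smulMod_naturality _ _
  have h2 : P ≫ biproduct.desc (fun l => sysMap G (show n ≤ m by omega) ≫
      Formal.smulMod A (G.obj (op n)) (φ ⟨a l, ha l⟩)) =
      biproduct.desc (fun l => Formal.smulMod A (limit G) (φ ⟨a l, ha l⟩)) ≫ limit.π G (op n) := by
    refine biproduct.hom_ext' _ _ fun l => ?_
    simp only [P, biproduct.ι_map_assoc, biproduct.ι_desc, biproduct.ι_desc_assoc]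
    rw [limit.w_assoc]
    exact smulMod_naturality _ _
  have h0 : (kernel.ι (biproduct.desc fun l => Formal.smulMod A (limit G) (a l)) ≫ P) ≫
      biproduct.desc (fun l => Formal.smulMod A (G.obj (op m)) (a l)) = 0 := by
    rw [Category.assoc, h1, kernel.condition_assoc, zero_comp]
  rw [zero_comp, Category.assoc, ← h2, ← Category.assoc, ← kernel.lift_ι _ _ h0, Category.assoc]
  exact (congrArg _ (he c φ N a ha hb n m _ le_rfl)).trans comp_zero

/-- A homogeneous polynomial is evaluated by its coefficients at the tuples of that degree. -/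
lemma aeval_eq_sum_tuple {r : ℕ} (f : Fin r → A) {n : ℕ} (p : MvPolynomial (Fin r) A)
    (hp : p.IsHomogeneous n) : MvPolynomial.aeval f p =
      ∑ e : ↥(Finset.Nat.antidiagonalTuple r n),
        (∏ j, f j ^ (e.1 j)) * MvPolynomial.coeff (Finsupp.equivFunOnFinite.symm e.1) p := by
  classical
  rw [MvPolynomial.aeval_def, MvPolynomial.eval₂_eq', Algebra.algebraMap_self]
  symm
  rw [Finset.sum_coe_sort (Finset.Nat.antidiagonalTuple r n) fun e =>
    (∏ j, f j ^ (e j)) * MvPolynomial.coeff (Finsupp.equivFunOnFinite.symm e) p]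
  refine (Finset.sum_map (Finset.Nat.antidiagonalTuple r n) Finsupp.equivFunOnFinite.symm.toEmbedding
    (fun d => (∏ j, f j ^ (d j)) * MvPolynomial.coeff d p)).symm.trans ?_
  refine (Finset.sum_subset (fun d hd => ?_) fun d _ hd => ?_).symm.trans
    (Finset.sum_congr rfl fun d _ => mul_comm _ _)
  · rw [Finset.mem_map]
    refine ⟨Finsupp.equivFunOnFinite d, Finset.Nat.mem_antidiagonalTuple.2 ?_, by simp⟩
    have := hp (MvPolynomial.mem_support_iff.1 hd)
    rw [Finsupp.weight_apply, Finsupp.sum_fintype] at this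
    · simpa using this
    · simp
  · rw [MvPolynomial.notMem_support_iff.1 hd, mul_zero]

end Groth.CohDev.CdOne
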