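import Groth.Agent.CohC3.FormalModuleKill
import Groth.Agent.LocCohTransform.GradedMap

/-!
# Contracting a formal module with a map `I^c → A`

For a linear map `φ : I^c → A` and a formal module `G` there is a bound `e` such that
`Σ a_l x_l ↦ Σ φ(a_l) x_l` is well defined from `I^(c+e) G_m` to `G_n` whenever `n + c + e ≤ m`.
-/

universe u v

open Submodule

namespace Groth.CohDev.CdOne

open Groth.CohC3

lemma phi_mem {A : Type u} [CommRing A] {I : Ideal A} {c : ℕ} (φ : ↥(I ^ c) →ₗ[A] A) {m : ℕ} {a : A}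
    (ha : a ∈ I ^ (c + m)) : φ ⟨a, Ideal.pow_le_pow_right (Nat.le_add_right c m) ha⟩ ∈ I ^ m := by
  have h : a ∈ I ^ m * I ^ c := by rwa [← pow_add, add_comm]
  exact LocCohTransform.GradedMap.phi_mem (fun _ : Fin 1 => φ) 0 h

variable {R : Type u} [CommRing R] [IsNoetherianRing R] {A : Type u} [CommRing A] (θ : A →+* R)
  {I : Ideal A} {G : ℕ → Type v} [∀ l, AddCommGroup (G l)] [∀ l, Module R (G l)]
  (S : FMod (I.map θ) G) [Module.Finite R (G 0)]

local notation "R̂" => AdicCompletion (Ideal.map θ I) R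

/-- The contraction is well defined with a uniform loss. -/
theorem exists_bound : ∃ e, ∀ (c : ℕ) (φ : ↥(I ^ c) →ₗ[A] A) n m (h : n ≤ m), n + c + e ≤ m →
    ∀ (N : ℕ) (a : Fin N → A) (ha : ∀ l, a l ∈ I ^ c), (∀ l, φ ⟨a l, ha l⟩ ∈ I ^ e) →
      ∀ x : Fin N → G m, ∑ l, θ (a l) • x l = 0 → ∑ l, θ (φ ⟨a l, ha l⟩) • S.tr h (x l) = 0 := by
  obtain ⟨p, ⟨𝒢⟩⟩ := S.exists_gens
  have : IsNoetherianRing R̂ := Groth.Calg1.isNoetherianRing_adicCompletion _ (IsNoetherian.noetherian _)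
  let Z : Submodule R̂ (Fin p → R̂) :=
    { carrier := {v | ∀ l, 𝒢.val l v = 0}
      add_mem' := fun hv hw l => by rw [𝒢.val_add, hv, hw, add_zero]
      zero_mem' := fun l => 𝒢.val_zero l
      smul_mem' := fun x v hv l => by rw [𝒢.val_smul, hv, smul_zero] }
  let ρ : A →+* R̂ := (algebraMap R R̂).comp θ
  obtain ⟨e, he⟩ := LocCohTransform.GradedMap.exists_pow_inf_torsion (N := (Fin p → R̂) ⧸ Z) (I.map ρ)
  refine ⟨e, fun c φ n m hnm hm N a ha hb x hx => ?_⟩
  choose v hv using fun l => 𝒢.val_surjective m (x l)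
  have hval : ∀ j (b : Fin N → A), 𝒢.val j (∑ l, ρ (b l) • v l) = ∑ l, θ (b l) • 𝒢.val j (v l) :=
    fun j b => by
      rw [show 𝒢.val j = ⇑(AddMonoidHom.mk' (𝒢.val j) (𝒢.val_add j)) from rfl, map_sum]
      exact Finset.sum_congr rfl fun l _ => 𝒢.val_algebraMap_smul j (θ (b l)) (v l)
  -- the combination vanishes up to `J^(m+1)` and families vanishing everywhere
  obtain ⟨z, hz, hdiff⟩ := 𝒢.exists_sub_mem_of_val_eq_zero m (∑ l, ρ (a l) • v l)
    (by rw [hval]; simp only [hv]; exact hx)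
  have hu : (∑ l, ρ (a l) • v l) - z ∈ ((I ^ (m + 1)).map ρ • ⊤ : Submodule R̂ (Fin p → R̂)) := by
    rw [pi_eq_sum_univ' ((∑ l, ρ (a l) • v l) - z)]
    refine Submodule.sum_mem _ fun i _ => Submodule.smul_mem_smul ?_ trivial
    rw [← Ideal.map_map, Ideal.map_pow θ I]
    exact hdiff i
  -- contracting such elements
  have key : ∀ u ∈ ((I ^ (m + 1)).map ρ • ⊤ : Submodule R̂ (Fin p → R̂)),
      ∃ u' ∈ ((I ^ (n + 1 + e)).map ρ • ⊤ : Submodule R̂ (Fin p → R̂)),
        ∀ h (hh : h ∈ I ^ c), ρ h • u' = ρ (φ ⟨h, hh⟩) • u := by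
    intro u hu
    refine Submodule.smul_induction_on hu (fun r hr w _ => ?_) ?_
    · induction hr using Submodule.span_induction with
      | mem r hr =>
        obtain ⟨b, hb, rfl⟩ := hr
        have hb' : b ∈ I ^ (c + (n + 1 + e)) := Ideal.pow_le_pow_right (by omega) hb
        refine ⟨ρ (φ ⟨b, Ideal.pow_le_pow_right (Nat.le_add_right c _) hb'⟩) • w,
          smul_mem_smul (Ideal.mem_map_of_mem _ (phi_mem φ hb')) trivial, fun h hh => ?_⟩
        rw [← mul_smul, ← mul_smul, ← map_mul, ← map_mul, ← smul_eq_mul, ← map_smul, mul_comm (φ _) b,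
          ← smul_eq_mul b, ← map_smul]
        exact congrArg (fun z => ρ (φ z) • w) (Subtype.ext (mul_comm h b))
      | zero => exact ⟨0, zero_mem _, fun h hh => by rw [zero_smul, smul_zero, smul_zero]⟩
      | add r r' _ _ hr hr' =>
        obtain ⟨u₁, hu₁, h₁⟩ := hr
        obtain ⟨u₂, hu₂, h₂⟩ := hr'
        exact ⟨u₁ + u₂, add_mem hu₁ hu₂, fun h hh => by rw [smul_add, h₁, h₂, add_smul, smul_add]⟩
      | smul t r _ hr =>
        obtain ⟨u₁, hu₁, h₁⟩ := hr
        exact ⟨t • u₁, Submodule.smul_mem _ _ hu₁, fun h hh => by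
          rw [smul_comm, h₁, smul_eq_mul, mul_smul t r, smul_comm t]⟩
    · rintro u₁ u₂ ⟨w₁, hw₁, h₁⟩ ⟨w₂, hw₂, h₂⟩
      exact ⟨w₁ + w₂, add_mem hw₁ hw₂, fun h hh => by rw [smul_add, h₁, h₂, smul_add]⟩
  obtain ⟨u', hu', hu''⟩ := key _ hu
  let b : Fin N → A := fun l => φ ⟨a l, ha l⟩
  have hmemJ : ∀ {k} {w : Fin p → R̂}, w ∈ ((I ^ k).map ρ • ⊤ : Submodule R̂ (Fin p → R̂)) →
      ∀ i, w i ∈ (((I.map θ) ^ k).map (algebraMap R R̂)) := by
    intro k w hw i
    rw [← Ideal.map_pow θ I, Ideal.map_map]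
    exact Submodule.smul_induction_on hw (fun r hr w _ => Ideal.mul_mem_right _ _ hr)
      (fun _ _ h h' => add_mem h h')
  -- the difference is torsion and small, hence zero
  have hy : Z.mkQ ((∑ l, ρ (b l) • v l) - u') = 0 := by
    refine he c _ ?_ fun r hr => ?_
    · have hmem : (∑ l, ρ (b l) • v l) - u' ∈ ((I.map ρ) ^ e • ⊤ : Submodule R̂ (Fin p → R̂)) := by
        refine sub_mem (Submodule.sum_mem _ fun l _ => smul_mem_smul ?_ trivial) ?_
        · rw [← Ideal.map_pow]; exact Ideal.mem_map_of_mem _ (hb l)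
        · rw [← Ideal.map_pow]
          exact smul_mono_left (Ideal.map_mono (Ideal.pow_le_pow_right (by omega))) hu'
      have := Submodule.mem_map_of_mem (f := Z.mkQ) hmem
      rw [Submodule.map_smul''] at this
      exact Submodule.smul_mono le_rfl le_top this
    · rw [← Ideal.map_pow] at hr
      induction hr using Submodule.span_induction with
      | mem r hr =>
        obtain ⟨h, hh, rfl⟩ := hr
        rw [← map_smul, mkQ_apply, Quotient.mk_eq_zero, smul_sub, hu'' h hh, Finset.smul_sum]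
        have e1 : ∀ l, ρ h • ρ (b l) • v l = ρ (φ ⟨h, hh⟩) • ρ (a l) • v l := fun l => by
          simp only [b]
          rw [← mul_smul, ← mul_smul, ← map_mul, ← map_mul, ← smul_eq_mul, ← map_smul,
            mul_comm (φ _) (a l), ← smul_eq_mul (a l), ← map_smul]
          exact congrArg (fun z => ρ (φ z) • v l) (Subtype.ext (mul_comm h (a l)))
        rw [Finset.sum_congr rfl fun l _ => e1 l, ← Finset.smul_sum, ← smul_sub, sub_sub_cancel]
        exact Z.smul_mem _ hz
      | zero => rw [zero_smul]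
      | add r r' _ _ h h' => rw [add_smul, h, h', add_zero]
      | smul t r _ h => rw [smul_eq_mul, mul_smul, h, smul_zero]
  have h0 := (Quotient.mk_eq_zero Z).1 hy n
  rw [𝒢.val_sub, hval, 𝒢.val_eq_zero_of_mem n u' (hmemJ (smul_mono_left (Ideal.map_mono
    (Ideal.pow_le_pow_right (Nat.le_add_right (n + 1) e))) hu')), sub_zero] at h0
  exact (Finset.sum_congr rfl fun l _ => by rw [← hv l, 𝒢.tr_val]).trans h0

end Groth.CohDev.CdOne
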