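import Groth.Agent.CohDev.CdOneFormal
import Groth.Agent.PicAux.AbLES
import Mathlib.Algebra.Homology.ShortComplex.ShortExact

/-!
# Families vanishing at a fixed level are divisible

With contractions, a compatible family of cohomology classes vanishing at level `s` is a combination
`Σ g_j y_j` of compatible families.
-/

universe u

open CategoryTheory CategoryTheory.Limits AlgebraicGeometry Opposite TopologicalSpace

namespace Groth.CohDev.CdOne

open Groth.CohC3

variable {A : Type u} [CommRing A] [IsNoetherianRing A] {X : Scheme.{u}}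
  [X.Over (Spec (CommRingCat.of A))] [AlgebraicGeometry.IsNoetherian X] {I : Ideal A}
  {G : ℕᵒᵖ ⥤ X.Modules}

variable (G) in
/-- `0 → K → G_m → G_s → 0`. -/
noncomputable abbrev kerSeq (s m : ℕ) (h : s ≤ m) : ShortComplex X.Modules :=
  ShortComplex.mk (kernel.ι (sysMap G h)) (sysMap G h) (kernel.condition _)

omit [IsNoetherianRing A] [AlgebraicGeometry.IsNoetherian X] in
lemma shortExact_kerSeq (hG : Formal.IsCohFormal I G) (s m : ℕ) (h : s ≤ m) : (kerSeq G s m h).ShortExact where
  exact := ShortComplex.exact_of_f_is_kernel _ (kernelIsKernel _)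
  mono_f := inferInstanceAs (Mono (kernel.ι _))
  epi_g := ((isSys_of_isCohFormal hG).isQuot h).epi

variable (G) in
/-- The maps between the sequences. -/
noncomputable def seqTr (s n : ℕ) :
    kerSeq G s (n + 1 + s) (Nat.le_add_left s _) ⟶ kerSeq G s (n + s) (Nat.le_add_left s n) where
  τ₁ := kerTr s n
  τ₂ := sysMap G (show n + s ≤ n + 1 + s by omega)
  τ₃ := 𝟙 _
  comm₁₂ := kernel.lift_ι _ _ _
  comm₂₃ := (sysMap_comp G _ _).trans (Category.comp_id _).symm

/-- A compatible family vanishing at level `s` comes from a compatible family in the kernels. -/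
theorem exists_lift_family (hG : Formal.IsCohFormal I G) (s p : ℕ)
    (x : ∀ n, Coh.HH X (G.obj (op n)) p)
    (hx : ∀ i j (h : i ≤ j), hmap A (sysMap G h) p (x j) = x i) (hxs : x s = 0) :
    ∃ y : ∀ n, Coh.HH X (kerTo G s (n + s) (Nat.le_add_left s n)) p,
      (∀ n, hmap A (kernel.ι _) p (y n) = x (n + s)) ∧ ∀ n, hmap A (kerTr s n) p (y (n + 1)) = y n := by
  have hS := fun n => shortExact_kerSeq hG s (n + s) (Nat.le_add_left s n)
  have hex : ∀ n, ∃ y, hmap A (kernel.ι _) p y = x (n + s) := fun n =>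
    exists_of_hmap_g_eq_zero (A := A) (hS n) (x (n + s)) ((hx s (n + s) (Nat.le_add_left s n)).trans hxs)
  have step : ∀ n (yn : Coh.HH X (kerTo G s (n + s) (Nat.le_add_left s n)) p),
      hmap A (kernel.ι _) p yn = x (n + s) → ∃ y', hmap A (kernel.ι _) p y' = x (n + 1 + s) ∧
        hmap A (kerTr s n) p y' = yn := by
    intro n yn hyn
    obtain ⟨y', hy'⟩ := hex (n + 1)
    have hd : hmap A (kernel.ι _) p (hmap A (kerTr s n) p y' - yn) = 0 := by
      rw [map_sub, hmap_comp, show kerTr s n ≫ kernel.ι _ = kernel.ι _ ≫ sysMap G _ from kernel.lift_ι _ _ _,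
        ← hmap_comp, hy', hx (n + s) (n + 1 + s) (by omega), hyn, sub_self]
    cases p with
    | zero =>
      refine ⟨y', hy', sub_eq_zero.1 ?_⟩
      exact (PicAux.AbLES.hmap_f_zero_injective (CohBase.shortExact_toAb (hS n))) (hd.trans (map_zero _).symm)
    | succ q =>
      obtain ⟨e, he⟩ := exists_hdelta_eq (A := A) (hS n) _ hd
      refine ⟨y' - hdelta (hS (n + 1)) q e, ?_, ?_⟩
      · rw [map_sub, hy']
        exact (congrArg (x (n + 1 + s) - ·) (hmap_f_hdelta (A := A) (hS (n + 1)) e)).trans (sub_zero _)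
      · have h1 : hmap A (kerTr s n) (q + 1) (hdelta (hS (n + 1)) q e) = hdelta (hS n) q e :=
          (hdelta_naturality (A := A) (hS (n + 1)) (hS n) (seqTr G s n) e).trans
            (congrArg (hdelta (hS n) q) (hmap_id _ _ e))
        rw [map_sub, h1, he, sub_sub_cancel]
  choose nxt hn₁ hn₂ using step
  obtain ⟨y₀, hy₀⟩ := hex 0
  let Y : ∀ n, {y : Coh.HH X (kerTo G s (n + s) (Nat.le_add_left s n)) p //
      hmap A (kernel.ι _) p y = x (n + s)} := fun n =>
    Nat.rec (motive := fun n => {y : Coh.HH X (kerTo G s (n + s) (Nat.le_add_left s n)) p //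
      hmap A (kernel.ι _) p y = x (n + s)}) ⟨y₀, hy₀⟩ (fun n y => ⟨nxt n y.1 y.2, hn₁ n y.1 y.2⟩) n
  exact ⟨fun n => (Y n).1, fun n => (Y n).2, fun n => hn₂ n (Y n).1 (Y n).2⟩

/-- **Divisibility of families vanishing at a fixed level.** -/
theorem exists_level (hG : Formal.IsCohFormal I G) {c r : ℕ} (g : Fin r → A)
    (φ : Fin r → ↥(I ^ c) →ₗ[A] A) (hφ : ∀ x : ↥(I ^ c), (x : A) = ∑ j, g j * φ j x) (p : ℕ) :
    ∃ s : ℕ, ∀ x : ∀ n, Coh.HH X (G.obj (op n)) p,
      (∀ n, Formal2.HHsysMap G p n (x (n + 1)) = x n) → x s = 0 →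
        ∃ y : Fin r → ∀ n, Coh.HH X (G.obj (op n)) p,
          (∀ j n, Formal2.HHsysMap G p n (y j (n + 1)) = y j n) ∧ x = ∑ j, g j • y j := by
  obtain ⟨s, β, hnat, hsum⟩ := exists_contraction hG g φ hφ
  refine ⟨s, fun x hx hxs => ?_⟩
  have hx' : ∀ i j (h : i ≤ j), hmap A (sysMap G h) p (x j) = x i := fun i j h => by
    induction j, h using Nat.le_induction with
    | base => rw [sysMap_refl, hmap_id]
    | succ k hk ih =>
      rw [← sysMap_comp G hk (Nat.le_succ k), ← hmap_comp,
        show hmap A (sysMap G (Nat.le_succ k)) p (x (k + 1)) = x k from hx k, ih]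
  obtain ⟨y, hy, hytr⟩ := exists_lift_family hG s p x hx' hxs
  refine ⟨fun j n => hmap A (β j n) p (y n), fun j n => ?_, funext fun n => ?_⟩
  · show hmap A (sysMap G (Nat.le_succ n)) p (hmap A (β j (n + 1)) p (y (n + 1))) = _
    rw [hmap_comp, hnat, ← hmap_comp, hytr]
  · rw [← hx' n (n + s) (Nat.le_add_right n s), ← hy n, hmap_comp, ← hsum, Finset.sum_apply]
    have hadd : ∀ (M N : X.Modules) (y : Coh.HH X M p) (t : Fin r → (M ⟶ N)),
        hmap A (∑ j, t j) p y = ∑ j, hmap A (t j) p y := fun M N y t => by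
      refine map_sum (AddMonoidHom.mk' (fun u : M ⟶ N => hmap A u p y) fun u u' => ?_) t _
      change ((Sheaf.functorH _ p).map ((CohBase.toAbF X).map (u + u'))).hom y = _
      rw [Functor.map_add, Functor.map_add]
      rfl
    rw [hadd]
    exact Finset.sum_congr rfl fun j _ => by rw [← hmap_comp, hmap_smulMod]; rfl

end Groth.CohDev.CdOne
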