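import Groth.Agent.CohC3.HMap
import Groth.Agent.CohC3.FullyFaithful
import Groth.Agent.CohC3.Smul
import Groth.Agent.CohC3.ProperHelpers
import Groth.Agent.QCohMod.Coherent
import Mathlib.LinearAlgebra.FiniteDimensional.Lemmas

/-! Dimensions of cohomology along an exact sequence of coherent modules. -/

universe u

open CategoryTheory CategoryTheory.Limits AlgebraicGeometry

namespace Groth.CohDev.ExactDim

open Groth.CohC3 (hmap hdelta)

variable {k : Type u} [Field k] {X : Scheme.{u}} [X.Over (Spec (CommRingCat.of k))]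

lemma finrank_le_of_exact {A B C : Type*} [AddCommGroup A] [Module k A] [AddCommGroup B] [Module k B]
    [AddCommGroup C] [Module k C] [Module.Finite k A] [Module.Finite k B] [Module.Finite k C]
    (f : A →ₗ[k] B) (g : B →ₗ[k] C) (h : ∀ b, g b = 0 → ∃ a, f a = b) :
    Module.finrank k B ≤ Module.finrank k A + Module.finrank k C := by
  have h1 := g.finrank_range_add_finrank_ker
  have h2 : Module.finrank k (LinearMap.range g) ≤ Module.finrank k C := Submodule.finrank_le _
  have h3 : Module.finrank k (LinearMap.ker g) ≤ Module.finrank k (LinearMap.range f) :=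
    Submodule.finrank_mono fun b hb => h b hb
  have h4 := f.finrank_range_le
  omega

variable {S : ShortComplex X.Modules} (hS : S.ShortExact)

/-- The connecting map is linear. -/
noncomputable def hdeltaL (p : ℕ) : Coh.HH X S.X₃ p →ₗ[k] Coh.HH X S.X₁ (p + 1) where
  toFun := hdelta hS p
  map_add' := map_add _
  map_smul' a x := by
    let φ : S ⟶ S :=
      { τ₁ := Formal.smulMod k S.X₁ a
        τ₂ := Formal.smulMod k S.X₂ a
        τ₃ := Formal.smulMod k S.X₃ a
        comm₁₂ := (CohC3.smulMod_naturality S.f a).symm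
        comm₂₃ := (CohC3.smulMod_naturality S.g a).symm }
    have h := CohC3.hdelta_naturality (A := k) hS hS φ x
    rw [CohC3.hmap_smulMod, CohC3.hmap_smulMod] at h
    exact h.symm

variable [IsProper (X ↘ Spec (CommRingCat.of k))]

include hS

lemma finrank_mid_le (h1 : Coh.IsCoh S.X₁) (h2 : Coh.IsCoh S.X₂) (h3 : Coh.IsCoh S.X₃) (p : ℕ) :
    Module.finrank k (Coh.HH X S.X₂ p) ≤
      Module.finrank k (Coh.HH X S.X₁ p) + Module.finrank k (Coh.HH X S.X₃ p) :=
  have := CohC3.finite_HH_of_proper k X h1 p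
  have := CohC3.finite_HH_of_proper k X h2 p
  have := CohC3.finite_HH_of_proper k X h3 p
  finrank_le_of_exact (hmap k S.f p) (hmap k S.g p) fun x hx => CohC3.exists_of_hmap_g_eq_zero hS x hx

lemma finrank_left_le (h1 : Coh.IsCoh S.X₁) (h2 : Coh.IsCoh S.X₂) (h3 : Coh.IsCoh S.X₃) (p : ℕ) :
    Module.finrank k (Coh.HH X S.X₁ (p + 1)) ≤
      Module.finrank k (Coh.HH X S.X₃ p) + Module.finrank k (Coh.HH X S.X₂ (p + 1)) :=
  have := CohC3.finite_HH_of_proper k X h1 (p + 1)
  have := CohC3.finite_HH_of_proper k X h2 (p + 1)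
  have := CohC3.finite_HH_of_proper k X h3 p
  finrank_le_of_exact (hdeltaL hS p) (hmap k S.f (p + 1)) fun x hx => CohC3.exists_hdelta_eq (A := k) hS x hx

lemma finrank_left_zero_le (h1 : Coh.IsCoh S.X₁) (h2 : Coh.IsCoh S.X₂) :
    Module.finrank k (Coh.HH X S.X₁ 0) ≤ Module.finrank k (Coh.HH X S.X₂ 0) := by
  have := CohC3.finite_HH_of_proper k X h1 0
  have := CohC3.finite_HH_of_proper k X h2 0
  refine (hmap k S.f 0).finrank_le_finrank_of_injective ((injective_iff_map_eq_zero _).2 fun x hx => ?_)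
  have := hS.mono_f
  have e := CohC3.secEquiv₀_hmap (A := k) S.f x
  rw [hx, map_zero] at e
  refine (CohC3.secEquiv₀ S.X₁).injective ?_
  rw [map_zero]
  exact CohTwo.app_injective S.f ⊤ (e.symm.trans (map_zero _).symm)

omit hS

variable (C : ℕ → X.Modules) (hC : ∀ j, Coh.IsCoh (C j)) (d : ∀ j, C j ⟶ C (j + 1))
  (hd : ∀ j, d j ≫ d (j + 1) = 0) (hex : ∀ j, (ShortComplex.mk (d j) (d (j + 1)) (hd j)).Exact)

omit [IsProper (X ↘ Spec (CommRingCat.of k))] in
include hex in
lemma epi_lift (j : ℕ) : Epi (kernel.lift (d (j + 1)) (d j) (hd j)) :=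
  (ShortComplex.exact_iff_epi_kernel_lift _).1 (hex j)

omit [IsProper (X ↘ Spec (CommRingCat.of k))] in
include hex in
lemma shortExact_kernel (j : ℕ) :
    (ShortComplex.mk (kernel.ι (d j)) (kernel.lift (d (j + 1)) (d j) (hd j))
      (by rw [← cancel_mono (kernel.ι (d (j + 1))), Category.assoc, kernel.lift_ι, kernel.condition, zero_comp])).ShortExact := by
  have := epi_lift C d hd hex j
  refine ShortComplex.ShortExact.mk ?_
  refine ShortComplex.exact_of_f_is_kernel _ ?_
  exact KernelFork.IsLimit.ofι _ _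
    (fun {W} g hg => kernel.lift (d j) g (by
      rw [← kernel.lift_ι (d (j + 1)) (d j) (hd j), ← Category.assoc, hg, zero_comp]))
    (fun {W} g hg => kernel.lift_ι _ _ _)
    (fun {W} g hg m hm => by rw [← cancel_mono (kernel.ι (d j)), hm, kernel.lift_ι])

omit [IsProper (X ↘ Spec (CommRingCat.of k))] in
include hex in
lemma shortExact_first [Mono (d 0)] :
    (ShortComplex.mk (d 0) (kernel.lift (d 2) (d 1) (hd 1))
      (by rw [← cancel_mono (kernel.ι (d 2)), Category.assoc, kernel.lift_ι, hd, zero_comp])).ShortExact := by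
  have := epi_lift C d hd hex 1
  refine ShortComplex.ShortExact.mk ?_
  let S := ShortComplex.mk (d 0) (kernel.lift (d 2) (d 1) (hd 1))
      (by rw [← cancel_mono (kernel.ι (d 2)), Category.assoc, kernel.lift_ι, hd, zero_comp])
  let φ : S ⟶ ShortComplex.mk (d 0) (d 1) (hd 0) :=
    { τ₁ := 𝟙 _
      τ₂ := 𝟙 _
      τ₃ := kernel.ι (d 2)
      comm₁₂ := by simp [S]
      comm₂₃ := by simp [S] }
  exact (ShortComplex.exact_iff_of_epi_of_isIso_of_mono φ).2 (hex 0)

include hC hex in
lemma finrank_kernel_le (q : ℕ) : ∀ j : ℕ, Module.finrank k (Coh.HH X (kernel (d j)) q) ≤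
    ∑ t ∈ Finset.range (q + 1), Module.finrank k (Coh.HH X (C (j + t)) (q - t)) := by
  have := CohC3.isNoetherian_of_proper k X
  have hK : ∀ j, Coh.IsCoh (kernel (d j)) := fun j => by
    have := (hC (j + 1)).1
    exact QCohMod.isCoh_kernel (d j) (hC j)
  induction q with
  | zero =>
    intro j
    rw [Finset.sum_range_one, Nat.sub_zero, add_zero]
    have h := finrank_left_zero_le (k := k) (shortExact_kernel C d hd hex j) (hK j) (hC j)
    exact h
  | succ q ih =>
    intro j
    have h := finrank_left_le (k := k) (shortExact_kernel C d hd hex j) (hK j) (hC j) (hK (j + 1)) q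
    refine h.trans ?_
    rw [Finset.sum_range_succ' _ (q + 1), add_zero j, Nat.sub_zero]
    refine Nat.add_le_add ((ih (j + 1)).trans (le_of_eq (Finset.sum_congr rfl fun t _ => ?_))) (le_refl _)
    rw [Nat.succ_sub_succ, add_assoc j 1 t, add_comm 1 t]

include hC hex in
theorem abs_finrank_sub_le [Mono (d 0)] (i : ℕ) :
    |(Module.finrank k (Coh.HH X (C 0) i) : ℤ) - (Module.finrank k (Coh.HH X (C 1) i) : ℤ)| ≤
      (Finset.Icc 1 (i + 1)).sum (fun j => ((Module.finrank k (Coh.HH X (C (j + 1)) (i + 1 - j))) : ℤ)) +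
        (Finset.Icc 1 i).sum (fun j => ((Module.finrank k (Coh.HH X (C (j + 1)) (i - j))) : ℤ)) := by
  have := CohC3.isNoetherian_of_proper k X
  have hS := shortExact_first C d hd hex
  have hK : Coh.IsCoh (kernel (d 2)) := by
    have := (hC 3).1
    exact QCohMod.isCoh_kernel (d 2) (hC 2)
  have hsum : ∀ q, ∑ t ∈ Finset.range q, (Module.finrank k (Coh.HH X (C (2 + t)) (q - 1 - t)) : ℤ) =
      (Finset.Icc 1 q).sum (fun j => ((Module.finrank k (Coh.HH X (C (j + 1)) (q - j))) : ℤ)) := by
    intro q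
    rw [show Finset.Icc 1 q = (Finset.range q).map (addRightEmbedding 1) from by
      ext a; simp only [Finset.mem_Icc, Finset.mem_map, Finset.mem_range, addRightEmbedding_apply]
      exact ⟨fun h => ⟨a - 1, by omega, by omega⟩, fun ⟨b, hb, e⟩ => by omega⟩, Finset.sum_map]
    refine Finset.sum_congr rfl fun t _ => ?_
    rw [addRightEmbedding_apply, show t + 1 + 1 = 2 + t from by omega,
      show q - (t + 1) = q - 1 - t from by omega]
  rw [← hsum, ← hsum, Nat.add_sub_cancel]
  simp only [← Nat.cast_sum]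
  have hm := finrank_mid_le (k := k) hS (hC 0) (hC 1) hK i
  have hk := finrank_kernel_le (k := k) C hC d hd hex i 2
  cases i with
  | zero =>
    have hl := finrank_left_zero_le (k := k) hS (hC 0) (hC 1)
    dsimp only at hl hm
    simp only [Nat.reduceAdd, Nat.zero_add] at hl hm hk ⊢
    simp only [Nat.zero_add, Finset.sum_range_one, Finset.sum_range_zero, Nat.sub_zero, add_zero] at hk ⊢
    rw [abs_le]
    push_cast
    zify at hl hm hk
    have e20 : Module.finrank k (Coh.HH X (C (2 + 0)) 0) = Module.finrank k (Coh.HH X (C 2) 0) := rfl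
    omega
  | succ i =>
    have hl := finrank_left_le (k := k) hS (hC 0) (hC 1) hK i
    have hk' := finrank_kernel_le (k := k) C hC d hd hex i 2
    dsimp only at hl hm
    simp only [Nat.reduceAdd, Nat.zero_add] at hl hm hk ⊢
    rw [abs_le]
    push_cast
    zify at hl hm hk hk'
    have e : ∑ x ∈ Finset.range (i + 1), (Module.finrank k (Coh.HH X (C (2 + x)) (i + 1 - 1 - x)) : ℤ) =
        ∑ x ∈ Finset.range (i + 1), (Module.finrank k (Coh.HH X (C (2 + x)) (i - x)) : ℤ) :=
      Finset.sum_congr rfl fun x _ => by rw [Nat.add_sub_cancel]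
    rw [e]
    omega

end Groth.CohDev.ExactDim
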