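import Groth.Agent.SiteCohomology.ExtBasic
import Mathlib.CategoryTheory.Preadditive.Injective.Basic

/-!
# `Ext` into a product of a class of objects whose cosyzygy sequences stay exact in products
-/

universe w v u t

open CategoryTheory Limits

namespace Groth.CohDev

open Abelian Groth.SiteCohomology

variable {C : Type u} [Category.{v} C] [Abelian C] [HasExt.{w} C] [EnoughInjectives C]
  {α : Type t} [HasProductsOfShape α C]

/-- `Ext` into a product is the product, on a class closed under cosyzygies with exact products. -/
theorem bijective_ext_product (Good : (α → C) → Prop)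
    (hepi : ∀ F, Good F → Epi (Limits.Pi.map fun i => cokernel.π (Injective.ι (F i))))
    (hnext : ∀ F, Good F → Good fun i => cokernel (Injective.ι (F i)))
    (X : C) : ∀ (n : ℕ) (F : α → C), Good F →
      Function.Bijective (fun (x : Ext X (∏ᶜ F) n) (i : α) => x.comp (Ext.mk₀ (Pi.π F i)) (add_zero n)) := by
  intro n
  induction n with
  | zero =>
    intro F _
    constructor
    · intro a b hab
      obtain ⟨f, rfl⟩ := (Ext.mk₀_bijective _ _).2 a
      obtain ⟨g, rfl⟩ := (Ext.mk₀_bijective _ _).2 b
      refine congrArg Ext.mk₀ (Limits.Pi.hom_ext _ _ fun i => (Ext.mk₀_bijective _ _).1 ?_)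
      simpa using congr_fun hab i
    · intro a
      choose f hf using fun i => (Ext.mk₀_bijective _ _).2 (a i)
      exact ⟨Ext.mk₀ (Pi.lift f), funext fun i => by simp [← hf i]⟩
  | succ n ih =>
    intro F hF
    let ι : ∏ᶜ F ⟶ ∏ᶜ fun i => Injective.under (F i) := Limits.Pi.map fun i => Injective.ι (F i)
    let q : (∏ᶜ fun i => Injective.under (F i)) ⟶ ∏ᶜ fun i => cokernel (Injective.ι (F i)) :=
      Limits.Pi.map fun i => cokernel.π (Injective.ι (F i))
    have w : ι ≫ q = 0 := by ext i; simp [ι, q]
    let S : ShortComplex C := ShortComplex.mk ι q w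
    have hex : S.Exact := by
      refine ShortComplex.exact_of_f_is_kernel _ (KernelFork.IsLimit.ofι' _ _ fun {W} k hk => ?_)
      have hki : ∀ i, (k ≫ Pi.π _ i) ≫ cokernel.π (Injective.ι (F i)) = 0 := fun i => by
        have h := congrArg (fun z => z ≫ Pi.π _ i) hk
        simpa [q, S] using h
      exact ⟨Pi.lift fun i => Abelian.monoLift (Injective.ι (F i)) _ (hki i),
        by ext i; simp [ι, S, Abelian.monoLift_comp]⟩
    have hS : S.ShortExact := ShortComplex.ShortExact.mk' hex (inferInstanceAs (Mono ι)) (hepi F hF)
    haveI : Injective S.X₂ := inferInstanceAs (Injective (∏ᶜ fun i => Injective.under (F i)))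
    haveI : Subsingleton (Ext X S.X₂ (n + 1)) := Ext.subsingleton_of_injective _ _ n
    let φ : ∀ i, S ⟶ injSES (F i) := fun i =>
      { τ₁ := Pi.π _ i, τ₂ := Pi.π _ i, τ₃ := Pi.π _ i
        comm₁₂ := by simp [S, ι]
        comm₂₃ := by simp [S, q] }
    have key : ∀ (z : Ext X S.X₃ n) (i : α),
        (z.comp hS.extClass rfl).comp (Ext.mk₀ (Pi.π F i)) (add_zero (n + 1)) =
          (z.comp (Ext.mk₀ (Pi.π (fun i => cokernel (Injective.ι (F i))) i)) (add_zero n)).comp
            (injSES_shortExact (F i)).extClass rfl := fun z i => by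
      rw [Ext.comp_assoc_of_third_deg_zero, Ext.comp_assoc_of_second_deg_zero,
        ShortComplex.ShortExact.extClass_naturality hS (injSES_shortExact (F i)) (φ i)]
    have hb := ih _ (hnext F hF)
    constructor
    · intro a b hab
      rw [← sub_eq_zero]
      have hx : ∀ i, (a - b).comp (Ext.mk₀ (Pi.π F i)) (add_zero (n + 1)) = 0 := fun i => by
        have h := congr_fun hab i
        dsimp only at h
        rw [sub_eq_add_neg, Ext.add_comp, Ext.neg_comp, h, add_neg_cancel]
      generalize a - b = x at hx ⊢
      obtain ⟨z, rfl⟩ := ext_surjective_postcomp_extClass hS X n x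
      simp only [key] at hx
      choose v hv using fun i => Ext.covariant_sequence_exact₃ X (injSES_shortExact (F i)) _ _ (hx i)
      obtain ⟨v', rfl⟩ : ∃ v' : Ext X S.X₂ n, v'.comp (Ext.mk₀ q) (add_zero n) = z := by
        cases n with
        | zero =>
          choose g hg using fun i => (Ext.mk₀_bijective _ _).2 (v i)
          refine ⟨Ext.mk₀ (Pi.lift g), hb.1 (funext fun i => ?_)⟩
          simp [q, ← hv i, ← hg i]
        | succ m =>
          refine ⟨0, hb.1 (funext fun i => ?_)⟩
          haveI : Subsingleton (Ext X (injSES (F i)).X₂ (m + 1)) :=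
            haveI : Injective (injSES (F i)).X₂ := inferInstanceAs (Injective (Injective.under (F i)))
            Ext.subsingleton_of_injective _ _ m
          have hz := (hv i).symm
          rw [Subsingleton.elim (v i) 0, Ext.zero_comp] at hz
          simpa using hz.symm
      exact (Ext.comp_assoc_of_second_deg_zero _ _ _ _).trans (by rw [hS.comp_extClass]; simp)
    · intro a
      have hz : ∀ i, ∃ z : Ext X (injSES (F i)).X₃ n,
          z.comp (injSES_shortExact (F i)).extClass rfl = a i := fun i =>
        haveI : Injective (injSES (F i)).X₂ := inferInstanceAs (Injective (Injective.under (F i)))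
        haveI : Subsingleton (Ext X (injSES (F i)).X₂ (n + 1)) := Ext.subsingleton_of_injective _ _ n
        ext_surjective_postcomp_extClass (injSES_shortExact (F i)) X n (a i)
      choose zs hzs using hz
      obtain ⟨z, hz⟩ := hb.2 zs
      refine ⟨z.comp hS.extClass rfl, funext fun i => ?_⟩
      change (z.comp hS.extClass rfl).comp (Ext.mk₀ (Pi.π F i)) (add_zero (n + 1)) = a i
      rw [key, ← hzs i, ← hz]

end Groth.CohDev
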