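import Groth.Agent.QCohMod.FPColimit
import Groth.Agent.CohBase.GlobalSections
import Groth.Agent.CohTwo.ColimStalk
import Groth.Agent.FlatMor2.ColimCoh.Space

/-!
Cohomology of a quasi-coherent module through its submodules of finite type.
-/

universe u

open CategoryTheory CategoryTheory.Limits AlgebraicGeometry Opposite TopologicalSpace

namespace Groth.CohDev

open Groth.QCohMod

variable {X : Scheme.{u}}

/-- The good sheaves of submodules. -/
def GoodSub (F : X.Modules) [F.IsQuasicoherent] : Type u := {P : SubMod F // P.GoodOn ⊤}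

variable {F : X.Modules} [F.IsQuasicoherent]

instance : PartialOrder (GoodSub F) where
  le a b := ∀ W s, s ∈ a.1.mem W → s ∈ b.1.mem W
  le_refl a W s h := h
  le_trans a b c h h' W s hs := h' W s (h W s hs)
  le_antisymm a b h h' := Subtype.ext (SubMod.ext' fun W => le_antisymm (h W) (h' W))

/-- The inclusion of good submodules. -/
noncomputable def incl {a b : GoodSub F} (h : a ≤ b) : a.1.toMod ⟶ b.1.toMod :=
  Abelian.monoLift b.1.ι a.1.ι <| Groth.CohTwo.hom_ext_app fun W s => by
    obtain ⟨t, ht⟩ := b.1.exists_ι_app_eq _ (h W _ (a.1.ι_app_mem s))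
    change (cokernel.π b.1.ι).app W (a.1.ι.app W s) = 0
    rw [← ht]
    exact congr(($(cokernel.condition b.1.ι)).app W t)

@[reassoc (attr := simp)]
lemma incl_ι {a b : GoodSub F} (h : a ≤ b) : incl h ≫ b.1.ι = a.1.ι := Abelian.monoLift_comp _ _ _

variable (F) in
/-- The diagram of good submodules. -/
noncomputable def diagram : GoodSub F ⥤ X.Modules where
  obj a := a.1.toMod
  map h := incl (leOfHom h)
  map_id a := by rw [← cancel_mono a.1.ι, incl_ι, Category.id_comp]
  map_comp {a b c} h h' := by rw [← cancel_mono c.1.ι, incl_ι, Category.assoc, incl_ι, incl_ι]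

variable (F) in
/-- The cocone of good submodules. -/
noncomputable def cocone : Cocone (diagram F) where
  pt := F
  ι :=
    { app := fun a => a.1.ι
      naturality := fun a b h => (incl_ι (leOfHom h)).trans (Category.comp_id _).symm }

instance : Nonempty (GoodSub F) := ⟨⟨SubMod.zero F, SubMod.zero_goodOn F⟩⟩

instance : IsDirected (GoodSub F) (· ≤ ·) := ⟨fun a b => by
  obtain ⟨ha, hat⟩ := SubMod.isQCoh_toMod a.2
  obtain ⟨hb, hbt⟩ := SubMod.isQCoh_toMod b.2
  let f : a.1.toMod ⊞ b.1.toMod ⟶ F := biprod.desc a.1.ι b.1.ι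
  refine ⟨⟨SubMod.imgOf f, SubMod.imgOf_goodOn f (isFT_biprod hat hbt)⟩, fun W s hs => ?_,
    fun W s hs => ?_⟩
  · obtain ⟨t, rfl⟩ := a.1.exists_ι_app_eq s hs
    have : f.app W ((biprod.inl : a.1.toMod ⟶ _).app W t) = a.1.ι.app W t :=
      congr(($(biprod.inl_desc a.1.ι b.1.ι)).app W t)
    exact this ▸ SubMod.app_mem_imgOf f _
  · obtain ⟨t, rfl⟩ := b.1.exists_ι_app_eq s hs
    have : f.app W ((biprod.inr : b.1.toMod ⟶ _).app W t) = b.1.ι.app W t :=
      congr(($(biprod.inr_desc a.1.ι b.1.ι)).app W t)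
    exact this ▸ SubMod.app_mem_imgOf f _⟩

variable (F) in
/-- On a qcqs scheme a quasi-coherent module is the colimit of its good submodules. -/
theorem isColimit_cocone [CompactSpace X] [QuasiSeparatedSpace X] :
    Nonempty (IsColimit (cocone F)) := by
  have hDq : ∀ a, ((diagram F).obj a).IsQuasicoherent := fun a => (SubMod.isQCoh_toMod a.2).1
  let c := colimit.cocone (diagram F)
  let hc : IsColimit c := colimit.isColimit _
  have : c.pt.IsQuasicoherent := isQCoh_of_isColimit _ c hc
  let θ : c.pt ⟶ F := hc.desc (cocone F)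
  have hfac : ∀ a, coc c a ≫ θ = a.1.ι := hc.fac (cocone F)
  have hθ : IsIso θ := isIso_of_affine_bijective θ fun V hV => by
    refine ⟨(injective_iff_map_eq_zero _).2 fun z hz => ?_, fun s => ?_⟩
    · obtain ⟨a, d, rfl⟩ := exists_app_eq_affine hc hV z
      have h1 : (coc c a ≫ θ).app V d = 0 := hz
      rw [hfac] at h1
      rw [show d = 0 from a.1.ι_app_injective V (h1.trans (map_zero _).symm), map_zero]
    · obtain ⟨P, hP, hs⟩ := exists_good_sub_mem F hV s
      obtain ⟨t, ht⟩ := P.exists_ι_app_eq s hs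
      refine ⟨(coc c (⟨P, hP⟩ : GoodSub F)).app V t, ?_⟩
      change (coc c (⟨P, hP⟩ : GoodSub F) ≫ θ).app V t = s
      rw [hfac]
      exact ht
  exact ⟨IsColimit.ofIsoColimit hc (Cocone.ext (@asIso _ _ _ _ θ hθ) hfac)⟩

variable (F) in
/-- If the submodules of finite type have no cohomology in degree `n`, nor has the module. -/
theorem subsingleton_HH_of_goodSub [CompactSpace X] [QuasiSeparatedSpace X] (n : ℕ)
    (h : ∀ a : GoodSub F, Subsingleton (Coh.HH X a.1.toMod n)) : Subsingleton (Coh.HH X F n) := by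
  obtain ⟨hc⟩ := isColimit_cocone F
  haveI : CompactSpace ↑X.toTopCat := ‹CompactSpace X›
  haveI : QuasiSeparatedSpace ↑X.toTopCat := ‹QuasiSeparatedSpace X›
  haveI : PrespectralSpace ↑X.toTopCat := inferInstanceAs (PrespectralSpace X)
  haveI := Groth.CohTwo.preservesColimitsOfShape_toSheaf (X := X) (GoodSub F)
  have hc' := isColimitOfPreserves (SheafOfModules.toSheaf.{u} X.ringCatSheaf) hc
  let T := (Sheaf.cohomologyPresheafFunctor (Opens.grothendieckTopology X.toTopCat) n).flip.obj (op ⊤)
  have hp : PreservesColimit (diagram F ⋙ SheafOfModules.toSheaf.{u} X.ringCatSheaf) T :=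
    Groth.FlatMor2.ColimCoh.preservesColimit_HU_space (X := X.toTopCat) ⊤ isCompact_univ
      (isQuasiSeparated_univ_iff.2 inferInstance) n _
  have hz : IsZero (T.obj ((SheafOfModules.toSheaf.{u} X.ringCatSheaf).obj F)) := by
    rw [IsZero.iff_id_eq_zero]
    refine (hp.preserves hc').some.hom_ext fun a => ?_
    haveI : Subsingleton ↑(T.obj ((SheafOfModules.toSheaf.{u} X.ringCatSheaf).obj a.1.toMod)) :=
      (Groth.CohBase.subsingleton_H_iff (X := X.toTopCat) _ n).1 (h a)
    exact (AddCommGrpCat.isZero_of_subsingleton (T.obj ((SheafOfModules.toSheaf.{u} X.ringCatSheaf).obj a.1.toMod))).eq_of_src _ _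
  exact (Groth.CohBase.subsingleton_H_iff (X := X.toTopCat) _ n).2 (AddCommGrpCat.subsingleton_of_isZero hz)

end Groth.CohDev
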