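import Groth.Agent.CohDev.Steps

/-!
Coherent modules are iterated extensions of ideals of integral closed subschemes.
-/

set_option autoImplicit false
universe u

open CategoryTheory CategoryTheory.Limits AlgebraicGeometry TopologicalSpace Opposite

namespace Groth.CohDev

open Groth.CohTwo

variable {X : Scheme.{u}}

/-- Direct images of nonzero ideals of integral closed subschemes. -/
def IsPiece (Q : X.Modules) : Prop :=
  ∃ (Z : Scheme.{u}) (i : Z ⟶ X), IsClosedImmersion i ∧ IsIntegral Z ∧
    ∃ (I : Z.Modules) (ι : I ⟶ Coh.structureModule Z), Mono ι ∧ Coh.IsQCoh I ∧ ¬ IsZero I ∧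
      Nonempty (Q ≅ (Coh.push i).obj I)

theorem IsPiece.of_iso {Q Q' : X.Modules} (h : IsPiece Q) (e : Q' ≅ Q) : IsPiece Q' := by
  obtain ⟨Z, i, h1, h2, I, ι, h3, h4, h5, ⟨e'⟩⟩ := h
  exact ⟨Z, i, h1, h2, I, ι, h3, h4, h5, ⟨e ≪≫ e'⟩⟩

/-- A finite chain with pieces as quotients. -/
inductive Filtered : X.Modules → Prop
  | zero {M : X.Modules} (hM : IsZero M) (hc : Coh.IsCoh M) : Filtered M
  | step {N M : X.Modules} (φ : N ⟶ M) [Mono φ] (hN : Filtered N) (hc : Coh.IsCoh M)
      (hq : IsPiece (cokernel φ)) : Filtered M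

theorem Filtered.isCoh {M : X.Modules} (h : Filtered M) : Coh.IsCoh M := by
  cases h with
  | zero _ hc => exact hc
  | step φ _ hc _ => exact hc

theorem Filtered.of_iso {M M' : X.Modules} (h : Filtered M) (e : M ≅ M') (hc : Coh.IsCoh M') :
    Filtered M' := by
  cases h with
  | zero hM _ => exact .zero (hM.of_iso e.symm) hc
  | step φ hN _ hq => exact .step (φ ≫ e.hom) hN hc (hq.of_iso (cokernelCompIsIso φ e.hom))

theorem Filtered.ext [IsNoetherian X] {M₃ : X.Modules} (h₃ : Filtered M₃) :
    ∀ {M₁ M₂ : X.Modules} (f : M₁ ⟶ M₂) (g : M₂ ⟶ M₃) (w : f ≫ g = 0),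
      (ShortComplex.mk f g w).ShortExact → Filtered M₁ → Coh.IsCoh M₂ → Filtered M₂ := by
  induction h₃ with
  | zero hM _ =>
    intro M₁ M₂ f g w hS h₁ h₂
    haveI : IsIso f := hS.isIso_f_iff.2 hM
    exact h₁.of_iso (asIso f) h₂
  | @step N M φ hφ hN hc hq ih =>
    intro M₁ M₂ f g w hS h₁ h₂
    haveI := hS.mono_f
    haveI : Epi g := hS.epi_g
    haveI := hφ
    let π := g ≫ cokernel.π φ
    let k := kernel.ι π
    let g' : kernel π ⟶ N := (Abelian.monoLift φ (k ≫ g) (by rw [Category.assoc, kernel.condition]))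
    have hg' : g' ≫ φ = k ≫ g := Abelian.monoLift_comp _ _ _
    let f' : M₁ ⟶ kernel π := kernel.lift π f (by rw [← Category.assoc, w, zero_comp])
    have hf' : f' ≫ k = f := kernel.lift_ι _ _ _
    have w' : f' ≫ g' = 0 := by
      rw [← cancel_mono φ, Category.assoc, hg', ← Category.assoc, hf', w, zero_comp]
    have hS' : (ShortComplex.mk f' g' w').ShortExact := by
      haveI : Mono f' := mono_of_mono_fac hf'
      have hlim : IsLimit (KernelFork.ofι f' w') :=
        KernelFork.IsLimit.ofι' f' w' fun {W} t ht => by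
          refine ⟨hS.fIsKernel.lift (KernelFork.ofι (t ≫ k) (by
            change (t ≫ k) ≫ g = 0
            rw [Category.assoc, ← hg', ← Category.assoc, ht, zero_comp])), ?_⟩
          rw [← cancel_mono k, Category.assoc, hf']
          exact hS.fIsKernel.fac _ WalkingParallelPair.zero
      have hP : IsPullback k g' g φ := by
        refine IsPullback.of_isLimit' ⟨hg'.symm⟩ (PullbackCone.IsLimit.mk _
          (fun s => kernel.lift π s.fst (by
            rw [← Category.assoc, s.condition, Category.assoc, cokernel.condition, comp_zero]))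
          (fun s => kernel.lift_ι _ _ _)
          (fun s => by
            rw [← cancel_mono φ, Category.assoc, hg', ← Category.assoc, kernel.lift_ι, s.condition])
          (fun s m h1 _ => by rw [← cancel_mono k, h1, kernel.lift_ι]))
      haveI : Epi g' := Abelian.epi_snd_of_isLimit _ _ hP.isLimit
      exact { exact := ShortComplex.exact_of_f_is_kernel _ hlim }
    haveI := hN.isCoh.1
    haveI := (Groth.QCohMod.isCoh_cokernel φ hc).1
    have hK : Coh.IsCoh (kernel π) := Groth.QCohMod.isCoh_kernel π h₂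
    have ec : cokernel k ≅ cokernel φ :=
      IsColimit.coconePointUniqueUpToIso (cokernelIsCokernel k)
        (Abelian.epiIsCokernelOfKernel (KernelFork.ofι k (kernel.condition π)) (kernelIsKernel π))
    haveI : Epi π := epi_comp _ _
    exact .step k (ih f' g' w' hS' h₁ hK) h₂ (hq.of_iso ec)

theorem Filtered.chain {M : X.Modules} (h : Filtered M) :
    ∃ (m : ℕ) (F : ℕ → X.Modules) (φ : (j : ℕ) → (F j ⟶ F (j + 1))),
      IsZero (F 0) ∧ Nonempty (F m ≅ M) ∧ (∀ j ≤ m, Coh.IsCoh (F j)) ∧ ∀ j < m, Mono (φ j) ∧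
        IsPiece (cokernel (φ j)) := by
  induction h with
  | @zero M hM hc =>
    exact ⟨0, fun _ => M, fun _ => 𝟙 M, hM, ⟨Iso.refl _⟩, fun _ _ => hc, fun j hj => absurd hj (by omega)⟩
  | @step N M φ₀ hφ hN hc hq ih =>
    obtain ⟨m, F, φ, h0, ⟨e⟩, hcoh, hp⟩ := ih
    haveI := hφ
    let F' : ℕ → X.Modules := fun j => if j ≤ m then F j else M
    let φ' : (j : ℕ) → (F' j ⟶ F' (j + 1)) := fun j =>
      if hj : j + 1 ≤ m then
        eqToHom (if_pos (by omega)) ≫ φ j ≫ eqToHom (if_pos hj).symm
      else if hj' : j = m then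
        eqToHom ((if_pos (le_of_eq hj')).trans (congrArg F hj')) ≫ e.hom ≫ φ₀ ≫
          eqToHom (if_neg hj).symm
      else 0
    refine ⟨m + 1, F', φ', ?_, ⟨eqToIso (if_neg (by omega))⟩, fun j hj => ?_, fun j hj => ?_⟩
    · exact h0.of_iso (eqToIso (if_pos (Nat.zero_le m)))
    · by_cases hjm : j ≤ m
      · simp only [F', if_pos hjm]; exact hcoh j hjm
      · simp only [F', if_neg hjm]; exact hc
    · by_cases hjm : j + 1 ≤ m
      · haveI := (hp j (by omega)).1
        simp only [φ', dif_pos hjm]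
        refine ⟨inferInstance, (hp j (by omega)).2.of_iso ?_⟩
        exact cokernelEpiComp _ _ ≪≫ cokernelCompIsIso _ _
      · obtain rfl : j = m := by omega
        simp only [φ', dif_neg hjm, dif_pos]
        refine ⟨inferInstance, hq.of_iso ?_⟩
        exact cokernelEpiComp _ _ ≪≫ cokernelEpiComp _ _ ≪≫ cokernelCompIsIso _ _

end Groth.CohDev
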