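import Groth.Agent.CohTwo.PushStalkModule
import Groth.Agent.Cycles.SheafCyc
import Mathlib.AlgebraicGeometry.Morphisms.Finite

/-!
The direct image of the structure sheaf: stalks at points of the image.
-/

set_option autoImplicit false
universe u

open CategoryTheory CategoryTheory.Limits AlgebraicGeometry TopologicalSpace Opposite

namespace Groth.CohDev

set_option backward.isDefEq.respectTransparency false in
/-- `f_* O_Y` has nonzero stalks on the image of `f`. -/
theorem nontrivial_stalk_push_unit {Y X : Scheme.{u}} (f : Y ⟶ X) (y : Y) :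
    Nontrivial ↑(((Scheme.Modules.pushforward f).obj (Coh.structureModule Y)).presheaf.stalk (f y)) := by
  have hb := Groth.CohTwo.bijective_toSpanSingleton_one (X := Y) y
  haveI : Nontrivial ↑((Coh.structureModule Y).presheaf.stalk y) := hb.1.nontrivial
  let g : ↑(((Scheme.Modules.pushforward f).obj (Coh.structureModule Y)).presheaf.stalk (f y)) :=
    ((Scheme.Modules.pushforward f).obj (Coh.structureModule Y)).presheaf.germ ⊤ (f y) trivial
      (show Γ((Scheme.Modules.pushforward f).obj (Coh.structureModule Y), ⊤) from (1 : Γ(Y, f ⁻¹ᵁ ⊤)))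
  refine nontrivial_of_ne g 0 fun hg => ?_
  have h1 := congrArg (Groth.CohTwo.pushStalk f (Coh.structureModule Y) y) hg
  rw [map_zero, Groth.CohTwo.pushStalk_germ] at h1
  exact one_ne_zero (hb.1 (a₁ := (1 : Y.presheaf.stalk y)) (a₂ := 0)
    (by rw [map_zero, LinearMap.toSpanSingleton_apply, one_smul]; exact h1))

/-- Direct images of the structure sheaf of a reduced scheme are killed by the reduced ideal of any
closed set containing the image. -/
theorem killed_push_of_isReduced {W X : Scheme.{u}} [IsReduced W] (h : W ⟶ X) [IsFinite h]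
    {Y : Closeds X} (hY : Set.range h ⊆ (Y : Set X)) :
    Groth.CohTwo.Killed (Scheme.IdealSheafData.vanishingIdeal Y)
      ((Scheme.Modules.pushforward h).obj (Coh.structureModule W)) := by
  haveI := Groth.QCohMod.isQCoh_pushforward (Coh.structureModule W) h
  refine Groth.CohTwo.killed_of_smul_eq_zero fun V hV a ha m => ?_
  change h.app V a • (show Γ(Coh.structureModule W, h ⁻¹ᵁ V) from m) = 0
  suffices h0 : h.app V a = 0 by rw [h0, zero_smul]
  apply eq_zero_of_basicOpen_eq_bot
  rw [← Scheme.preimage_basicOpen h a, eq_bot_iff]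
  intro w (hw : h w ∈ X.basicOpen a)
  have hwV : h w ∈ V := X.basicOpen_le a hw
  have hsupp : h w ∈ ((Scheme.IdealSheafData.vanishingIdeal Y).support : Set X) :=
    (Scheme.IdealSheafData.coe_support_vanishingIdeal Y).ge (hY (Set.mem_range_self w))
  rw [SetLike.mem_coe, Scheme.IdealSheafData.mem_support_iff_of_mem (U := ⟨V, hV⟩) hwV,
    Scheme.mem_zeroLocus_iff] at hsupp
  exact (hsupp a ha hw).elim

end Groth.CohDev
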