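import Groth.Agent.CohTwo.PushStalkModule
import Groth.Agent.S9521
import Groth.Prelude.Def_ClSub2

/-!
Further steps of coherent dévissage: cyclic witnesses, and extensions alone.
-/

universe u

open CategoryTheory CategoryTheory.Limits AlgebraicGeometry TopologicalSpace Opposite

namespace Groth.CohDev

open Groth.CohTwo

variable {X : Scheme.{u}}

/-- An additive functor commutes with finite powers. -/
noncomputable def mapPowMod {Z : Scheme.{u}} (F : Z.Modules ⥤ X.Modules) [F.Additive]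
    (M : Z.Modules) (r : ℕ) : F.obj (powMod M r) ≅ powMod (F.obj M) r where
  hom := ∑ k, F.map (powProj M k) ≫ Sigma.ι (fun _ : Fin r => F.obj M) k
  inv := Sigma.desc fun k => F.map (Sigma.ι (fun _ : Fin r => M) k)
  hom_inv_id := by
    rw [Preadditive.sum_comp]
    refine (Finset.sum_congr rfl fun k _ => ?_).trans ((F.map_sum _ _).symm.trans
      ((congrArg F.map (powProj_total M r)).trans (F.map_id _)))
    rw [Category.assoc, Sigma.ι_desc, F.map_comp]
  inv_hom_id := by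
    refine Sigma.hom_ext _ _ fun j => ?_
    rw [Sigma.ι_desc_assoc, Category.comp_id, Preadditive.comp_sum, Finset.sum_eq_single j]
    · rw [← F.map_comp_assoc, ι_powProj, if_pos rfl, F.map_id, Category.id_comp]
    · intro i _ hi
      rw [← F.map_comp_assoc, ι_powProj, if_neg (Ne.symm hi), F.map_zero, zero_comp]
    · simp

variable [IsNoetherian X]

theorem support_middle {S : ShortComplex X.Modules} (hS : S.ShortExact) {Z : Set X}
    (h1 : CohB1.support S.X₁ ⊆ Z) (h3 : CohB1.support S.X₃ ⊆ Z) : CohB1.support S.X₂ ⊆ Z := by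
  intro x hx
  by_contra hxZ
  refine hx ?_
  have hS' := hS.map_of_exact (Groth.QCohMod.stalk x)
  have h1' : Subsingleton ↑((Groth.QCohMod.stalk x).obj S.X₁) :=
    (notMem_support_iff _ x).1 fun h => hxZ (h1 h)
  have h3' : Subsingleton ↑((Groth.QCohMod.stalk x).obj S.X₃) :=
    (notMem_support_iff _ x).1 fun h => hxZ (h3 h)
  exact AddCommGrpCat.subsingleton_of_isZero (hS'.exact.isZero_of_both_zeros
    ((AddCommGrpCat.isZero_of_subsingleton ((Groth.QCohMod.stalk x).obj S.X₁)).eq_of_src _ _)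
    ((AddCommGrpCat.isZero_of_subsingleton ((Groth.QCohMod.stalk x).obj S.X₃)).eq_of_tgt _ _))

/-- Step with a witness whose stalk is cyclic: only one implication besides extensions is needed. -/
theorem step_cyclic (P : X.Modules → Prop) (h0 : ∀ M : X.Modules, IsZero M → P M)
    {Y : Set X}
    (hext : ∀ S : ShortComplex X.Modules, S.ShortExact → Coh.IsCoh S.X₁ → Coh.IsCoh S.X₂ → Coh.IsCoh S.X₃ →
      P S.X₁ → P S.X₃ → P S.X₂)
    (hleft : ∀ S : ShortComplex X.Modules, S.ShortExact → Coh.IsCoh S.X₁ → Coh.IsCoh S.X₂ → Coh.IsCoh S.X₃ →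
      CohB1.support S.X₂ ⊆ Y → P S.X₂ → P S.X₃ → P S.X₁)
    {ξ : X} (hsmall : ∀ M : X.Modules, Coh.IsCoh M → CohB1.support M ⊆ Y →
      ξ ∉ CohB1.support M → P M)
    {G : X.Modules} (hG : Coh.IsCoh G) (hGP : P G) (hGY : CohB1.support G ⊆ Y)
    [Nontrivial ↑(G.presheaf.stalk ξ)]
    (hgen : ∃ g : ↑(G.presheaf.stalk ξ), ∀ x, ∃ a : X.presheaf.stalk ξ, a • g = x)
    (hGk : ∀ a ∈ IsLocalRing.maximalIdeal (X.presheaf.stalk ξ), ∀ m : ↑(G.presheaf.stalk ξ), a • m = 0)
    {F : X.Modules} (hF : Coh.IsCoh F) (hFY : CohB1.support F ⊆ Y)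
    (hFk : ∀ a ∈ IsLocalRing.maximalIdeal (X.presheaf.stalk ξ), ∀ m : ↑(F.presheaf.stalk ξ), a • m = 0) :
    P F := by
  obtain ⟨g, hg⟩ := hgen
  haveI := hF.1
  haveI := Groth.QCohMod.finite_stalk F hF.2 ξ
  obtain ⟨m, ⟨e⟩⟩ := exists_equiv_pow_cyclic g hg hFk hGk
  let ψ := e.symm.trans (powStalk G m ξ).symm
  have hGm := isCoh_powMod hG m
  obtain ⟨J, γ, hξJ, hγ, hbij⟩ := exists_graft hF hGm ξ ψ.toLinearMap ψ.bijective
  have hJ := isCoh_idealMul J F hF
  obtain ⟨hc1, hc2, hc3⟩ := coker_small hJ hGm γ ((support_powMod_subset G m).trans hGY) hbij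
  have hPJ : P ((Dual3.idealMul J).obj F) :=
    hleft (cokerSeq γ) (cokerSeq_shortExact γ) hJ hGm hc1 ((support_powMod_subset G m).trans hGY)
      (powMod_induction P h0 hext hG hGP m) (hsmall _ hc1 hc2 hc3)
  obtain ⟨hd1, hd2, hd3⟩ := coker_small hJ hF (Dual3.idealMulι J F) hFY
    (bijective_stalk_idealMulι J F hξJ)
  exact hext _ (cokerSeq_shortExact (Dual3.idealMulι J F)) hJ hF hd1 hPJ (hsmall _ hd1 hd2 hd3)

/-- Step through the ideals of the reduced closure. -/
theorem step_ideals (P : X.Modules → Prop) (hiso : ∀ M N : X.Modules, Nonempty (M ≅ N) → P M → P N)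
    (h0 : ∀ M : X.Modules, IsZero M → P M)
    (hext : ∀ S : ShortComplex X.Modules, S.ShortExact → Coh.IsCoh S.X₁ → Coh.IsCoh S.X₂ → Coh.IsCoh S.X₃ →
      P S.X₁ → P S.X₃ → P S.X₂)
    {Y : Closeds X} {ξ : X} (hY : (Y : Set X) = closure {ξ})
    (hideal : ∀ (Z : Scheme.{u}) (i : Z ⟶ X), IsClosedImmersion i → IsIntegral Z →
      Set.range ⇑i = (Y : Set X) → ∀ (I : Z.Modules) (ι : I ⟶ Coh.structureModule Z), Mono ι →
        Coh.IsQCoh I → P ((Coh.push i).obj I))
    (hsmall : ∀ M : X.Modules, Coh.IsCoh M → CohB1.support M ⊆ Y →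
      ξ ∉ CohB1.support M → P M)
    {F : X.Modules} (hF : Coh.IsCoh F) (hFY : CohB1.support F ⊆ Y)
    (hFk : ∀ a ∈ IsLocalRing.maximalIdeal (X.presheaf.stalk ξ), ∀ m : ↑(F.presheaf.stalk ξ), a • m = 0) :
    P F := by
  haveI := isIntegral_closure_subscheme hY
  let Z := (Scheme.IdealSheafData.vanishingIdeal Y).subscheme
  let i : Z ⟶ X := (Scheme.IdealSheafData.vanishingIdeal Y).subschemeι
  haveI : IsLocallyNoetherian Z := LocallyOfFiniteType.isLocallyNoetherian i
  have hr : Set.range i = (Y : Set X) := Groth.PropsBasic2.range_vanishingIdeal_subschemeι Y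
  have hξ : i (genericPoint Z) = ξ := apply_genericPoint_eq i (hr.trans hY)
  obtain ⟨r, I, ι, φ, hι, hI, hφ, U, hU, hiso'⟩ :=
    Groth.Agent.S9521.result X Z i F hF (by rw [hξ]; exact hFk)
  haveI := hI.1
  have hP : P ((Coh.push i).obj (powMod I r)) :=
    hiso _ _ ⟨(mapPowMod (Coh.push i) I r).symm⟩
      (powMod_induction P h0 hext (isCoh_push i hI) (hideal Z i inferInstance inferInstance hr I ι hι hI.1) r)
  have hA : Coh.IsCoh ((Coh.push i).obj (powMod I r)) := isCoh_push i (isCoh_powMod hI r)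
  haveI := hA.1
  have hc := Groth.QCohMod.isCoh_cokernel φ hF
  refine hext (cokerSeq φ) (cokerSeq_shortExact φ) hA hF hc hP
    (hsmall _ hc ((support_subset_of_epi (cokernel.π φ)).trans hFY) ?_)
  rw [← hξ]
  refine notMem_support_cokernel φ _ ?_
  haveI := hiso'
  haveI : IsIso ((Groth.QCohMod.stalk (U.ι ⟨_, hU⟩)).map φ) :=
    (NatIso.isIso_map_iff (Scheme.Modules.restrictStalkNatIso U.ι ⟨_, hU⟩) φ).1
      (by rw [Functor.comp_map]; infer_instance)
  exact (ConcreteCategory.bijective_of_isIso ((Groth.QCohMod.stalk (U.ι ⟨_, hU⟩)).map φ)).2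

end Groth.CohDev
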