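import Groth.Agent.CohTwo.PushStalkModule
import Groth.Agent.CohDev.PushUnit
import Groth.Agent.CohDev.Steps
import Mathlib.AlgebraicGeometry.FunctionField
import Mathlib.AlgebraicGeometry.Morphisms.QuasiCompact
import Mathlib.AlgebraicGeometry.Morphisms.QuasiSeparated

/-!
Coherent modules with prescribed sections over an open subset.
-/

set_option autoImplicit false
universe u

open CategoryTheory CategoryTheory.Limits AlgebraicGeometry TopologicalSpace Opposite

namespace Groth.CohDev

open Groth.QCohMod hiding res res_res res_smul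

variable {X : Scheme.{u}}

set_option backward.isDefEq.respectTransparency false in
/-- Finitely many functions on a quasi-compact open of a Noetherian scheme are global sections of a
coherent module which is the structure sheaf on that open. -/
theorem exists_coh_extend [IsNoetherian X] (W : X.Opens) {r : ℕ} (s : Fin r → Γ(X, W)) :
    ∃ (M : X.Modules) (u : Coh.structureModule X ⟶ M) (m : Fin r → Γ(M, (⊤ : X.Opens))),
      Coh.IsCoh M ∧ (∀ O' : X.Opens, O' ≤ W → Function.Bijective (u.app O')) ∧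
      ∀ i, Groth.QCohMod.res M (le_top : W ≤ ⊤) (m i) =
        u.app W (show Γ(Coh.structureModule X, W) from s i) := by
  let j := W.ι
  let N := (Scheme.Modules.pushforward j).obj (Coh.structureModule (W : Scheme.{u}))
  haveI : N.IsQuasicoherent := isQCoh_pushforward _ _
  let t : Option (Fin r) → Γ(N, (⊤ : X.Opens)) := fun o => o.elim
    (show Γ((W : Scheme.{u}), j ⁻¹ᵁ ⊤) from 1)
    (fun i => show Γ((W : Scheme.{u}), j ⁻¹ᵁ ⊤) from
      (W : Scheme.{u}).presheaf.map (eqToHom (show j ⁻¹ᵁ ⊤ = j ⁻¹ᵁ W by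
        simp [j])).op (j.app W (s i)))
  let e : Fin (r + 1) ≃ Option (Fin r) := finSuccEquiv r
  let Φ : Groth.CohTwo.powMod (Coh.structureModule X) (r + 1) ⟶ N :=
    Sigma.desc fun k => secHom N (t (e k))
  have hO : Coh.IsCoh (Coh.structureModule X) := isCoh_unit
  have hpow := Groth.CohTwo.isCoh_powMod hO (r + 1)
  haveI := hpow.1
  let M := Abelian.image Φ
  haveI : M.IsQuasicoherent := isQCoh_image Φ
  have hM : Coh.IsCoh M := ⟨inferInstance, isFT_of_epi (Abelian.factorThruImage Φ) hpow.2⟩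
  let q : Fin (r + 1) → (Coh.structureModule X ⟶ M) := fun k =>
    Sigma.ι (fun _ : Fin (r + 1) => Coh.structureModule X) k ≫ Abelian.factorThruImage Φ
  have hq : ∀ k, q k ≫ Abelian.image.ι Φ = secHom N (t (e k)) := fun k => by
    simp [q, Φ, Abelian.image.fac]
  let u := q (e.symm none)
  let m : Fin r → Γ(M, (⊤ : X.Opens)) := fun i =>
    (q (e.symm (some i))).app ⊤ (oneSec ⊤)
  have hu : ∀ (O' : X.Opens) (a : Γ(X, O')), (Abelian.image.ι Φ).app O' (u.app O' a) =
      (show Γ(N, O') from (show Γ((W : Scheme.{u}), j ⁻¹ᵁ O') from j.app O' a)) := fun O' a => by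
    rw [← ConcreteCategory.comp_apply, ← Scheme.Modules.Hom.comp_app, hq, secHom_app,
      Equiv.apply_symm_apply]
    change j.app O' a * ((W : Scheme.{u}).presheaf.map (homOfLE
      (show j ⁻¹ᵁ O' ≤ j ⁻¹ᵁ ⊤ from fun _ _ => trivial)).op 1) = _
    rw [map_one]
    exact mul_one (show Γ((W : Scheme.{u}), j ⁻¹ᵁ O') from j.app O' a)
  refine ⟨M, u, m, hM, fun O' hO' => ?_, fun i => ?_⟩
  · have hι : Function.Injective ((Abelian.image.ι Φ).app O') :=
      app_injective_of_mono (Abelian.image.ι Φ) O'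
    haveI : IsIso (j.app O') := j.isIso_app O' (by simpa [j] using hO')
    have hb : Function.Bijective (fun a : Γ(X, O') => (Abelian.image.ι Φ).app O' (u.app O' a)) := by
      simp only [hu]
      exact ConcreteCategory.bijective_of_isIso (j.app O')
    refine ⟨fun a b hab => hb.1 (congrArg _ hab), fun y => ?_⟩
    obtain ⟨a, ha⟩ := hb.2 ((Abelian.image.ι Φ).app O' y)
    exact ⟨a, hι ha⟩
  · apply app_injective_of_mono (Abelian.image.ι Φ) W
    rw [hu, ← res_app]
    have h1 : (Abelian.image.ι Φ).app ⊤ (m i) = t (some i) := by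
      simp only [m]
      rw [← ConcreteCategory.comp_apply, ← Scheme.Modules.Hom.comp_app, hq, secHom_app_one,
        Equiv.apply_symm_apply, res_self]
    rw [h1]
    have hh : ∀ (U U' : (W : Scheme.{u}).Opens) (p : U' = U) (p' : U ≤ U') (a : Γ((W : Scheme.{u}), U)),
        (W : Scheme.{u}).presheaf.map (homOfLE p').op
          ((W : Scheme.{u}).presheaf.map (eqToHom p).op a) = a := by
      rintro U _ rfl p' a
      simp
      rfl
    exact hh _ _ (show j ⁻¹ᵁ ⊤ = j ⁻¹ᵁ W by simp [j]) (fun _ _ => trivial) (j.app W (s i))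

end Groth.CohDev

namespace Groth.CohDev

open Groth.QCohMod hiding res res_res res_smul

/-- A morphism bijective on the small opens around a point is bijective on the stalk. -/
theorem bijective_stalkLin_of_bijective_app {X : Scheme.{u}} {M N : X.Modules} (φ : M ⟶ N) (x : X)
    {V : X.Opens} (hx : x ∈ V) (h : ∀ U : X.Opens, U ≤ V → Function.Bijective (φ.app U)) :
    Function.Bijective (Groth.CohTwo.stalkLin φ x) := by
  refine ⟨(injective_iff_map_eq_zero _).2 fun a ha => ?_, fun b => ?_⟩
  · obtain ⟨U, hU, s, rfl⟩ := Groth.CohTwo.stalk_exists_germ M x a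
    rw [Groth.CohTwo.stalkLin_germ] at ha
    obtain ⟨U', hxU', i₁, i₂, e⟩ :=
      TopCat.Presheaf.germ_eq N.presheaf x hU hU _ (0 : Γ(N, U)) (ha.trans (map_zero _).symm)
    have h0 : φ.app (U' ⊓ V) (Groth.QCohMod.res M (inf_le_left.trans i₁.le) s) = 0 := by
      rw [← Groth.QCohMod.res_app, ← Groth.QCohMod.res_res _ i₁.le (inf_le_left : U' ⊓ V ≤ U'),
        show Groth.QCohMod.res N i₁.le (φ.app U s) = 0 from e.trans (map_zero _), map_zero]
    rw [← Groth.CohTwo.stalk_germ_res M x (inf_le_left.trans i₁.le : U' ⊓ V ≤ U) ⟨hxU', hx⟩ s]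
    have := (h (U' ⊓ V) inf_le_right).1 (h0.trans (map_zero _).symm)
    exact (congrArg _ this).trans (map_zero _)
  · obtain ⟨U, hU, s, rfl⟩ := Groth.CohTwo.stalk_exists_germ N x b
    obtain ⟨t, ht⟩ := (h (U ⊓ V) inf_le_right).2 (Groth.QCohMod.res N inf_le_left s)
    refine ⟨M.presheaf.germ (U ⊓ V) x ⟨hU, hx⟩ t, ?_⟩
    rw [Groth.CohTwo.stalkLin_germ, ht]
    exact Groth.CohTwo.stalk_germ_res N x inf_le_left ⟨hU, hx⟩ s

end Groth.CohDev
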