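import Groth.Agent.CohDev.TildeHV
import Mathlib.RingTheory.Filtration

/-! Formal sections near `V(I)` and short exact sequences. -/

universe u

open CategoryTheory AlgebraicGeometry TopologicalSpace Opposite

namespace Groth.CohDev.TS

open Formal2 (quotPow quotPowπ quotPowTrans Admissible)

section Gen

variable {R P Q : Type u} [CommRing R] [AddCommGroup P] [Module R P] [AddCommGroup Q] [Module R Q]

lemma gen_factor_comp {p q r : Submodule R P} (hpq : p ≤ q) (hqr : q ≤ r) :
    (Submodule.factor hqr).comp (Submodule.factor hpq) = Submodule.factor (hpq.trans hqr) :=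
  Submodule.linearMap_qext _ rfl

lemma gen_factor_comp_id {p q r : Submodule R P} (h1 : p ≤ q.comap LinearMap.id) (hqr : q ≤ r) (hpr : p ≤ r) :
    (Submodule.factor hqr).comp (Submodule.mapQ p q LinearMap.id h1) = Submodule.factor hpr :=
  Submodule.linearMap_qext _ rfl

lemma gen_id_comp_factor {p q r : Submodule R P} (h1 : q ≤ r.comap LinearMap.id) (hpq : p ≤ q) (hpr : p ≤ r) :
    (Submodule.mapQ q r LinearMap.id h1).comp (Submodule.factor hpq) = Submodule.factor hpr :=
  Submodule.linearMap_qext _ rfl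

lemma gen_factor_mkQ {p q : Submodule R P} (hpq : p ≤ q) : (Submodule.factor hpq).comp p.mkQ = q.mkQ :=
  rfl

lemma gen_mapQ_mkQ (φ : P →ₗ[R] Q) {p : Submodule R P} {q : Submodule R Q} (h : p ≤ q.comap φ) :
    (Submodule.mapQ p q φ h).comp p.mkQ = q.mkQ.comp φ := rfl

lemma gen_mapQ_factor (φ : P →ₗ[R] Q) {p p' : Submodule R P} {q : Submodule R Q} (hp : p ≤ p')
    (h : p' ≤ q.comap φ) (h' : p ≤ q.comap φ) :
    (Submodule.mapQ p' q φ h).comp (Submodule.factor hp) = Submodule.mapQ p q φ h' :=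
  Submodule.linearMap_qext _ rfl

lemma gen_factor_mapQ (φ : P →ₗ[R] Q) {p : Submodule R P} {q q' : Submodule R Q} (hq : q ≤ q')
    (h : p ≤ q.comap φ) (h' : p ≤ q'.comap φ) :
    (Submodule.factor hq).comp (Submodule.mapQ p q φ h) = Submodule.mapQ p q' φ h' :=
  Submodule.linearMap_qext _ rfl

end Gen

variable {A : Type u} [CommRing A] {I : Ideal A}
  {M' M M'' : Type u} [AddCommGroup M'] [Module A M'] [AddCommGroup M] [Module A M] [AddCommGroup M''] [Module A M'']

lemma killed_quot (N : Type u) [AddCommGroup N] [Module A N] (p : Submodule A N) (n : ℕ)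
    (hp : I ^ n • ⊤ ≤ p) : ∀ a ∈ I ^ n, ∀ m : N ⧸ p, a • m = 0 := fun a ha m => by
  obtain ⟨m, rfl⟩ := Submodule.Quotient.mk_surjective p m
  rw [← Submodule.Quotient.mk_smul, Submodule.Quotient.mk_eq_zero]
  exact hp (Submodule.smul_mem_smul ha trivial)

/-- The map induced on the quotients by powers of `I`. -/
noncomputable def barMap (g : M →ₗ[A] M'') (n : ℕ) : quotPow A I M n →ₗ[A] quotPow A I M'' n :=
  Submodule.mapQ _ _ g (Submodule.map_le_iff_le_comap.1
    (by rw [Submodule.map_smul'']; exact Submodule.smul_mono le_rfl le_top))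

lemma barMap_comp_π (g : M →ₗ[A] M'') (n : ℕ) :
    (barMap (I := I) g n).comp (quotPowπ A I M n) = (quotPowπ A I M'' n).comp g := rfl

lemma barMap_comp_trans (g : M →ₗ[A] M'') (n : ℕ) :
    (barMap (I := I) g n).comp (quotPowTrans A I M n) = (quotPowTrans A I M'' n).comp (barMap g (n + 1)) :=
  Submodule.linearMap_qext _ rfl

variable [IsNoetherianRing A] (f : M' →ₗ[A] M) (g : M →ₗ[A] M'')

theorem exists_artinRees [Module.Finite A M] (hf : Function.Injective f) :
    ∃ c, ∀ n, (I ^ (n + c + 1) • ⊤ : Submodule A M).comap f ≤ I ^ (n + 1) • ⊤ := by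
  obtain ⟨k, hk⟩ := I.exists_pow_inf_eq_pow_smul (M := M) (LinearMap.range f)
  refine ⟨k, fun n x hx => ?_⟩
  have h : f x ∈ I ^ (n + k + 1) • (⊤ : Submodule A M) ⊓ LinearMap.range f := ⟨hx, x, rfl⟩
  rw [hk (n + k + 1) (by omega), show n + k + 1 - k = n + 1 by omega] at h
  have h2 : f x ∈ (I ^ (n + 1) • ⊤ : Submodule A M').map f := by
    rw [Submodule.map_smul'', Submodule.map_top]
    exact Submodule.smul_mono le_rfl inf_le_right h
  obtain ⟨x', hx', e⟩ := h2
  rwa [← hf e]

/-- The inclusion of the induced quotient of the submodule. -/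
noncomputable abbrev iotaQ (I : Ideal A) (n : ℕ) :
    M' ⧸ (I ^ (n + 1) • ⊤ : Submodule A M).comap f →ₗ[A] quotPow A I M n :=
  Submodule.mapQ _ _ f le_rfl

omit [IsNoetherianRing A] in
lemma iotaQ_injective (n : ℕ) : Function.Injective (iotaQ f I n) := by
  rw [injective_iff_map_eq_zero]
  intro x hx
  obtain ⟨x, rfl⟩ := Submodule.Quotient.mk_surjective _ x
  rw [Submodule.mapQ_apply, Submodule.Quotient.mk_eq_zero] at hx
  exact (Submodule.Quotient.mk_eq_zero _).2 hx

omit [IsNoetherianRing A] in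
lemma range_iotaQ (hg : Function.Surjective g) (hfg : LinearMap.range f = LinearMap.ker g) (n : ℕ) :
    LinearMap.range (iotaQ f I n) = LinearMap.ker (barMap (I := I) g n) := by
  ext y
  obtain ⟨y, rfl⟩ := Submodule.Quotient.mk_surjective _ y
  constructor
  · rintro ⟨x, hx⟩
    obtain ⟨x, rfl⟩ := Submodule.Quotient.mk_surjective _ x
    rw [LinearMap.mem_ker, ← hx, Submodule.mapQ_apply, barMap, Submodule.mapQ_apply]
    rw [show g (f x) = 0 from LinearMap.mem_ker.1 (hfg ▸ LinearMap.mem_range_self f x)]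
    rfl
  · intro hy
    rw [LinearMap.mem_ker, barMap, Submodule.mapQ_apply, Submodule.Quotient.mk_eq_zero,
      ← LinearMap.range_eq_top.2 hg, ← Submodule.map_top, ← Submodule.map_smul''] at hy
    obtain ⟨z, hz, hzy⟩ := hy
    obtain ⟨x, hx⟩ : y - z ∈ LinearMap.range f := by rw [hfg, LinearMap.mem_ker, map_sub, hzy, sub_self]
    refine ⟨Submodule.Quotient.mk x, ?_⟩
    rw [Submodule.mapQ_apply, Submodule.Quotient.eq, hx]
    simpa using neg_mem hz

section

omit [IsNoetherianRing A] in
lemma mem_iInf {κ : Type u} [Finite κ] {W : κ → Op A} {p : PrimeSpectrum A} :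
    p ∈ (⨅ i, W i : Op A) ↔ ∀ i, p ∈ W i := by
  exact ⟨fun h i => (iInf_le W i) h, fun h => by
    obtain ⟨V, hV⟩ : ∃ V : Op A, V.carrier = ⋂ i, (W i).carrier :=
      ⟨⟨_, isOpen_iInter_of_finite fun i => (W i).2⟩, rfl⟩
    exact (le_iInf fun i => show V ≤ W i from fun x hx => by
      have : x ∈ ⋂ i, (W i).carrier := hV ▸ hx
      exact Set.mem_iInter.1 this i) (show p ∈ V from (hV.symm ▸ Set.mem_iInter.2 h : p ∈ V.carrier))⟩

omit [IsNoetherianRing A]

lemma map_id_apply (N : Type u) [AddCommGroup N] [Module A N] (U : Op A) (s : Sec (A := A) N U) :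
    map (LinearMap.id : N →ₗ[A] N) U s = s := by
  change ((modulesSpecToSheaf.map (tilde.map (R := CommRingCat.of A) (ModuleCat.ofHom LinearMap.id))).1.app (op U)).hom s = s
  rw [show ModuleCat.ofHom (LinearMap.id : N →ₗ[A] N) = 𝟙 _ from rfl,
    tilde.map_id (R := CommRingCat.of A), CategoryTheory.Functor.map_id]
  rfl

lemma map_zero_apply {N P : Type u} [AddCommGroup N] [Module A N] [AddCommGroup P] [Module A P] (U : Op A)
    (s : Sec (A := A) N U) : map (0 : N →ₗ[A] P) U s = 0 :=
  sep_D fun a ha => by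
    obtain ⟨k, q, hq⟩ := exists_of_eq (res ha s)
    refine (pow_smul_bijective le_rfl k).1 ?_
    change a ^ k • res ha (map (0 : N →ₗ[A] P) U s) = a ^ k • res ha 0
    rw [← map_res, ← map_smul, hq, map_of, LinearMap.zero_apply, map_zero, map_zero, smul_zero]

/-- The transition between two levels. -/
noncomputable abbrev trQ (I : Ideal A) (N : Type u) [AddCommGroup N] [Module A N] {n j : ℕ} (h : n ≤ j) :
    quotPow A I N j →ₗ[A] quotPow A I N n :=
  Submodule.factor (Submodule.smul_mono (Ideal.pow_le_pow_right (Nat.add_le_add_right h 1)) le_rfl)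

lemma trQ_refl (N : Type u) [AddCommGroup N] [Module A N] (n : ℕ) : trQ I N (le_refl n) = LinearMap.id :=
  Submodule.linearMap_qext _ rfl

lemma trQ_succ (N : Type u) [AddCommGroup N] [Module A N] {n j : ℕ} (hj : n ≤ j) :
    trQ I N (n := n) (j := j + 1) (hj.trans (Nat.le_add_right j 1)) = (trQ I N hj).comp (quotPowTrans A I N j) :=
  (gen_factor_comp_id _ _ _).symm

/-- A compatible family is compatible between any two levels. -/
lemma compat_le {N : Type u} [AddCommGroup N] [Module A N] {U : Op A} (y : ∀ n, Sec (A := A) (quotPow A I N n) U)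
    (hy : ∀ n, map (quotPowTrans A I N n) U (y (n + 1)) = y n) {n j : ℕ} (h : n ≤ j) :
    map (trQ I N h) U (y j) = y n := by
  induction j, h using Nat.le_induction with
  | base =>
    rw [trQ_refl, map_id_apply]
  | succ j hj ih =>
    rw [← hy j, map_comp_apply] at ih
    rw [trQ_succ N hj]
    exact ih

/-- The map from an induced quotient to a quotient by a power. -/
noncomputable abbrev toQ {n k : ℕ} (h : (I ^ (k + 1) • ⊤ : Submodule A M).comap f ≤ I ^ (n + 1) • ⊤) :
    M' ⧸ (I ^ (k + 1) • ⊤ : Submodule A M).comap f →ₗ[A] quotPow A I M' n :=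
  Submodule.factor h

lemma trans_comp_toQ {n k j : ℕ} (hkj : k ≤ j) (h : (I ^ (k + 1) • ⊤ : Submodule A M).comap f ≤ I ^ (n + 1) • ⊤)
    (h' : (I ^ (j + 1) • ⊤ : Submodule A M).comap f ≤ I ^ (n + 1) • ⊤) :
    toQ f h' = (toQ f h).comp (Submodule.factor (Submodule.comap_mono (Submodule.smul_mono
      (Ideal.pow_le_pow_right (Nat.add_le_add_right hkj 1)) le_rfl))) :=
  (gen_factor_comp _ _).symm

lemma barMap_comp_toQ {n k : ℕ} (hk : n ≤ k) (h : (I ^ (k + 1) • ⊤ : Submodule A M).comap f ≤ I ^ (n + 1) • ⊤) :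
    (barMap (I := I) f n).comp (toQ f h) = (trQ I M hk).comp (iotaQ f I k) := by
  have h' : (I ^ (k + 1) • ⊤ : Submodule A M).comap f ≤ (I ^ (n + 1) • ⊤ : Submodule A M).comap f :=
    Submodule.comap_mono (Submodule.smul_mono (Ideal.pow_le_pow_right (Nat.add_le_add_right hk 1)) le_rfl)
  exact (gen_mapQ_factor f h _ h').trans (gen_factor_mapQ f _ le_rfl h').symm

end

variable {f g} [Module.Finite A M] {U : Op A}

omit [IsNoetherianRing A] [Module.Finite A M] in
lemma admissible_mono {V : Op A} (h : Admissible A I U V) {V' : Op A} (h' : Admissible A I U V') :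
    Admissible A I U (V ⊓ V') :=
  ⟨inf_le_left.trans h.1, fun p hp hI => ⟨h.2 p hp hI, h'.2 p hp hI⟩⟩

/-- Injectivity passes to the middle term. -/
theorem injective_middle (hf : Function.Injective f) (hfg : LinearMap.range f = LinearMap.ker g)
    (h' : ColimBij I M' U) (h'' : ColimBij I M'' U) (V : Op A) (hV : Admissible A I U V) (x : Sec (A := A) M V)
    (hx : ∀ n, map (quotPowπ A I M n) V x = 0) :
    ∃ (V' : Op A) (h : Admissible A I U V' ∧ V' ≤ V), res h.2 x = 0 := by
  obtain ⟨c, hc⟩ := exists_artinRees (I := I) f hf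
  obtain ⟨V₁, h₁, hgx⟩ := h''.1 V hV (map g V x) fun n => by
    rw [map_comp_apply, ← barMap_comp_π, ← map_comp_apply, hx, map_zero]
  obtain ⟨x', hx'⟩ := exists_map_eq hf hfg (res h₁.2 x) (by rw [map_res, hgx])
  obtain ⟨V₂, h₂, hx₂⟩ := h'.1 V₁ h₁.1 x' fun n => by
    have h0 : map ((I ^ (n + c + 1) • ⊤ : Submodule A M).comap f).mkQ V₁ x' = 0 := by
      apply map_injective (iotaQ_injective (I := I) f (n + c))
      rw [map_comp_apply, map_zero, show (iotaQ f I (n + c)).comp (Submodule.mkQ _) =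
        (quotPowπ A I M (n + c)).comp f from gen_mapQ_mkQ f _, ← map_comp_apply, hx', map_res, hx, map_zero]
    rw [show quotPowπ A I M' n = (Submodule.factor (hc n)).comp (Submodule.mkQ _) from (gen_factor_mkQ (hc n)).symm,
      ← map_comp_apply, h0, map_zero]
  exact ⟨V₂, ⟨h₂.1, h₂.2.trans h₁.2⟩, by
    rw [← res_res h₁.2 h₂.2, ← hx', ← map_res, hx₂, map_zero]⟩

/-- A formal section killed by the projection lifts to a formal section of the submodule. -/
theorem exists_lift_formal (hf : Function.Injective f) (hg : Function.Surjective g)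
    (hfg : LinearMap.range f = LinearMap.ker g) (z : ∀ n, Sec (A := A) (quotPow A I M n) U)
    (hz : ∀ n, map (quotPowTrans A I M n) U (z (n + 1)) = z n) (hz0 : ∀ n, map (barMap g n) U (z n) = 0) :
    ∃ y' : ∀ n, Sec (A := A) (quotPow A I M' n) U,
      (∀ n, map (quotPowTrans A I M' n) U (y' (n + 1)) = y' n) ∧ ∀ n, map (barMap f n) U (y' n) = z n := by
  obtain ⟨c, hc⟩ := exists_artinRees (I := I) f hf
  choose w hw using fun n => exists_map_eq (iotaQ_injective (I := I) f n) (range_iotaQ f g hg hfg n) (z n) (hz0 n)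
  have hwt : ∀ k j (hkj : k ≤ j), map (Submodule.factor (Submodule.comap_mono (Submodule.smul_mono
      (Ideal.pow_le_pow_right (Nat.add_le_add_right hkj 1)) le_rfl) :
      (I ^ (j + 1) • ⊤ : Submodule A M).comap f ≤ (I ^ (k + 1) • ⊤ : Submodule A M).comap f)) U (w j) = w k := by
    intro k j hkj
    apply map_injective (iotaQ_injective (I := I) f k)
    have e : (iotaQ f I k).comp (Submodule.factor (Submodule.comap_mono (Submodule.smul_mono
        (Ideal.pow_le_pow_right (Nat.add_le_add_right hkj 1)) le_rfl))) = (trQ I M hkj).comp (iotaQ f I j) :=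
      (gen_mapQ_factor f _ le_rfl (Submodule.comap_mono (Submodule.smul_mono
        (Ideal.pow_le_pow_right (Nat.add_le_add_right hkj 1)) le_rfl))).trans (gen_factor_mapQ f _ le_rfl _).symm
    rw [hw, map_comp_apply, e, ← map_comp_apply, hw, compat_le z hz hkj]
  refine ⟨fun n => map (toQ f (hc n)) U (w (n + c)), fun n => ?_, fun n => ?_⟩
  · have h1 : (I ^ (n + 1 + c + 1) • ⊤ : Submodule A M).comap f ≤ I ^ (n + 1) • ⊤ :=
      (hc (n + 1)).trans (Submodule.smul_mono (Ideal.pow_le_pow_right (Nat.le_succ _)) le_rfl)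
    have e : (quotPowTrans A I M' n).comp (toQ f (hc (n + 1))) = toQ f h1 := gen_id_comp_factor _ _ _
    rw [map_comp_apply, e, trans_comp_toQ f (show n + c ≤ n + 1 + c by omega) (hc n) h1, ← map_comp_apply, hwt _ _ (show n + c ≤ n + 1 + c by omega)]
  · rw [map_comp_apply, barMap_comp_toQ f (Nat.le_add_right n c), ← map_comp_apply, hw, compat_le z hz]

/-- Gluing of the local solutions. -/
theorem exists_glue_solution (V₁ : Op A) (hV₁ : Admissible A I U V₁)
    (hinj : ∀ (x : Sec (A := A) M V₁), (∀ n, map (quotPowπ A I M n) V₁ x = 0) →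
        ∃ (V' : Op A) (h : Admissible A I U V' ∧ V' ≤ V₁), res h.2 x = 0)
    {κ : Type u} [Finite κ] (b : κ → A) (N : κ → ℕ) (hcov : ∀ p ∈ V₁, ∃ i, p ∈ D (b i))
    (v : κ → Sec (A := A) M V₁) (y : ∀ n, Sec (A := A) (quotPow A I M n) U)
    (hv : ∀ i n, map (quotPowπ A I M n) V₁ (v i) = b i ^ N i • res hV₁.1 (y n)) :
    ∃ (V : Op A) (hV : Admissible A I U V) (x : Sec (A := A) M V),
      ∀ n, res hV.1 (y n) = map (quotPowπ A I M n) V x := by
  have hagree : ∀ p : κ × κ, ∃ (V' : Op A) (h : Admissible A I U V' ∧ V' ≤ V₁),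
      res h.2 (b p.2 ^ N p.2 • v p.1 - b p.1 ^ N p.1 • v p.2) = 0 := fun p =>
    hinj _ fun n => by rw [map_sub, map_smul, map_smul, hv, hv, smul_comm, sub_self]
  choose Vp hVp hp0 using hagree
  let V₂ : Op A := V₁ ⊓ ⨅ p : κ × κ, Vp p
  have hV₂ : Admissible A I U V₂ := ⟨inf_le_left.trans hV₁.1, fun p hp hI =>
    ⟨hV₁.2 p hp hI, TS.mem_iInf.2 fun q => (hVp q).1.2 p hp hI⟩⟩
  let T : κ → Op A := fun i => V₂ ⊓ D (b i)
  have hT1 : ∀ i, T i ≤ V₁ := fun i => inf_le_left.trans inf_le_left
  choose t ht using fun i => (pow_smul_bijective (M := M) (inf_le_right : T i ≤ D (b i)) (N i)).2 (res (hT1 i) (v i))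
  replace ht : ∀ i, b i ^ N i • t i = res (hT1 i) (v i) := ht
  have hc : V₂ ≤ iSup T := fun p hp => by
    obtain ⟨i, hi⟩ := hcov p hp.1
    exact Opens.mem_iSup.2 ⟨i, hp, hi⟩
  have hcompat : ∀ i j, res (M := M) (inf_le_left : T i ⊓ T j ≤ T i) (t i) = res (M := M) (inf_le_right : T i ⊓ T j ≤ T j) (t j) := by
    intro i j
    have h₁ : T i ⊓ T j ≤ D (b i) := inf_le_left.trans inf_le_right
    have h₂ : T i ⊓ T j ≤ D (b j) := inf_le_right.trans inf_le_right
    have h₃ : T i ⊓ T j ≤ Vp (i, j) :=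
      inf_le_left.trans (inf_le_left.trans (inf_le_right.trans (iInf_le _ (i, j))))
    refine (pow_smul_bijective h₁ (N i)).1 ((pow_smul_bijective h₂ (N j)).1 ?_)
    have h0 := congrArg (res (M := M) h₃) (hp0 (i, j))
    simp only [map_sub, map_smul, res_res, map_zero, sub_eq_zero] at h0
    change b j ^ N j • b i ^ N i • res (M := M) (inf_le_left : T i ⊓ T j ≤ T i) (t i) = b j ^ N j • b i ^ N i • res (M := M) (inf_le_right : T i ⊓ T j ≤ T j) (t j)
    rw [← map_smul (res (M := M) (inf_le_left : T i ⊓ T j ≤ T i)), ht, res_res, smul_comm (b j ^ N j) (b i ^ N i),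
      ← map_smul (res (M := M) (inf_le_right : T i ⊓ T j ≤ T j)), ht, res_res]
    exact h0
  obtain ⟨x, hx⟩ := glue T (fun i => inf_le_left) hc t hcompat
  refine ⟨V₂, hV₂, x, fun n => sep T (fun i => inf_le_left) hc fun i => ?_⟩
  refine (pow_smul_bijective (inf_le_right : T i ≤ D (b i)) (N i)).1 ?_
  change b i ^ N i • res (inf_le_left : T i ≤ V₂) (res hV₂.1 (y n)) =
    b i ^ N i • res (inf_le_left : T i ≤ V₂) (map (quotPowπ A I M n) V₂ x)
  rw [← map_res, hx, ← map_smul (map (quotPowπ A I M n) (T i)), ht, map_res, hv, map_smul, res_res, res_res]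

/-- Surjectivity passes to the middle term. -/
theorem surjective_middle (hf : Function.Injective f) (hg : Function.Surjective g)
    (hfg : LinearMap.range f = LinearMap.ker g)
    (h' : ColimBij I M' U) (h'' : ColimBij I M'' U) (y : ∀ n, Sec (A := A) (quotPow A I M n) U)
    (hy : ∀ n, map (quotPowTrans A I M n) U (y (n + 1)) = y n) :
    ∃ (V : Op A) (hV : Admissible A I U V) (x : Sec (A := A) M V),
      ∀ n, res hV.1 (y n) = map (quotPowπ A I M n) V x := by
  classical
  obtain ⟨V₀, hV₀, x'', hx''⟩ := h''.2 (fun n => map (barMap g n) U (y n)) fun n => by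
    rw [map_comp_apply, ← barMap_comp_trans, ← map_comp_apply, hy]
  obtain ⟨S, hS⟩ := (show IsCompact (X := PrimeSpectrum A) V₀.carrier from
    NoetherianSpace.isCompact (α := PrimeSpectrum A) _).elim_finite_subcover
    (fun b : {b : A // D b ≤ V₀} => (D b.1).carrier) (fun b => (D b.1).isOpen)
    (fun _ hx => let ⟨b, hb, hle⟩ := exists_D_le hx; Set.mem_iUnion.2 ⟨⟨b, hle⟩, hb⟩)
  choose N m hm using fun b : S => exists_pow_smul_lift hg b.1.2 x''
  let z : S → ∀ n, Sec (A := A) (quotPow A I M n) U := fun b n =>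
    b.1.1 ^ N b • y n - of U (quotPowπ A I M n (m b))
  have hz : ∀ b n, map (quotPowTrans A I M n) U (z b (n + 1)) = z b n := fun b n => by
    simp only [z, map_sub, map_smul, map_of, hy]
    rfl
  have hz0 : ∀ b n, map (barMap g n) U (z b n) = 0 := fun b n => by
    apply res_injective_of_killed (killed_quot (I := I) M'' _ (n + 1) le_rfl) hV₀.1 hV₀.2
    rw [map_zero]
    simp only [z, map_sub, map_smul, res_of, map_of]
    rw [hx'', ← map_smul, hm, map_of, sub_eq_zero]
    rfl
  choose y' hy' hy'z using fun b => exists_lift_formal hf hg hfg (z b) (hz b) (hz0 b)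
  choose W hW x' hx' using fun b => h'.2 (y' b) (hy' b)
  let V₁ : Op A := V₀ ⊓ ⨅ b, W b
  have hV₁ : Admissible A I U V₁ := ⟨inf_le_left.trans hV₀.1, fun p hp hI =>
    ⟨hV₀.2 p hp hI, TS.mem_iInf.2 fun b => (hW b).2 p hp hI⟩⟩
  have hle : ∀ b, V₁ ≤ W b := fun b => inf_le_right.trans (iInf_le _ b)
  refine exists_glue_solution V₁ hV₁ (fun x hx => injective_middle hf hfg h' h'' V₁ hV₁ x hx)
    (fun b : S => b.1.1) N (fun p hp => ?_)
    (fun b => map f V₁ (res (hle b) (x' b)) + of V₁ (m b)) y fun b n => ?_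
  · obtain ⟨b, hb, hpb⟩ := Set.mem_iUnion₂.1 (hS (hp.1 : p ∈ V₀))
    exact ⟨⟨b, hb⟩, hpb⟩
  · rw [map_add, map_of, map_comp_apply, ← barMap_comp_π, ← map_comp_apply, map_res, ← hx', res_res, map_res, hy'z]
    simp [z]

/-- Bijectivity of formal sections passes to the middle term. -/
theorem colimBij_middle (hf : Function.Injective f) (hg : Function.Surjective g)
    (hfg : LinearMap.range f = LinearMap.ker g)
    (h' : ColimBij I M' U) (h'' : ColimBij I M'' U) : ColimBij I M U :=
  ⟨injective_middle hf hfg h' h'', surjective_middle hf hg hfg h' h''⟩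

/-- Bijectivity of formal sections passes to the submodule. -/
theorem colimBij_left (hf : Function.Injective f) (hfg : LinearMap.range f = LinearMap.ker g)
    (h : ColimBij I M U) (h'' : ColimBij I M'' U) : ColimBij I M' U := by
  obtain ⟨c, hc⟩ := exists_artinRees (I := I) f hf
  refine ⟨fun V hV x hx => ?_, fun y hy => ?_⟩
  · obtain ⟨V', hV', hx'⟩ := h.1 V hV (map f V x) fun n => by
      rw [map_comp_apply, ← barMap_comp_π, ← map_comp_apply, hx, map_zero]
    exact ⟨V', hV', map_injective hf V' (by rw [map_res, hx', map_zero])⟩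
  · obtain ⟨V, hV, x, hx⟩ := h.2 (fun n => map (barMap f n) U (y n)) fun n => by
      rw [map_comp_apply, ← barMap_comp_trans, ← map_comp_apply, hy]
    obtain ⟨V₁, h₁, hgx⟩ := h''.1 V hV (map g V x) fun n => by
      rw [map_comp_apply, ← barMap_comp_π, ← map_comp_apply, ← hx, map_res, map_comp_apply]
      have e : (barMap (I := I) g n).comp (barMap f n) = 0 := Submodule.linearMap_qext _ (LinearMap.ext fun a => by
        change Submodule.Quotient.mk (g (f a)) = 0
        rw [show g (f a) = 0 from LinearMap.mem_ker.1 (hfg ▸ LinearMap.mem_range_self f a)]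
        rfl)
      rw [e, map_zero_apply, map_zero]
    obtain ⟨x', hx'⟩ := exists_map_eq hf hfg (res h₁.2 x) (by rw [map_res, hgx])
    refine ⟨V₁, h₁.1, x', fun n => ?_⟩
    let π₀ := ((I ^ (n + c + 1) • ⊤ : Submodule A M).comap f).mkQ
    have hle : (I ^ (n + c + 1) • ⊤ : Submodule A M') ≤ (I ^ (n + c + 1) • ⊤ : Submodule A M).comap f :=
      Submodule.map_le_iff_le_comap.1 (by rw [Submodule.map_smul'']; exact Submodule.smul_mono le_rfl le_top)
    have hkey : map π₀ V₁ x' = map (Submodule.factor hle) V₁ (res h₁.1.1 (y (n + c))) := by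
      apply map_injective (iotaQ_injective (I := I) f (n + c))
      have e1 : (iotaQ f I (n + c)).comp π₀ = (quotPowπ A I M (n + c)).comp f := gen_mapQ_mkQ f _
      have e2 : (iotaQ f I (n + c)).comp (Submodule.factor hle) = barMap (I := I) f (n + c) :=
        gen_mapQ_factor f hle le_rfl _
      rw [map_comp_apply, map_comp_apply, e1, e2, ← map_comp_apply, hx', map_res, ← hx, res_res, map_res]
    have e3 : quotPowπ A I M' n = (toQ f (hc n)).comp π₀ := (gen_factor_mkQ (hc n)).symm
    have e4 : (toQ f (hc n)).comp (Submodule.factor hle) = trQ I M' (Nat.le_add_right n c) :=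
      gen_factor_comp _ _
    rw [e3, ← map_comp_apply, hkey, map_comp_apply, e4, map_res, compat_le y hy]

end Groth.CohDev.TS
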