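import Groth.Agent.CohDev.LimitAcyclic
import Groth.Agent.CohBase.Modules
import Groth.Agent.CohBase.AffineVanishing
import Groth.Agent.QCohMod.Category
import Groth.Agent.CohC3.LimitSys
import Groth.Prelude.Def_Formal2

/-! The underlying tower of abelian sheaves of a formal system of quasi-coherent modules. -/

universe u

open CategoryTheory Limits AlgebraicGeometry Opposite TopologicalSpace
open CategoryTheory.Abelian (Ext)

namespace Groth.CohDev

variable {A : Type u} [CommRing A] {I : Ideal A} {X : Scheme.{u}} [X.Over (Spec (CommRingCat.of A))]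
  {G : ℕᵒᵖ ⥤ X.Modules} (hG : Formal2.IsQCohFormal I G)

/-- The tower of abelian sheaves. -/
noncomputable abbrev abTower (G : ℕᵒᵖ ⥤ X.Modules) : ℕᵒᵖ ⥤ CohTop.Ab X.toTopCat :=
  G ⋙ SheafOfModules.toSheaf X.ringCatSheaf

theorem isBasis_affine (X : Scheme.{u}) :
    Opens.IsBasis {U : Opens X.toTopCat | IsAffineOpen (X := X) U} := X.isBasis_affineOpens

include hG in
theorem acyclicOn_abTower :
    AcyclicOn {U : Opens X.toTopCat | IsAffineOpen (X := X) U} (term (abTower G)) := fun n U hU p =>
  haveI : (G.obj (op n)).IsQuasicoherent := hG.1 n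
  CohBase.hVanish_of_isAffineOpen (G.obj (op n)) hU p

include hG in
theorem epi_map (n : ℕ) : Epi (G.map (homOfLE (Nat.le_succ n)).op) := by
  obtain ⟨h, hiso⟩ := hG.2.2 n
  haveI : IsIso (cokernel.desc _ _ h) := hiso
  have hπ : Epi (cokernel.π (Formal.smulFamily (I ^ (n + 1)) (G.obj (op (n + 1))))) :=
    coequalizer.π_epi
  rw [← cokernel.π_desc _ _ h]
  exact epi_comp' hπ (IsIso.epi_of_iso _)

include hG in
theorem surjective_trans (U : Opens X.toTopCat) (hU : IsAffineOpen (X := X) U) (n : ℕ) :
    Function.Surjective ((trans (abTower G) n).hom.app (op U)) := by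
  haveI := hG.1 n
  haveI := hG.1 (n + 1)
  haveI := epi_map hG n
  exact QCohMod.app_surjective_of_epi (G.map (homOfLE (Nat.le_succ n)).op) hU

omit [X.Over (Spec (CommRingCat.of A))] in
theorem preservesLimits_toSheaf :
    PreservesLimitsOfSize.{0, 0} (SheafOfModules.toSheaf.{u} X.ringCatSheaf) := by
  have : PreservesLimitsOfSize.{u, u} (SheafOfModules.toSheaf.{u} X.ringCatSheaf ⋙
      sheafToPresheaf (Opens.grothendieckTopology X) AddCommGrpCat.{u}) :=
    inferInstanceAs (PreservesLimitsOfSize.{u, u}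
      (SheafOfModules.forget.{u} X.ringCatSheaf ⋙ PresheafOfModules.toPresheaf X.ringCatSheaf.obj))
  have := preservesLimits_of_reflects_of_preserves (SheafOfModules.toSheaf.{u} X.ringCatSheaf)
    (sheafToPresheaf (Opens.grothendieckTopology X) AddCommGrpCat.{u})
  exact preservesLimitsOfSize_shrink _

omit [X.Over (Spec (CommRingCat.of A))] in
theorem nonempty_toSheafLimit (G : ℕᵒᵖ ⥤ X.Modules) :
    ∃ e : (SheafOfModules.toSheaf.{u} X.ringCatSheaf).obj (limit G : X.Modules) ≅ limit (abTower G),
      ∀ n, e.hom ≫ limit.π (abTower G) (op n) =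
        (SheafOfModules.toSheaf.{u} X.ringCatSheaf).map (limit.π G (op n)) :=
  haveI := preservesLimits_toSheaf (X := X)
  ⟨preservesLimitIso _ _, fun n => preservesLimitIso_hom_π _ _ _⟩

end Groth.CohDev
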