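import Mathlib.RingTheory.Ideal.AssociatedPrime.Finiteness
import Mathlib.RingTheory.Nullstellensatz
import Mathlib.LinearAlgebra.Basis.VectorSpace
import Mathlib.RingTheory.Polynomial.Basic
import Mathlib.RingTheory.Spectrum.Prime.Basic

/-!
# Towers of quotients whose limit is locally covered stabilise

A decreasing chain of submodules of a module of countable dimension over a field is stationary as soon as
every compatible family of elements is, locally on the spectrum, a single element.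
-/

universe u v

open MvPolynomial

namespace Groth.CohDev.GapTower

/-- A finite module over a Noetherian ring has torsion for powers of one element of bounded exponent,
uniformly in the element. -/
theorem exists_uniform_kill {A : Type u} [CommRing A] [IsNoetherianRing A] (N : Type v) [AddCommGroup N]
    [Module A N] [hN : Module.Finite A N] :
    ∃ e : ℕ, ∀ (f : A) (z : N) (m : ℕ), f ^ m • z = 0 → f ^ e • z = 0 := by
  refine IsNoetherianRing.induction_on_isQuotientEquivQuotientPrime (A := A) hN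
    (motive := fun N _ _ _ => ∃ e : ℕ, ∀ (f : A) (z : N) (m : ℕ), f ^ m • z = 0 → f ^ e • z = 0)
    ?_ ?_ ?_
  · intro N _ _ _ _
    exact ⟨0, fun f z m _ => Subsingleton.elim _ _⟩
  · intro N _ _ _ p φ
    refine ⟨1, fun f z m hm => φ.injective ?_⟩
    rw [map_zero, map_smul, pow_one]
    have h := congrArg φ hm
    rw [map_zero, map_smul] at h
    obtain ⟨r, hr⟩ := Ideal.Quotient.mk_surjective (φ z)
    rw [← hr] at h ⊢
    change Ideal.Quotient.mk p.1 (f * r) = 0
    change Ideal.Quotient.mk p.1 (f ^ m * r) = 0 at h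
    rw [Ideal.Quotient.eq_zero_iff_mem] at h ⊢
    rcases p.2.mem_or_mem h with h' | h'
    · exact Ideal.mul_mem_right _ _ (p.2.mem_of_pow_mem m h')
    · exact Ideal.mul_mem_left _ _ h'
  · intro N₁ _ _ _ N₂ _ _ _ N₃ _ _ _ a b ha hb hab ⟨e₁, h₁⟩ ⟨e₃, h₃⟩
    refine ⟨e₁ + e₃, fun f z m hm => ?_⟩
    have hg : b (f ^ e₃ • z) = 0 := by
      rw [map_smul]
      exact h₃ f _ m (by rw [← map_smul, hm, map_zero])
    obtain ⟨y, hy⟩ := (hab _).1 hg
    have h0 : f ^ m • y = 0 := by
      apply ha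
      rw [map_smul, hy, map_zero, smul_comm, hm, smul_zero]
    rw [pow_add, mul_smul, ← hy, ← map_smul, h₁ f y m h0, map_zero]

variable {k : Type u} [Field k] {A : Type u} [CommRing A] [Algebra k A]
  {M : Type u} [AddCommGroup M] [Module A M] [Module k M] [IsScalarTower k A M]

/-- Linear functionals of polynomially varying elements are polynomials. -/
theorem exists_poly {ι : Type} [Fintype ι] (P : MvPolynomial ι A) (x : M) (l : M →ₗ[k] k) :
    ∃ p : MvPolynomial ι k, ∀ w : ι → k,
      eval w p = l (eval (fun i => algebraMap k A (w i)) P • x) := by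
  refine ⟨∑ d ∈ P.support, monomial d (l (P.coeff d • x)), fun w => ?_⟩
  rw [map_sum, eval_eq', Finset.sum_smul, map_sum]
  refine Finset.sum_congr rfl fun d _ => ?_
  simp only [← map_pow, ← map_prod]
  rw [mul_comm (P.coeff d), mul_smul, algebraMap_smul, LinearMap.map_smul l, smul_eq_mul, eval_monomial,
    mul_comm, Finsupp.prod_fintype _ _ (fun i => pow_zero _)]

section Stage

variable {ι₁ ι₂ : Type} [Fintype ι₁] [Fintype ι₂] (b : ι₁ → A) (m : ι₂ → M) (S : M)

/-- The variable scalar. -/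
def gF (w : ι₁ ⊕ ι₂ → k) : A := ∑ i, algebraMap k A (w (.inl i)) * b i

/-- The variable element. -/
def aF (w : ι₁ ⊕ ι₂ → k) : M := ∑ i, w (.inr i) • m i

/-- The parameters `(g, a)` with `g • S = a` modulo `H`, up to a power of `g`. -/
def Good (H : Submodule A M) : Set (ι₁ ⊕ ι₂ → k) :=
  {w | ∃ e : ℕ, gF b w ^ e • (gF b w • S - aF m w) ∈ H}

theorem exists_uniform_good [IsNoetherianRing A] (H : Submodule A M) :
    ∃ e : ℕ, ∀ w : ι₁ ⊕ ι₂ → k, w ∈ Good b m S H →
      gF b w ^ e • (gF b w • S - aF m w) ∈ H := by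
  have : Module.Finite A (Submodule.span A (Set.range (fun o : Option ι₂ =>
      H.mkQ (o.elim S m)))) := Module.Finite.span_of_finite A (Set.finite_range _)
  obtain ⟨e, he⟩ := exists_uniform_kill (A := A) (Submodule.span A (Set.range (fun o : Option ι₂ =>
    H.mkQ (o.elim S m))))
  refine ⟨e, fun w ⟨m', hm'⟩ => ?_⟩
  have hz : H.mkQ (gF b w • S - aF m w) ∈ Submodule.span A (Set.range (fun o : Option ι₂ =>
      H.mkQ (o.elim S m))) := by
    rw [map_sub, map_smul, aF, map_sum]
    refine sub_mem (Submodule.smul_mem _ _ (Submodule.subset_span ⟨none, rfl⟩)) (sum_mem fun i _ => ?_)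
    rw [← algebraMap_smul A (w (.inr i)) (m i), map_smul]
    exact Submodule.smul_mem _ _ (Submodule.subset_span ⟨some i, rfl⟩)
  have := he (gF b w) ⟨_, hz⟩ m' (Subtype.ext (by
    change gF b w ^ m' • H.mkQ _ = 0
    rw [← map_smul]
    exact (Submodule.Quotient.mk_eq_zero H).2 hm'))
  have := congrArg Subtype.val this
  change gF b w ^ e • H.mkQ _ = 0 at this
  rw [← map_smul] at this
  exact (Submodule.Quotient.mk_eq_zero H).1 this

/-- The good parameters stabilise along a decreasing chain. -/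
theorem exists_stable_good [IsNoetherianRing A] (H : ℕ → Submodule A M) (hH : Antitone H) :
    ∃ c : ℕ, ∀ w : ι₁ ⊕ ι₂ → k, w ∈ Good b m S (H c) → ∀ n, w ∈ Good b m S (H n) := by
  have hmono : ∀ {i j : ℕ}, i ≤ j → Good (k := k) b m S (H j) ⊆ Good b m S (H i) :=
    fun h w ⟨e, he⟩ => ⟨e, hH h he⟩
  let I : ℕ →o Ideal (MvPolynomial (ι₁ ⊕ ι₂) k) :=
    ⟨fun n => vanishingIdeal k (Good b m S (H n)), fun i j h p hp w hw => hp w (hmono h hw)⟩
  obtain ⟨c, hc⟩ := monotone_stabilizes_iff_noetherian.mpr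
    (inferInstance : IsNoetherian (MvPolynomial (ι₁ ⊕ ι₂) k) (MvPolynomial (ι₁ ⊕ ι₂) k)) I
  refine ⟨c, fun w hw n => ?_⟩
  rcases le_total n c with h | h
  · exact hmono h hw
  obtain ⟨e, he⟩ := exists_uniform_good (k := k) b m S (H n)
  refine ⟨e, by_contra fun hne => ?_⟩
  obtain ⟨l, hl, hlH⟩ := Submodule.exists_le_ker_of_notMem
    (p := (H n).restrictScalars k) (v := gF b w ^ e • (gF b w • S - aF m w)) hne
  let G : MvPolynomial (ι₁ ⊕ ι₂) A := ∑ i, X (.inl i) * C (b i)
  have hG : ∀ w' : ι₁ ⊕ ι₂ → k, eval (fun i => algebraMap k A (w' i)) G = gF b w' := fun w' => by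
    simp [G, gF]
  have hφ : ∀ w' : ι₁ ⊕ ι₂ → k, gF b w' ^ e • (gF b w' • S - aF m w') =
      eval (fun i => algebraMap k A (w' i)) (G ^ (e + 1)) • S -
        ∑ i, eval (fun i => algebraMap k A (w' i)) (G ^ e * X (.inr i)) • m i := fun w' => by
    rw [smul_sub, ← mul_smul, ← pow_succ, aF, Finset.smul_sum, map_pow, hG]
    congr 1
    refine Finset.sum_congr rfl fun i _ => ?_
    rw [map_mul, map_pow, hG, eval_X, mul_smul, algebraMap_smul]
  obtain ⟨p₀, hp₀⟩ := exists_poly (G ^ (e + 1)) S l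
  choose p hp using fun i => exists_poly (G ^ e * X (.inr i)) (m i) l
  have hev : ∀ w' : ι₁ ⊕ ι₂ → k,
      eval w' (p₀ - ∑ i, p i) = l (gF b w' ^ e • (gF b w' • S - aF m w')) := fun w' => by
    rw [map_sub, map_sum, hφ, map_sub, map_sum, hp₀]
    simp only [hp]
  have hmem : p₀ - ∑ i, p i ∈ I n := fun w' hw' => by
    change aeval w' _ = 0
    rw [aeval_eq_eval, hev]
    exact hlH (he w' hw')
  rw [← hc n h] at hmem
  have := hmem w hw
  rw [aeval_eq_eval, hev] at this
  exact hl this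

end Stage

lemma exists_fin_combination {V : Type u} [AddCommGroup V] [Module k V] (c : ℕ → V)
    (hc : Submodule.span k (Set.range c) = ⊤) (x : V) :
    ∃ j₀, ∀ j, j₀ ≤ j → ∃ w : Fin j → k, ∑ i, w i • c i = x := by
  obtain ⟨l, hl⟩ := Finsupp.mem_span_range_iff_exists_finsupp.1 (hc.ge (Submodule.mem_top (x := x)))
  refine ⟨l.support.sup id + 1, fun j hj => ?_⟩
  refine Submodule.mem_span_range_iff_exists_fun k |>.1 ?_
  rw [← hl]
  refine sum_mem fun i hi => Submodule.smul_mem _ _ (Submodule.subset_span ⟨⟨i, ?_⟩, rfl⟩)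
  have : i ≤ l.support.sup id := Finset.le_sup (f := id) hi
  omega

/-- The stabilisation theorem. -/
theorem stationary_of_local_lifting [IsNoetherianRing A]
    (cA : ℕ → A) (hcA : Submodule.span k (Set.range cA) = ⊤)
    (cM : ℕ → M) (hcM : Submodule.span k (Set.range cM) = ⊤)
    (H : ℕ → Submodule A M) (hH : Antitone H)
    (hL : ∀ T : ℕ → M, (∀ n, T (n + 1) - T n ∈ H n) → ∀ p : PrimeSpectrum A,
      ∃ f : A, f ∉ p.asIdeal ∧ ∃ a : M, ∀ n, ∃ e : ℕ, f ^ e • (f • T n - a) ∈ H n) :
    ∃ c, ∀ n, c ≤ n → H n = H c := by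
  by_contra hcon
  simp only [not_exists, not_forall] at hcon
  have hstep : ∀ c, ∃ n, c ≤ n ∧ ∃ u, u ∈ H n ∧ u ∉ H (n + 1) := fun c => by
    by_contra h
    obtain ⟨n, hn, hne⟩ := hcon c
    apply hne
    clear hne
    induction n, hn using Nat.le_induction with
    | base => rfl
    | succ n hn ih =>
      rw [← ih]
      refine le_antisymm (hH (Nat.le_succ n)) fun x hx => ?_
      by_contra hx'
      exact h ⟨n, hn, x, hx, hx'⟩
  choose bound hbound using fun (j : ℕ) (S : M) =>
    exists_stable_good (k := k) (fun i : Fin j => cA i) (fun i : Fin j => cM i) S H hH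
  choose pickN hpickN pickU hpickU hpickU' using hstep
  let step : ℕ → M × ℕ → M × ℕ := fun j s =>
    (s.1 + pickU (max (max (bound j s.1) s.2) j), pickN (max (max (bound j s.1) s.2) j) + 1)
  let st : ℕ → M × ℕ := fun j => Nat.rec (0, 0) step j
  let S : ℕ → M := fun j => (st j).1
  let N : ℕ → ℕ := fun j => pickN (max (max (bound j (S j)) (st j).2) j)
  let uu : ℕ → M := fun j => pickU (max (max (bound j (S j)) (st j).2) j)
  have hS : ∀ j, S (j + 1) = S j + uu j := fun _ => rfl
  have hNb : ∀ j, bound j (S j) ≤ N j := fun j =>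
    ((le_max_left _ _).trans (le_max_left _ _)).trans (hpickN _)
  have hNj : ∀ j, j ≤ N j := fun j => (le_max_right _ _).trans (hpickN _)
  have hNlt : ∀ j, N j < N (j + 1) := fun j =>
    Nat.lt_of_succ_le (((le_max_right _ _).trans (le_max_left _ _)).trans (hpickN _) :
      (st (j + 1)).2 ≤ N (j + 1))
  have hNm : Monotone N := monotone_nat_of_le_succ fun j => (hNlt j).le
  have hu : ∀ j, uu j ∈ H (N j) := fun j => hpickU _
  have hu' : ∀ j, uu j ∉ H (N j + 1) := fun j => hpickU' _
  have hcongr : ∀ j i, j ≤ i → S i - S j ∈ H (N j) := by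
    intro j i hi
    induction i, hi using Nat.le_induction with
    | base => simp
    | succ i hi ih =>
      rw [hS, add_sub_right_comm]
      exact add_mem ih (hH (hNm hi) (hu i))
  have hloc := hL S fun n => by
    rw [hS, add_sub_cancel_left]
    exact hH (hNj n) (hu n)
  choose f hf a ha using hloc
  have hspan : Ideal.span (Set.range f) = ⊤ := by
    by_contra hne
    obtain ⟨P, hP, hle⟩ := Ideal.exists_le_maximal _ hne
    exact hf ⟨P, hP.isPrime⟩ (hle (Ideal.subset_span ⟨⟨P, hP.isPrime⟩, rfl⟩))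
  obtain ⟨t, ht, h1⟩ := Submodule.mem_span_finite_of_mem_span (hspan.ge (Submodule.mem_top (x := (1 : A))))
  have hkill : ∀ g ∈ Set.range f, ∃ j₀, ∀ j, j₀ ≤ j → ∃ e : ℕ, g ^ e • uu j ∈ H (N j + 1) := by
    rintro _ ⟨p, rfl⟩
    obtain ⟨j₁, hj₁⟩ := exists_fin_combination cA hcA (f p)
    obtain ⟨j₂, hj₂⟩ := exists_fin_combination cM hcM (a p)
    have key : ∀ j, max j₁ j₂ ≤ j → ∀ n, ∃ e, f p ^ e • (f p • S j - a p) ∈ H n := by
      intro j hj
      obtain ⟨w₁, hw₁⟩ := hj₁ j (le_of_max_le_left hj)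
      obtain ⟨w₂, hw₂⟩ := hj₂ j (le_of_max_le_right hj)
      have eg : gF (fun i : Fin j => cA i) (Sum.elim w₁ w₂ : Fin j ⊕ Fin j → k) = f p := by
        simp only [gF, Sum.elim_inl, ← Algebra.smul_def]; exact hw₁
      have ea : aF (fun i : Fin j => cM i) (Sum.elim w₁ w₂ : Fin j ⊕ Fin j → k) = a p := by
        simp only [aF, Sum.elim_inr]; exact hw₂
      have hmem : (Sum.elim w₁ w₂ : Fin j ⊕ Fin j → k) ∈
          Good (fun i : Fin j => cA i) (fun i : Fin j => cM i) (S j) (H (bound j (S j))) := by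
        obtain ⟨e, he⟩ := ha p (N j)
        refine ⟨e, ?_⟩
        rw [eg, ea]
        have e1 : f p • S j - a p = (f p • S (N j) - a p) - f p • (S (N j) - S j) := by
          rw [smul_sub]; abel
        rw [e1, smul_sub]
        exact sub_mem (hH (hNb j) he)
          (Submodule.smul_mem _ _ (Submodule.smul_mem _ _ (hH (hNb j) (hcongr j _ (hNj j)))))
      intro n
      obtain ⟨e, he⟩ := hbound j (S j) _ hmem n
      rw [eg, ea] at he
      exact ⟨e, he⟩
    refine ⟨max j₁ j₂, fun j hj => ?_⟩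
    obtain ⟨e₁, h₁⟩ := key (j + 1) (hj.trans (Nat.le_succ j)) (N j + 1)
    obtain ⟨e₂, h₂⟩ := key j hj (N j + 1)
    refine ⟨e₁ + e₂ + 1, ?_⟩
    have e3 : f p ^ (e₁ + e₂ + 1) • uu j =
        f p ^ e₂ • f p ^ e₁ • (f p • S (j + 1) - a p) - f p ^ e₁ • f p ^ e₂ • (f p • S j - a p) := by
      rw [hS, smul_comm (f p ^ e₂), ← smul_sub, ← smul_sub, sub_sub_sub_cancel_right, smul_add,
        add_sub_cancel_left, ← mul_smul, ← mul_smul, pow_succ, pow_add]
    rw [e3]
    exact sub_mem (Submodule.smul_mem _ _ h₁) (Submodule.smul_mem _ _ h₂)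
  choose! j₀ hj₀ using hkill
  let j := t.sup j₀
  have h1' : (1 : A) ∈ (Submodule.colon (H (N j + 1)) {uu j}).radical := by
    refine Ideal.span_le.2 (fun g hg => ?_) h1
    obtain ⟨e, he⟩ := hj₀ g (ht hg) j (Finset.le_sup hg)
    exact ⟨e, Submodule.mem_colon_singleton.2 he⟩
  obtain ⟨e, he⟩ := h1'
  rw [one_pow, Submodule.mem_colon_singleton, one_smul] at he
  exact hu' j he

end Groth.CohDev.GapTower
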