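import Groth.Agent.CohDev.ExtProd
import Groth.Agent.SiteCohomology.Free
import Groth.Agent.CohBase.GlobalSections

/-!
# The Milnor sequence of a tower of abelian sheaves acyclic on a basis
-/

universe u

open CategoryTheory Limits Opposite TopologicalSpace
open CategoryTheory.Abelian (Ext)

namespace Groth.CohDev

open Groth.SiteCohomology

variable {X : TopCat.{u}} (B : Set (Opens X))

/-- A family of sheaves without higher cohomology on the members of `B`. -/
def AcyclicOn {α : Type} (F : α → CohTop.Ab X) : Prop :=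
  ∀ i, ∀ U ∈ B, ∀ p : ℕ, Subsingleton (Ext (CohCx.freeSheaf (Opens.grothendieckTopology X) U) (F i) (p + 1))

variable {B}

/-- Local surjectivity from surjectivity on a basis. -/
theorem epi_of_surjective_on_basis (hB : Opens.IsBasis B) {F G : CohTop.Ab X} (φ : F ⟶ G)
    (h : ∀ U ∈ B, Function.Surjective (φ.hom.app (op U))) : Epi φ := by
  refine (Sheaf.isLocallySurjective_iff_epi' AddCommGrpCat.{u} _).1
    ((TopCat.Presheaf.isLocallySurjective_iff φ.hom).2 fun U s x hx => ?_)
  obtain ⟨V, hV, hxV, hVU⟩ := Opens.isBasis_iff_nbhd.1 hB hx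
  obtain ⟨t, ht⟩ := h V hV (G.obj.map (homOfLE hVU).op s)
  exact ⟨V, hVU, ⟨t, ht⟩, hxV⟩

theorem lift_cokernel_of_acyclicOn {α : Type} {F : α → CohTop.Ab X} (hF : AcyclicOn B F) {U : Opens X}
    (hU : U ∈ B) (i : α) (f : CohCx.freeSheaf _ U ⟶ cokernel (Injective.ι (F i))) :
    ∃ g : CohCx.freeSheaf _ U ⟶ Injective.under (F i), g ≫ cokernel.π (Injective.ι (F i)) = f :=
  haveI : Subsingleton (Ext (CohCx.freeSheaf _ U) (injSES (F i)).X₁ 1) := hF i U hU 0
  exists_lift_of_subsingleton_ext_one (injSES_shortExact (F i)) _ f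

/-- Ext into a product of a family acyclic on a basis. -/
theorem bijective_ext_product_acyclicOn (hB : Opens.IsBasis B) {α : Type} (F : α → CohTop.Ab X)
    (hF : AcyclicOn B F) (Z : CohTop.Ab X) (n : ℕ) :
    Function.Bijective (fun (x : Ext Z (∏ᶜ F) n) (i : α) => x.comp (Ext.mk₀ (Pi.π F i)) (add_zero n)) := by
  refine bijective_ext_product (AcyclicOn B) (fun F hF => ?_) (fun F hF => ?_) Z n F hF
  · refine epi_of_surjective_on_basis hB _ fun U hU => (surjective_sections_iff_lift _).2 fun f => ?_
    choose g hg using fun i => lift_cokernel_of_acyclicOn hF hU i (f ≫ Pi.π _ i)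
    exact ⟨Pi.lift g, Limits.Pi.hom_ext _ _ fun i => by simp [hg]⟩
  · intro i U hU p
    haveI : Injective (injSES (F i)).X₂ := inferInstanceAs (Injective (Injective.under (F i)))
    haveI := Ext.subsingleton_of_injective (CohCx.freeSheaf (Opens.grothendieckTopology X) U) (injSES (F i)).X₂ p
    haveI : Subsingleton (Ext (CohCx.freeSheaf (Opens.grothendieckTopology X) U) (injSES (F i)).X₁ (p + 1 + 1)) :=
      hF i U hU (p + 1)
    exact subsingleton_ext_right (injSES_shortExact (F i)) _ (p + 1)

section Tower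

variable (D : ℕᵒᵖ ⥤ CohTop.Ab X)

/-- The terms of a tower. -/
abbrev term (n : ℕ) : CohTop.Ab X := D.obj (op n)

/-- The transition maps of a tower. -/
abbrev trans (n : ℕ) : term D (n + 1) ⟶ term D n := D.map (homOfLE (Nat.le_succ n)).op

/-- The map `(x_n) ↦ (x_n - t x_(n+1))`. -/
noncomputable def shiftDiff : (∏ᶜ term D) ⟶ ∏ᶜ term D :=
  Pi.lift fun n => Pi.π (term D) n - Pi.π (term D) (n + 1) ≫ trans D n

lemma toProd_shiftDiff : Pi.lift (fun n => limit.π D (op n)) ≫ shiftDiff D = 0 := by
  ext n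
  simp [shiftDiff, limit.w]

/-- The Milnor sequence of sheaves. -/
noncomputable abbrev milnor : ShortComplex (CohTop.Ab X) :=
  ShortComplex.mk (Pi.lift fun n => limit.π D (op n)) (shiftDiff D) (toProd_shiftDiff D)

variable {D}

theorem exists_lift_shiftDiff {U : Opens X} (hs : ∀ n, Function.Surjective ((trans D n).hom.app (op U)))
    (f : CohCx.freeSheaf _ U ⟶ ∏ᶜ term D) : ∃ g, g ≫ shiftDiff D = f := by
  choose up hup using fun n => (surjective_sections_iff_lift (trans D n)).1 (hs n)
  let g : ∀ n, CohCx.freeSheaf _ U ⟶ term D n := fun n =>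
    Nat.rec (motive := fun n => CohCx.freeSheaf _ U ⟶ term D n) 0
      (fun n gn => up n (gn - f ≫ Pi.π (term D) n)) n
  refine ⟨Pi.lift g, Limits.Pi.hom_ext _ _ fun n => ?_⟩
  have hn : g (n + 1) ≫ trans D n = g n - f ≫ Pi.π (term D) n := hup n _
  simp [shiftDiff, hn]

theorem milnor_shortExact (hB : Opens.IsBasis B)
    (hs : ∀ U ∈ B, ∀ n, Function.Surjective ((trans D n).hom.app (op U))) : (milnor D).ShortExact := by
  haveI : Mono (Pi.lift fun n => limit.π D (op n)) := ⟨fun a b h => limit.hom_ext fun ⟨n⟩ => by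
    simpa using congrArg (fun k => k ≫ Pi.π (term D) n) h⟩
  refine ShortComplex.ShortExact.mk' (ShortComplex.exact_of_f_is_kernel _ ?_) this
    (epi_of_surjective_on_basis hB _ fun U hU => (surjective_sections_iff_lift _).2
      (exists_lift_shiftDiff (hs U hU)))
  refine KernelFork.IsLimit.ofι' _ _ fun {W} k hk => ?_
  have hstep : ∀ n, (k ≫ Pi.π (term D) (n + 1)) ≫ D.map (homOfLE (Nat.le_succ n)).op = k ≫ Pi.π (term D) n := fun n => by
    have h := congrArg (fun z => z ≫ Pi.π (term D) n) hk
    simp [shiftDiff, sub_eq_zero] at h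
    simpa using h.symm
  let c : Cone D :=
    { pt := W
      π := NatTrans.ofOpSequence (fun n => k ≫ Pi.π (term D) n) fun n => by
        simpa using (hstep n).symm }
  exact ⟨limit.lift D c, Limits.Pi.hom_ext _ _ fun n => by simp [c]⟩

/-- The limit of a tower is acyclic on the basis. -/
theorem subsingleton_ext_limit (hB : Opens.IsBasis B) (ha : AcyclicOn B (term D))
    (hs : ∀ U ∈ B, ∀ n, Function.Surjective ((trans D n).hom.app (op U))) {U : Opens X} (hU : U ∈ B) (p : ℕ) :
    Subsingleton (Ext (CohCx.freeSheaf (Opens.grothendieckTopology X) U) (limit D) (p + 1)) := by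
  have hS := milnor_shortExact hB hs
  have hP : ∀ q, Subsingleton (Ext (CohCx.freeSheaf (Opens.grothendieckTopology X) U) (∏ᶜ term D) (q + 1)) :=
    fun q => haveI := fun i => ha i U hU q
      (bijective_ext_product_acyclicOn hB _ ha _ (q + 1)).1.subsingleton
  haveI : Subsingleton (Ext (CohCx.freeSheaf (Opens.grothendieckTopology X) U) (milnor D).X₂ (p + 1)) := hP p
  cases p with
  | zero => exact subsingleton_ext_one_left hS _ (exists_lift_shiftDiff (hs U hU))
  | succ p =>
    haveI : Subsingleton (Ext (CohCx.freeSheaf (Opens.grothendieckTopology X) U) (milnor D).X₃ (p + 1)) := hP p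
    exact subsingleton_ext_left hS _ (p + 1)

end Tower

end Groth.CohDev
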