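import Groth.Agent.CohDev.LimitAcyclic
import Groth.Prelude.Def_Formal2

/-!
# The Milnor sequence in cohomology
-/

universe u

open CategoryTheory Limits Opposite TopologicalSpace
open CategoryTheory.Abelian (Ext)

namespace Groth.CohDev

variable {X : TopCat.{u}} {B : Set (Opens X)} {D : ℕᵒᵖ ⥤ CohTop.Ab X}

/-- The transition maps in cohomology. -/
noncomputable abbrev extTrans (D : ℕᵒᵖ ⥤ CohTop.Ab X) (Z : CohTop.Ab X) (p n : ℕ) :
    Ext Z (term D (n + 1)) p →+ Ext Z (term D n) p :=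
  (Ext.mk₀ (trans D n)).postcomp Z (add_zero p)

/-- The Milnor sequence for `Ext` into the limit of a tower acyclic on a basis. -/
theorem exists_milnor_ext (hB : Opens.IsBasis B) (ha : AcyclicOn B (term D))
    (hs : ∀ U ∈ B, ∀ n, Function.Surjective ((trans D n).hom.app (op U))) (Z : CohTop.Ab X) (p : ℕ) :
    ∃ (α : Formal2.limOne (fun n => Ext Z (term D n) p) (extTrans D Z p) →+ Ext Z (limit D) (p + 1))
      (β : Ext Z (limit D) (p + 1) →+
        Formal2.limZero (fun n => Ext Z (term D n) (p + 1)) (extTrans D Z (p + 1))),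
      Function.Injective α ∧ Function.Surjective β ∧ α.range = β.ker ∧
      ∀ x n, (β x : ∀ n, Ext Z (term D n) (p + 1)) n = x.comp (Ext.mk₀ (limit.π D (op n))) (add_zero (p + 1)) := by
  have hS := milnor_shortExact hB hs
  let Φ : ∀ q, Ext Z (∏ᶜ term D) q ≃+ ∀ n, Ext Z (term D n) q := fun q =>
    AddEquiv.ofBijective
      (Pi.addMonoidHom fun n => (Ext.mk₀ (Pi.π (term D) n)).postcomp Z (add_zero q))
      (bijective_ext_product_acyclicOn hB _ ha Z q)
  have hΦ : ∀ q (x : Ext Z (∏ᶜ term D) q) n, Φ q x n = x.comp (Ext.mk₀ (Pi.π (term D) n)) (add_zero q) :=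
    fun _ _ _ => rfl
  have hd : ∀ q (x : Ext Z (∏ᶜ term D) q),
      Φ q (x.comp (Ext.mk₀ (shiftDiff D)) (add_zero q)) = Formal2.towerDiff _ (extTrans D Z q) (Φ q x) := by
    intro q x
    funext n
    change Φ q _ n = Φ q x n - (Φ q x (n + 1)).comp (Ext.mk₀ (trans D n)) (add_zero q)
    simp only [hΦ, Ext.comp_assoc_of_second_deg_zero, Ext.mk₀_comp_mk₀]
    simp [shiftDiff, sub_eq_add_neg, Ext.mk₀_add, Ext.mk₀_neg, Ext.comp_add, Ext.comp_neg]
  have hf : ∀ q (x : Ext Z (limit D) q) n,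
      Φ q (x.comp (Ext.mk₀ (milnor D).f) (add_zero q)) n = x.comp (Ext.mk₀ (limit.π D (op n))) (add_zero q) := by
    intro q x n
    simp [hΦ, milnor]
  let δ : (∀ n, Ext Z (term D n) p) →+ Ext Z (limit D) (p + 1) :=
    (hS.extClass.postcomp Z rfl).comp (Φ p).symm.toAddMonoidHom
  have hδ : ∀ y, δ y = ((Φ p).symm y).comp hS.extClass rfl := fun _ => rfl
  have hle : (Formal2.towerDiff _ (extTrans D Z p)).range ≤ δ.ker := by
    rintro _ ⟨x, rfl⟩
    obtain ⟨x, rfl⟩ := (Φ p).surjective x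
    rw [AddMonoidHom.mem_ker, hδ, ← hd, AddEquiv.symm_apply_apply]
    exact (Ext.comp_assoc_of_second_deg_zero _ _ _ _).trans (by rw [hS.comp_extClass]; simp)
  let β₀ : Ext Z (limit D) (p + 1) →+ ∀ n, Ext Z (term D n) (p + 1) :=
    Pi.addMonoidHom fun n => (Ext.mk₀ (limit.π D (op n))).postcomp Z (add_zero (p + 1))
  have hβ : ∀ x, β₀ x = Φ (p + 1) (x.comp (Ext.mk₀ (milnor D).f) (add_zero (p + 1))) :=
    fun x => funext fun n => (hf (p + 1) x n).symm
  have hmem : ∀ x, β₀ x ∈ (Formal2.towerDiff _ (extTrans D Z (p + 1))).ker := fun x => by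
    rw [AddMonoidHom.mem_ker, hβ, ← hd, Ext.comp_assoc_of_second_deg_zero, Ext.mk₀_comp_mk₀,
      show (milnor D).f ≫ shiftDiff D = 0 from (milnor D).zero, Ext.mk₀_zero, Ext.comp_zero, map_zero]
  refine ⟨QuotientAddGroup.lift _ δ hle, β₀.codRestrict _ hmem, ?_, ?_, ?_, fun x n => rfl⟩
  · rw [injective_iff_map_eq_zero]
    intro y
    induction y using QuotientAddGroup.induction_on with
    | H y =>
      intro hy
      replace hy : δ y = 0 := hy
      rw [hδ] at hy
      obtain ⟨x, hx⟩ := Ext.covariant_sequence_exact₃ Z hS _ _ hy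
      exact (QuotientAddGroup.eq_zero_iff _).2 ⟨Φ p x, by rw [← hd, show x.comp (Ext.mk₀ (shiftDiff D)) _ = _ from hx, AddEquiv.apply_symm_apply]⟩
  · rintro ⟨y, hy⟩
    obtain ⟨x, rfl⟩ := (Φ (p + 1)).surjective y
    rw [AddMonoidHom.mem_ker, ← hd, map_eq_zero_iff _ (Φ (p + 1)).injective] at hy
    obtain ⟨z, hz⟩ := Ext.covariant_sequence_exact₂ Z hS x hy
    exact ⟨z, Subtype.ext ((hβ z).trans (congrArg _ hz))⟩
  · ext x
    constructor
    · rintro ⟨y, rfl⟩
      induction y using QuotientAddGroup.induction_on with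
      | H y =>
        refine Subtype.ext ?_
        change β₀ (δ y) = 0
        rw [hβ, hδ, Ext.comp_assoc_of_third_deg_zero, hS.extClass_comp, Ext.comp_zero, map_zero]
    · intro hx
      have h0 : β₀ x = 0 := congrArg Subtype.val hx
      rw [hβ, map_eq_zero_iff _ (Φ (p + 1)).injective] at h0
      obtain ⟨z, hz⟩ := Ext.covariant_sequence_exact₁ Z hS x h0 rfl
      refine ⟨(Φ p z : ∀ n, Ext Z (term D n) p), ?_⟩
      change δ (Φ p z) = x
      rw [hδ, AddEquiv.symm_apply_apply]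
      exact hz

end Groth.CohDev
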