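import Groth.Agent.CohProper.Image

/-!
Closed subsets of subsets proper over a base.
-/

set_option autoImplicit false
universe u

open CategoryTheory CategoryTheory.Limits AlgebraicGeometry

namespace Groth.CohDev

/-- A closed subset of a subset proper over the base is proper over the base. -/
theorem isProperOver_mono {X S : Scheme.{u}} (f : X ⟶ S) {Z Z' : Set X} (hZ : ClSub.IsProperOver f Z)
    (hc : IsClosed Z') (hsub : Z' ⊆ Z) : ClSub.IsProperOver f Z' := by
  obtain ⟨hc', hp'⟩ := hZ
  refine ⟨hc, ?_⟩
  let K := Scheme.IdealSheafData.vanishingIdeal (⟨Z', hc⟩ : TopologicalSpace.Closeds X)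
  let L := Scheme.IdealSheafData.vanishingIdeal (⟨Z, hc'⟩ : TopologicalSpace.Closeds X)
  have hle : L.subschemeι.ker ≤ K.subschemeι.ker := by
    rw [Scheme.IdealSheafData.ker_subschemeι, Scheme.IdealSheafData.ker_subschemeι,
      ← Scheme.IdealSheafData.le_support_iff_le_vanishingIdeal]
    intro x (hx : x ∈ Z')
    exact (Scheme.IdealSheafData.coe_support_vanishingIdeal _).ge (hsub hx)
  let j : K.subscheme ⟶ L.subscheme := IsClosedImmersion.lift L.subschemeι K.subschemeι hle
  have hj : j ≫ L.subschemeι = K.subschemeι := IsClosedImmersion.lift_fac _ _ _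
  haveI : IsClosedImmersion (j ≫ L.subschemeι) := by rw [hj]; infer_instance
  haveI : IsClosedImmersion j := IsClosedImmersion.of_comp j L.subschemeι
  haveI := hp'
  show IsProper (K.subschemeι ≫ f)
  rw [← hj, Category.assoc]
  infer_instance

end Groth.CohDev
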