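import Groth.Agent.CohBase.RelAmpleVanish
import Groth.Agent.CohBase.AffinePush
import Groth.Agent.CohDev.ProperOver
import Groth.Agent.CohDev.LimitAcyclic
import Groth.Agent.CohTwo.Devissage
import Groth.Agent.PnCoh.ProjectionFormula
import Groth.Agent.PicAux.Powers
import Groth.Agent.S0792
import Groth.Agent.CohC3.LimitSys
import Groth.Agent.S2359
import Groth.Prelude.Def_DDual2

/-! High twists of coherent modules with proper support. -/

universe u

open CategoryTheory CategoryTheory.Limits AlgebraicGeometry TopologicalSpace Opposite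

namespace Groth.CohDev

variable {X Y : Scheme.{u}} (f : X ⟶ Y) [AlgebraicGeometry.IsNoetherian Y] [LocallyOfFiniteType f] [QuasiCompact f]

/-- `H¹` of high twists of a coherent module with proper support vanishes over the affine opens of the base. -/
theorem exists_hVanish_twist_of_properSupport (L : X.Modules) (hL : PicF.IsInvertible L)
    (hamp : RelAmple.IsRelAmple f L) (F : X.Modules) (hF : Coh.IsCoh F)
    (hs : ClSub.IsProperOver f (CohB1.support F)) :
    ∃ N : ℕ, ∀ n, N ≤ n → ∀ V : Y.Opens, IsAffineOpen V →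
      CohBase.HVanish (X := X.toTopCat) (CohBase.abSheaf (CohB1.tensorMod F (CohB1.tensorPow L n))) 1 (f ⁻¹ᵁ V) := by
  obtain ⟨Z, i, hi, hp, G, hG, hGft, ⟨e⟩⟩ := (Groth.Agent.S0792.result f F hF.1 hF.2).1 hs
  let L' := (Scheme.Modules.pullback i).obj L
  have hL' : PicF.IsInvertible L' := PicAux.isInvertible_pullback i hL
  have hamp' : RelAmple.IsRelAmple (i ≫ f) L' :=
    Groth.Agent.S2359.result f i i.isClosedEmbedding.isEmbedding L hamp
  obtain ⟨N, hN⟩ := CohBase.exists_isZero_Rpush_of_relAmple (i ≫ f) L' hL'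
    (fun W hW => hamp'.2 ⟨W, hW⟩) G ⟨hG, hGft⟩
  refine ⟨N, fun n hn V hV => ?_⟩
  haveI : G.IsQuasicoherent := hG
  haveI : (CohB1.tensorPow L' n).IsQuasicoherent :=
    PicAux.isQCoh_of_isInvertible (PicAux.isInvertible_tensorPow hL' n)
  let M := CohB1.tensorMod G (CohB1.tensorPow L' n)
  haveI : M.IsQuasicoherent := QCohMod.isQCoh_tensorMod
  have hz : CohBase.HVanish (X := Z.toTopCat) (CohBase.abSheaf M) 1 ((i ≫ f) ⁻¹ᵁ V) := by
    obtain ⟨a⟩ := CohBase.exists_Rpush_linEquiv (M := M) (f := i ≫ f) (p := 1) hV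
    have h0 : Subsingleton Γ((Coh.Rpush (i ≫ f) 1).obj M, V) := by
      refine subsingleton_of_forall_eq 0 fun z => ?_
      have h0 := (IsZero.iff_id_eq_zero _).1 (hN n hn 1 Nat.one_pos)
      exact ConcreteCategory.congr_hom (congrArg (fun γ => Scheme.Modules.Hom.app γ V) h0) z
    obtain ⟨b⟩ := CohBase.nonempty_equiv_HHon M ((i ≫ f) ⁻¹ᵁ V) 1
    exact @Equiv.subsingleton _ _ b.symm.toEquiv (@Equiv.subsingleton _ _ a.symm.toEquiv h0)
  have hp' : CohBase.HVanish (X := X.toTopCat) (CohBase.abSheaf ((Scheme.Modules.pushforward i).obj M)) 1 (f ⁻¹ᵁ V) := by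
    obtain ⟨b⟩ := (CohBase.pushAcyclic_of_isAffineHom i M).nonempty_equiv_H' 1 (f ⁻¹ᵁ V)
    have hz' : Subsingleton (Sheaf.H' (CohBase.abSheaf M) 1 ((Opens.map i.base).obj (f ⁻¹ᵁ V))) := hz
    exact @Equiv.subsingleton _ _ b.toEquiv hz'
  obtain ⟨θ, -⟩ := PnCoh.exists_projectionFormula i G (PicAux.isInvertible_tensorPow hL n)
  obtain ⟨ρ⟩ := PicAux.pullback_tensorPow i L n
  let E : (Scheme.Modules.pushforward i).obj M ≅ CohB1.tensorMod F (CohB1.tensorPow L n) :=
    (Scheme.Modules.pushforward i).mapIso (PicGrp.tensorModIso (Iso.refl G) ρ.symm) ≪≫ θ.symm ≪≫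
      PicGrp.tensorModIso e (Iso.refl _)
  have := hp'
  let T := (Abelian.extFunctor 1).obj (op (CohBase.freeOpen (X := X.toTopCat) (f ⁻¹ᵁ V)))
  haveI : Subsingleton (T.obj (CohBase.abSheaf ((Scheme.Modules.pushforward i).obj M))) := hp'
  exact (T.mapIso ((CohBase.toAbF X).mapIso E)).addCommGroupIsoToAddEquiv.symm.subsingleton

/-- Direct images of high twists keep sequences exact whose outer supports are proper. -/
theorem exists_exact_push_twist (L : X.Modules) (hL : PicF.IsInvertible L)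
    (hamp : RelAmple.IsRelAmple f L) (C : ShortComplex X.Modules) (hC : C.Exact)
    (h1 : Coh.IsCoh C.X₁) (h2 : Coh.IsCoh C.X₂) (hs1 : ClSub.IsProperOver f (CohB1.support C.X₁)) :
    ∃ N : ℕ, ∀ n : ℕ, N ≤ n → (C.map (DCoh.tensorRightMod (CohB1.tensorPow L n) ⋙ Coh.push f)).Exact := by
  haveI : IsLocallyNoetherian X := LocallyOfFiniteType.isLocallyNoetherian f
  haveI := h1.1
  haveI := h2.1
  let q : C.X₁ ⟶ Abelian.image C.f := Abelian.factorThruImage C.f
  let j : Abelian.image C.f ⟶ C.X₂ := Abelian.image.ι C.f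
  have hqj : q ≫ j = C.f := Abelian.image.fac C.f
  have hK : Coh.IsCoh (kernel C.f) := QCohMod.isCoh_kernel C.f h1
  obtain ⟨N, hN⟩ := exists_hVanish_twist_of_properSupport f L hL hamp (kernel C.f) hK
    (isProperOver_mono f hs1 (CohC3.isClosed_support_of_isCoh _ hK)
      (CohTwo.support_subset_of_mono (kernel.ι C.f)))
  refine ⟨N, fun n hn => ?_⟩
  let P := CohB1.tensorPow L n
  have hP : PicF.IsInvertible P := PicAux.isInvertible_tensorPow hL n
  let T : X.Modules ⥤ X.Modules := DCoh.tensorRightMod P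
  have hS : (ShortComplex.mk (kernel.ι C.f) q (by
      rw [← cancel_mono j, Category.assoc, hqj, kernel.condition, zero_comp])).ShortExact := by
    refine ShortComplex.ShortExact.mk' ?_ inferInstance (inferInstanceAs (Epi (Abelian.factorThruImage C.f)))
    let φ : ShortComplex.mk (kernel.ι C.f) q (by
        rw [← cancel_mono j, Category.assoc, hqj, kernel.condition, zero_comp]) ⟶
        ShortComplex.mk (kernel.ι C.f) C.f (kernel.condition _) :=
      { τ₁ := 𝟙 _, τ₂ := 𝟙 _, τ₃ := j, comm₂₃ := by simp [hqj] }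
    haveI : Mono φ.τ₃ := inferInstanceAs (Mono (Abelian.image.ι C.f))
    haveI : Epi φ.τ₁ := inferInstanceAs (Epi (𝟙 _))
    haveI : IsIso φ.τ₂ := inferInstanceAs (IsIso (𝟙 _))
    exact (ShortComplex.exact_iff_of_epi_of_isIso_of_mono φ).2
      (ShortComplex.exact_of_f_is_kernel _ (kernelIsKernel C.f))
  have hTS := PicAux.shortExact_tensorRightMod hP hS
  haveI : Epi ((T ⋙ Coh.push f).map q) := by
    refine (SheafOfModules.toSheaf.{u} Y.ringCatSheaf).epi_of_epi_map ?_
    refine epi_of_surjective_on_basis (B := {V : Opens Y.toTopCat | IsAffineOpen (X := Y) V})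
      Y.isBasis_affineOpens _ fun V hV => ?_
    exact CohBase.sections_surjective (CohBase.shortExact_toAb hTS) (U := f ⁻¹ᵁ V) (hN n hn V hV)
  have hw : j ≫ C.g = 0 := by
    rw [← cancel_epi q, ← Category.assoc, hqj, C.zero, comp_zero]
  have hS' : (ShortComplex.mk j C.g hw).Exact := by
    let φ : C ⟶ ShortComplex.mk j C.g hw := { τ₁ := q, τ₂ := 𝟙 _, τ₃ := 𝟙 _, comm₁₂ := by simp [hqj] }
    haveI : Epi φ.τ₁ := inferInstanceAs (Epi (Abelian.factorThruImage C.f))
    haveI : IsIso φ.τ₂ := inferInstanceAs (IsIso (𝟙 _))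
    haveI : Mono φ.τ₃ := inferInstanceAs (Mono (𝟙 _))
    exact (ShortComplex.exact_iff_of_epi_of_isIso_of_mono φ).1 hC
  haveI := PicAux.isEquivalence_tensorRightMod_of_isInvertible hP
  haveI : PreservesFiniteLimits T := inferInstanceAs (PreservesFiniteLimits (DCoh.tensorRightMod P))
  haveI : PreservesFiniteColimits T := inferInstanceAs (PreservesFiniteColimits (DCoh.tensorRightMod P))
  haveI : PreservesFiniteLimits (Coh.push f) :=
    inferInstanceAs (PreservesFiniteLimits (Scheme.Modules.pushforward f))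
  haveI : Mono (ShortComplex.mk j C.g hw).f := inferInstanceAs (Mono (Abelian.image.ι C.f))
  have hTS' : ((ShortComplex.mk j C.g hw).map T).Exact := hS'.map T
  haveI : Mono ((ShortComplex.mk j C.g hw).map T).f := inferInstanceAs (Mono (T.map (Abelian.image.ι C.f)))
  have hPS : (((ShortComplex.mk j C.g hw).map T).map (Coh.push f)).Exact :=
    hTS'.map_of_mono_of_preservesKernel _ inferInstance inferInstance
  let ψ : C.map (T ⋙ Coh.push f) ⟶ (ShortComplex.mk j C.g hw).map (T ⋙ Coh.push f) :=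
    (T ⋙ Coh.push f).mapShortComplex.map
      ({ τ₁ := q, τ₂ := 𝟙 _, τ₃ := 𝟙 _, comm₁₂ := by simp [hqj] } : C ⟶ ShortComplex.mk j C.g hw)
  haveI : Epi ψ.τ₁ := inferInstanceAs (Epi ((T ⋙ Coh.push f).map q))
  haveI : IsIso ψ.τ₂ := inferInstanceAs (IsIso ((T ⋙ Coh.push f).map (𝟙 _)))
  haveI : Mono ψ.τ₃ := inferInstanceAs (Mono ((T ⋙ Coh.push f).map (𝟙 _)))
  exact (ShortComplex.exact_iff_of_epi_of_isIso_of_mono ψ).2 hPS

end Groth.CohDev
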