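import Groth.Agent.CohBase.Push
import Groth.Prelude.Def_CohPull

/-!
# The edge map `H^p(Y, f_* A) → H^p(X, A)`
-/

universe u

open CategoryTheory Limits TopologicalSpace Opposite
open CategoryTheory.Abelian (Ext)

set_option maxHeartbeats 1000000

namespace Groth.CohDev

section

variable {C : Type*} [Category C] [Abelian C] {D : Type*} [Category D] [Abelian D]
  [HasInjectiveResolutions C] (F : C ⥤ D) [F.Additive] [PreservesFiniteLimits F]

/-- If `R¹F` vanishes on the first term, `F` keeps the epimorphism. -/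
theorem epi_map_of_isZero_rightDerived_one {S : ShortComplex C} (hS : S.ShortExact) [Injective S.X₂]
    (h : IsZero ((F.rightDerived 1).obj S.X₁)) : Epi (F.map S.g) := by
  let R := injectiveResolution S.X₃
  have h' := IsZero.of_iso h ((CohBase.splice hS R).isoRightDerivedObj F 1).symm
  replace h' := (HomologicalComplex.exactAt_iff_isZero_homology _ _).mpr h'
  rw [HomologicalComplex.exactAt_iff' _ 0 1 2 (by simp) (by simp)] at h'
  have h2 : ((ShortComplex.mk (S.g ≫ CohBase.resι R) (R.cocomplex.d 0 1) (CohBase.splice_w R)).map F).Exact := h'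
  rw [ShortComplex.exact_iff_epi_kernel_lift] at h2
  let hk := KernelFork.mapIsLimit _ R.isLimitKernelFork F
  let e := IsLimit.conePointUniqueUpToIso hk (kernelIsKernel (F.map (R.cocomplex.d 0 1)))
  have he : F.map S.g ≫ e.hom = kernel.lift (F.map (R.cocomplex.d 0 1)) (F.map (S.g ≫ CohBase.resι R))
      (by rw [← Functor.map_comp, CohBase.splice_w, Functor.map_zero]) := by
    rw [← cancel_mono (kernel.ι _), Category.assoc, kernel.lift_ι, Functor.map_comp]
    exact congrArg (F.map S.g ≫ ·) (IsLimit.conePointUniqueUpToIso_hom_comp hk _ WalkingParallelPair.zero)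
  haveI : Epi (F.map S.g ≫ e.hom) := he ▸ h2
  haveI : Epi ((F.map S.g ≫ e.hom) ≫ e.inv) := epi_comp _ _
  simpa using this

end

variable {X Y : TopCat.{u}} (f : X ⟶ Y)

/-- The constant sheaf `ℤ`. -/
noncomputable abbrev ZC (X : TopCat.{u}) : CohTop.Ab X := CohTop.const X (ULift.{u} ℤ)

/-- The edge map for abelian sheaves. -/
noncomputable def edgeAb (A : CohTop.Ab X) (p : ℕ) : Ext (ZC Y) ((CohTop.push f).obj A) p →+ Ext (ZC X) A p :=
  ((Ext.mk₀ ((CohPull.invPushAdj f).counit.app A)).postcomp (ZC X) (add_zero p)).comp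
    (CohPull.pullAb f ((CohTop.push f).obj A) p)

lemma edgeAb_apply (A : CohTop.Ab X) (p : ℕ) (x : Ext (ZC Y) ((CohTop.push f).obj A) p) :
    edgeAb f A p x = ((Ext.mk₀ (CohPull.oneTo f)).comp (x.mapExactFunctor (CohPull.inv f)) (zero_add p)).comp
      (Ext.mk₀ ((CohPull.invPushAdj f).counit.app A)) (add_zero p) := rfl

lemma edgeAb_map {A A' : CohTop.Ab X} (g : A ⟶ A') (p : ℕ) (x : Ext (ZC Y) ((CohTop.push f).obj A) p) :
    edgeAb f A' p (x.comp (Ext.mk₀ ((CohTop.push f).map g)) (add_zero p)) =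
      (edgeAb f A p x).comp (Ext.mk₀ g) (add_zero p) := by
  simp only [edgeAb_apply, Ext.mapExactFunctor_comp, Ext.mapExactFunctor_mk₀, Ext.comp_assoc_of_third_deg_zero,
    Ext.comp_assoc_of_second_deg_zero, Ext.mk₀_comp_mk₀]
  congr 3
  exact (CohPull.invPushAdj f).counit.naturality g

/-- Bookkeeping for associativity. -/
lemma reassoc_extClass {E : Type*} [Category E] [Abelian E] [HasExt E] {Z W B B₁ T T₁ : E} (m : Z ⟶ W) {p : ℕ}
    (a : Ext W B p) (b : Ext B B₁ 1) (t₁ : B₁ ⟶ T₁) (t₃ : B ⟶ T) (d : Ext T T₁ 1)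
    (h : b.comp (Ext.mk₀ t₁) (add_zero 1) = (Ext.mk₀ t₃).comp d (zero_add 1)) :
    ((Ext.mk₀ m).comp (a.comp b rfl) (zero_add (p + 1))).comp (Ext.mk₀ t₁) (add_zero (p + 1)) =
      (((Ext.mk₀ m).comp a (zero_add p)).comp (Ext.mk₀ t₃) (add_zero p)).comp d rfl := by
  rw [← Ext.comp_assoc _ _ _ (zero_add p) rfl (by omega), Ext.comp_assoc_of_third_deg_zero, h,
    Ext.comp_assoc_of_second_deg_zero]

lemma edgeAb_extClass {S : ShortComplex (CohTop.Ab X)} (hS : S.ShortExact)
    (hS' : (S.map (CohTop.push f)).ShortExact) (p : ℕ) (y : Ext (ZC Y) (S.map (CohTop.push f)).X₃ p) :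
    edgeAb f S.X₁ (p + 1) (y.comp hS'.extClass rfl) = (edgeAb f S.X₃ p y).comp hS.extClass rfl := by
  let φ : (S.map (CohTop.push f)).map (CohPull.inv f) ⟶ S :=
    { τ₁ := (CohPull.invPushAdj f).counit.app S.X₁
      τ₂ := (CohPull.invPushAdj f).counit.app S.X₂
      τ₃ := (CohPull.invPushAdj f).counit.app S.X₃
      comm₁₂ := ((CohPull.invPushAdj f).counit.naturality S.f).symm
      comm₂₃ := ((CohPull.invPushAdj f).counit.naturality S.g).symm }
  have e : (y.comp hS'.extClass rfl).mapExactFunctor (CohPull.inv f) =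
      (y.mapExactFunctor (CohPull.inv f)).comp (hS'.map_of_exact (CohPull.inv f)).extClass rfl :=
    (Ext.mapExactFunctor_comp (CohPull.inv f) y hS'.extClass rfl).trans
      (congrArg (fun t => (y.mapExactFunctor (CohPull.inv f)).comp t rfl) (Ext.mapExactFunctor_extClass _ hS'))
  have n := ShortComplex.ShortExact.extClass_naturality (hS'.map_of_exact (CohPull.inv f)) hS φ
  change ((Ext.mk₀ (CohPull.oneTo f)).comp ((y.comp hS'.extClass rfl).mapExactFunctor (CohPull.inv f))
    (zero_add (p + 1))).comp (Ext.mk₀ φ.τ₁) (add_zero (p + 1)) = _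
  rw [e]
  exact reassoc_extClass (CohPull.oneTo f) _ _ φ.τ₁ φ.τ₃ hS.extClass n

lemma edgeAb_zero_bijective (A : CohTop.Ab X) : Function.Bijective (edgeAb f A 0) := by
  let eY := (Equiv.ofBijective _ (Ext.mk₀_bijective (ZC Y) ((CohTop.push f).obj A))).symm.trans
    ((CohPull.adjZ Y).homEquiv _ _)
  let eX := (Equiv.ofBijective _ (Ext.mk₀_bijective (ZC X) A)).symm.trans
    ((CohPull.adjZ X).homEquiv _ _)
  suffices h : ∀ x, eX (edgeAb f A 0 x) = eY x by
    refine ⟨fun a b hab => eY.injective ?_, fun z => ⟨eY.symm (eX z), eX.injective ?_⟩⟩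
    · rw [← h, ← h, hab]
    · rw [h, Equiv.apply_symm_apply]
  intro x
  obtain ⟨a, rfl⟩ := (Ext.mk₀_bijective _ _).2 x
  have e0 : edgeAb f A 0 (Ext.mk₀ a) =
      Ext.mk₀ (CohPull.oneTo f ≫ (CohPull.inv f).map a ≫ (CohPull.invPushAdj f).counit.app A) := by
    rw [edgeAb_apply, Ext.mapExactFunctor_mk₀]
    simp
  rw [e0]
  simp only [eX, eY, Equiv.trans_apply, Equiv.ofBijective_symm_apply_apply]
  rw [Adjunction.homEquiv_naturality_right, CohPull.oneTo, Equiv.apply_symm_apply, CohPull.oneSec,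
    ← Category.comp_id a, Adjunction.homEquiv_naturality_right, Category.comp_id, Category.assoc]
  congr 1
  have key : (CohPull.invPushAdj f).unit.app (ZC Y) ≫
      (CohTop.push f).map ((CohPull.inv f).map a ≫ (CohPull.invPushAdj f).counit.app A) = a := by
    rw [Functor.map_comp, ← Category.assoc, (CohPull.invPushAdj f).unit_naturality a, Category.assoc,
      (CohPull.invPushAdj f).right_triangle_components, Category.comp_id]
  exact congr(($key).hom.app (op ⊤))

/-- The edge map is bijective on sheaves with vanishing higher direct images. -/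
theorem edgeAb_bijective (p : ℕ) : ∀ (A : CohTop.Ab X),
    (∀ n, IsZero (((CohBase.pushSheaf f).rightDerived (n + 1)).obj A)) → Function.Bijective (edgeAb f A p) := by
  induction p with
  | zero => exact fun A _ => edgeAb_zero_bijective f A
  | succ p ih =>
    intro A hA
    let S := CohBase.injPres A
    have hS : S.ShortExact := CohBase.injPres_shortExact A
    haveI hI : Injective S.X₂ := inferInstanceAs (Injective (Injective.under A))
    haveI : Epi ((CohBase.pushSheaf f).map S.g) := epi_map_of_isZero_rightDerived_one _ hS (hA 0)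
    have hS' : (S.map (CohTop.push f)).ShortExact := by
      haveI := hS.mono_f
      exact ShortComplex.ShortExact.mk'
        ((((Functor.preservesFiniteLimits_tfae (CohBase.pushSheaf f)).out 3 1 rfl rfl).mp
          inferInstance S ⟨hS.exact, hS.mono_f⟩).1)
        (inferInstanceAs (Mono ((CohBase.pushSheaf f).map S.f)))
        (inferInstanceAs (Epi ((CohBase.pushSheaf f).map S.g)))
    haveI : Injective (S.map (CohTop.push f)).X₂ := CohBase.injective_pushSheaf_obj (f := f) S.X₂
    have hX₂ := ih S.X₂ fun n => Functor.isZero_rightDerived_obj_injective_succ _ n S.X₂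
    have hX₃ := ih S.X₃ fun n => (hA (n + 1)).of_iso (CohBase.rightDerivedShift hS (CohBase.pushSheaf f) n).symm
    refine ⟨(injective_iff_map_eq_zero _).2 fun x hx => ?_, fun z => ?_⟩
    · obtain ⟨y, rfl⟩ := Ext.covariant_sequence_exact₁ (ZC Y) hS' x (Ext.eq_zero_of_injective _) rfl
      replace hx : (edgeAb f S.X₃ p y).comp hS.extClass rfl = 0 := (edgeAb_extClass f hS hS' p y).symm.trans hx
      obtain ⟨v, hv⟩ := Ext.covariant_sequence_exact₃ (ZC X) hS _ rfl hx
      obtain ⟨v', rfl⟩ := hX₂.2 v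
      rw [← edgeAb_map] at hv
      rw [← hX₃.1 hv]
      refine (Ext.comp_assoc_of_second_deg_zero _ _ _ _).trans ?_
      exact (congrArg (fun t => Ext.comp v' t rfl) hS'.comp_extClass).trans (Ext.comp_zero _ _ _ _ _)
    · obtain ⟨w, rfl⟩ := Ext.covariant_sequence_exact₁ (ZC X) hS z (Ext.eq_zero_of_injective _) rfl
      obtain ⟨y, rfl⟩ := hX₃.2 w
      exact ⟨y.comp hS'.extClass rfl, edgeAb_extClass f hS hS' p y⟩

end Groth.CohDev
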