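import Groth.Agent.CohDev.PushEdge
import Groth.Agent.CohBase.AffinePush
import Groth.Agent.CohBase.RpushAb

/-! The edge map for modules. -/

universe u

open CategoryTheory Limits AlgebraicGeometry TopologicalSpace Opposite

namespace Groth.CohDev

variable {X Y : Scheme.{u}} (f : X ⟶ Y) (G : X.Modules)

/-- The edge map of modules is the edge map of the underlying sheaves. -/
theorem pushEdge_eq (p : ℕ) (x : Coh.HH Y ((Scheme.Modules.pushforward f).obj G) p) :
    CohPull.pushEdge f G p x = edgeAb (X := X.toTopCat) (Y := Y.toTopCat) f.base (Coh.toAb G) p x := by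
  have e : CohPull.theta f ((Scheme.Modules.pushforward f).obj G) ≫
      (SheafOfModules.toSheaf.{u} X.ringCatSheaf).map ((Scheme.Modules.pullbackPushforwardAdjunction f).counit.app G) =
      (CohPull.invPushAdj f.base).counit.app (Coh.toAb G) := by
    rw [CohPull.theta, ← Adjunction.homEquiv_naturality_right_symm]
    refine (congrArg ((CohPull.invPushAdj f.base).homEquiv _ _).symm ?_).trans
      ((CohPull.invPushAdj f.base).homEquiv_symm_id (Coh.toAb G))
    change (SheafOfModules.toSheaf.{u} Y.ringCatSheaf).map ((Scheme.Modules.pullbackPushforwardAdjunction f).unit.app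
        ((Scheme.Modules.pushforward f).obj G)) ≫ (SheafOfModules.toSheaf.{u} Y.ringCatSheaf).map
        ((Scheme.Modules.pushforward f).map ((Scheme.Modules.pullbackPushforwardAdjunction f).counit.app G)) = _
    rw [← Functor.map_comp]
    exact (congrArg (SheafOfModules.toSheaf.{u} Y.ringCatSheaf).map
      ((Scheme.Modules.pullbackPushforwardAdjunction f).right_triangle_components G)).trans
      (CategoryTheory.Functor.map_id _ _)
  change Sheaf.H.map _ p (Sheaf.H.map _ p (CohPull.pullAb f.base _ p x)) = _
  rw [← Sheaf.H.map_comp_apply]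
  exact congrArg (fun φ => Sheaf.H.map φ p (CohPull.pullAb f.base (Coh.toAb ((Scheme.Modules.pushforward f).obj G)) p x)) e

theorem pushEdge_bijective_of_isZero
    (h : ∀ n, IsZero (((CohBase.pushSheaf (X := X.toTopCat) (Y := Y.toTopCat) f.base).rightDerived (n + 1)).obj (Coh.toAb G)))
    (p : ℕ) : Function.Bijective (CohPull.pushEdge f G p) := by
  have e := funext (pushEdge_eq f G p)
  rw [e]
  exact edgeAb_bijective f.base p (Coh.toAb G) h

end Groth.CohDev
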