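import Groth.Agent.CohTwo.LocFreeDual
import Groth.Agent.CohTwo.Glue
import Groth.Agent.CohC3.FullyFaithful
import Groth.Agent.CohC3.QuotSections
import Groth.Agent.QCohMod.QCQS
import Mathlib.AlgebraicGeometry.QuasiAffine
import Groth.Prelude.Def_Formal2

/-! Formal sections of locally free modules on quasi-affine schemes. -/

universe u

open CategoryTheory CategoryTheory.Limits AlgebraicGeometry Opposite TopologicalSpace

namespace Groth.CohDev.QAFormal

open Groth.CohTwo.LocFreeDual (dual)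
open Groth.RefRank (secToLin secToLin_res secToLin_add secToLin_smul)
open Groth.PicAux (toFun Basis')

local notation "ρ" => Groth.QCohMod.res
local notation "ρf" => Groth.QCohMod.resFun

variable {X : Scheme.{u}} {E : X.Modules}

/-- A global functional evaluated on sections over an open. -/
noncomputable def ev (φ : Γ(dual E, ⊤)) (V : X.Opens) :
    Γ(E, V) →ₗ[Γ(X, V)] Γ(Coh.structureModule X, V) :=
  secToLin (ρ (dual E) (le_top : V ≤ ⊤) φ)

lemma ev_res (φ : Γ(dual E, ⊤)) {V W : X.Opens} (h : W ≤ V) (z : Γ(E, V)) :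
    ev φ W (ρ E h z) = ρ (Coh.structureModule X) h (ev φ V z) := by
  rw [ev, ← Groth.QCohMod.res_res (dual E) (le_top : V ≤ ⊤) h φ]
  exact secToLin_res h _ z

lemma ev_add (φ ψ : Γ(dual E, ⊤)) (V : X.Opens) : ev (φ + ψ) V = ev φ V + ev ψ V := by
  rw [ev, map_add]
  exact secToLin_add _ _

lemma ev_smul (r : Γ(X, ⊤)) (φ : Γ(dual E, ⊤)) (V : X.Opens) :
    ev (r • φ) V = ρf X (le_top : V ≤ ⊤) r • ev φ V := by
  rw [ev, Groth.QCohMod.res_smul]
  exact secToLin_smul _ _

lemma ev_sum {ι : Type*} [Fintype ι] (φ : ι → Γ(dual E, ⊤)) (V : X.Opens) :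
    ev (∑ i, φ i) V = ∑ i, ev (φ i) V :=
  map_sum (AddMonoidHom.mk' (fun φ => ev φ V) fun a b => ev_add a b V) φ Finset.univ

variable (E) in
/-- A basis on a basic affine open together with global functionals which restrict to the dual basis. -/
structure Chart where
  f : Γ(X, ⊤)
  aff : IsAffineOpen (X.basicOpen f)
  n : ℕ
  s : Fin n → Γ(E, X.basicOpen f)
  basis : Basis' E (X.basicOpen f) s
  φ : Fin n → Γ(dual E, ⊤)
  dualδ : ∀ i j, toFun (ev (φ i) (X.basicOpen f) (s j)) = if j = i then 1 else 0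

lemma exists_chart [CompactSpace X] [QuasiSeparatedSpace X] [X.IsQuasiAffine]
    (hE : FlatMod.IsFinLocFree E) (x : X) : ∃ c : Chart E, x ∈ X.basicOpen c.f := by
  have : E.IsQuasicoherent := KTheory.LocFree.isQCoh hE
  have : (dual E).IsQuasicoherent :=
    KTheory.LocFree.isQCoh (LocFree.isFinLocFree_homSh hE (LocFree.isFinLocFree_unit X))
  obtain ⟨V, n, s, hV, hxV, hs⟩ := LocFree.exists_affine_basis hE x
  obtain ⟨_, ⟨_, ⟨f, hf, rfl⟩, rfl⟩, hxf, hfV⟩ :=
    (Scheme.IsQuasiAffine.isBasis_basicOpen X).exists_subset_of_mem_open hxV V.2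
  have hfV' : X.basicOpen f ≤ V := hfV
  obtain ⟨e, he⟩ := CohTwo.LocFreeDual.exists_dual_basis (hs.res' hfV') hf
  choose m t ht using fun i => Groth.QCohMod.exists_pow_smul_eq_res_of_qcqs (dual E)
    (W := ⊤) CompactSpace.isCompact_univ isQuasiSeparated_univ f (e i)
  set u : Γ(X, X.basicOpen f) := ρf X (X.basicOpen_le f) f with hu
  have huu : IsUnit u := RingedSpace.isUnit_res_basicOpen _ f
  let N := ∑ i, m i
  have hm : ∀ i, m i ≤ N := fun i => Finset.single_le_sum (fun j _ => Nat.zero_le (m j)) (Finset.mem_univ i)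
  let v : Γ(X, X.basicOpen f)ˣ := (huu.pow N).unit
  refine ⟨⟨f, hf, n, fun j => (↑v⁻¹ : Γ(X, X.basicOpen f)) • Groth.PicAux.res E hfV' (s j), ?_,
    fun i => f ^ (N - m i) • t i, fun i j => ?_⟩, hxf⟩
  · intro W hW
    have hb := (hs.res' hfV') W hW
    set w : Γ(X, W)ˣ := Units.map (Groth.PicAux.resX X hW).toMonoidHom v⁻¹
    have : (fun r : Fin n → Γ(X, W) => ∑ i, r i • Groth.PicAux.res E hW
        ((↑v⁻¹ : Γ(X, X.basicOpen f)) • Groth.PicAux.res E hfV' (s i))) =
        (fun r : Fin n → Γ(X, W) => ∑ i, r i • Groth.PicAux.res E hW (Groth.PicAux.res E hfV' (s i))) ∘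
          (fun r => fun i => r i * (w : Γ(X, W))) := by
      funext r
      refine Finset.sum_congr rfl fun i _ => ?_
      rw [mul_smul]
      exact congrArg (r i • ·) (Scheme.Modules.map_smul E (homOfLE hW) _ _)
    rw [this]
    refine hb.comp ⟨fun r r' h => funext fun i => (Units.mul_left_inj w).1 (congrFun h i),
      fun r => ⟨fun i => r i * (↑w⁻¹ : Γ(X, W)), funext fun i => by
        simp [mul_assoc]⟩⟩
  · have e1 : ρ (dual E) (le_top : X.basicOpen f ≤ ⊤) (f ^ (N - m i) • t i) = u ^ N • e i := by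
      rw [Groth.QCohMod.res_smul, map_pow, ht, ← mul_smul, ← pow_add, Nat.sub_add_cancel (hm i)]
    rw [ev, e1, secToLin_smul, map_smul]
    refine (Groth.PicAux.toFun_smul _ _).trans ?_
    have e2 : toFun ((u ^ N • secToLin (e i)) (Groth.PicAux.res E hfV' (s j))) =
        u ^ N * (if j = i then 1 else 0) :=
      (Groth.PicAux.toFun_smul _ _).trans (congrArg (u ^ N * ·) (he i j))
    rw [e2]
    split
    · rw [mul_one]; exact v.inv_mul
    · rw [mul_zero, mul_zero]

namespace Chart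

variable (c : Chart E)

/-- The open of a chart. -/
noncomputable abbrev U : X.Opens := X.basicOpen c.f

lemma eq_sum {V : X.Opens} (h : V ≤ c.U) (z : Γ(E, V)) :
    z = ∑ i, toFun (ev (c.φ i) V z) • ρ E h (c.s i) := by
  obtain ⟨r, hr⟩ := (c.basis V h).2 z
  replace hr : z = ∑ i, r i • ρ E h (c.s i) := hr.symm
  suffices ∀ i, toFun (ev (c.φ i) V z) = r i by simp only [this, ← hr]
  intro i
  let L : Γ(E, V) →ₗ[Γ(X, V)] Γ(X, V) :=
    { toFun := fun z => toFun (ev (c.φ i) V z)
      map_add' := fun a b => congrArg toFun (map_add (ev (c.φ i) V) a b)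
      map_smul' := fun a b => congrArg toFun (map_smul (ev (c.φ i) V) a b) }
  change L z = r i
  have hL : ∀ j, L (ρ E h (c.s j)) = if j = i then 1 else 0 := fun j => by
    refine (congrArg toFun (ev_res (c.φ i) h (c.s j))).trans ?_
    refine (congrArg (ρf X h) (c.dualδ i j)).trans ?_
    split
    · exact map_one _
    · exact map_zero _
  rw [hr, map_sum]
  simp [hL]

lemma eq_zero {V : X.Opens} (h : V ≤ c.U) (z : Γ(E, V))
    (hz : ∀ i, ev (c.φ i) V z = 0) : z = 0 := by
  rw [c.eq_sum h z]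
  exact Finset.sum_eq_zero fun i _ => by rw [hz i]; exact zero_smul _ _

lemma exists_relation [CompactSpace X] [QuasiSeparatedSpace X] (hE : FlatMod.IsFinLocFree E)
    (φ : Γ(dual E, ⊤)) :
    ∃ (k : ℕ) (d : Fin c.n → Γ(X, ⊤)), c.f ^ k • φ = ∑ i, d i • c.φ i := by
  have : E.IsQuasicoherent := KTheory.LocFree.isQCoh hE
  have : (dual E).IsQuasicoherent :=
    KTheory.LocFree.isQCoh (LocFree.isFinLocFree_homSh hE (LocFree.isFinLocFree_unit X))
  choose k d hd using fun i => Groth.QCohMod.exists_pow_smul_eq_res_of_qcqs (Coh.structureModule X)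
    (W := ⊤) CompactSpace.isCompact_univ isQuasiSeparated_univ c.f
    (ev φ c.U (c.s i))
  set u : Γ(X, c.U) := ρf X (X.basicOpen_le c.f) c.f
  let N := ∑ i, k i
  have hk : ∀ i, k i ≤ N := fun i => Finset.single_le_sum (fun j _ => Nat.zero_le (k j)) (Finset.mem_univ i)
  let d' : Fin c.n → Γ(X, ⊤) := fun i => c.f ^ (N - k i) * toFun (d i)
  obtain ⟨l, hl⟩ := Groth.QCohMod.exists_pow_smul_eq_zero_of_isCompact (dual E) (W := ⊤)
    CompactSpace.isCompact_univ c.f (c.f ^ N • φ - ∑ i, d' i • c.φ i) (by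
    refine Groth.CohTwo.LocFreeDual.secToLin_ext c.basis le_rfl c.aff fun j => ?_
    rw [show ρ E (le_refl c.U) (c.s j) = c.s j from Groth.PicAux.res_self _ _]
    change ev (c.f ^ N • φ - ∑ i, d' i • c.φ i) c.U (c.s j) = secToLin (0 : Γ(dual E, c.U)) (c.s j)
    have h0 : secToLin (0 : Γ(dual E, c.U)) = 0 := by
      have h0 := Groth.RefRank.secToLin_smul (F := E) (G := Coh.structureModule X) (0 : Γ(X, c.U)) (0 : Γ(dual E, c.U))
      simpa only [zero_smul] using h0
    let Φ : Γ(dual E, ⊤) →+ Γ(Coh.structureModule X, c.U) :=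
      AddMonoidHom.mk' (fun φ => ev φ c.U (c.s j)) fun a b => by rw [ev_add]; rfl
    change Φ _ = _
    rw [h0, map_sub, map_sum]
    change Φ (c.f ^ N • φ) - ∑ i, Φ (d' i • c.φ i) = 0
    have e1 : ∀ i, Φ (d' i • c.φ i) =
        if j = i then ρf X (X.basicOpen_le c.f) (d' i) • Groth.PicAux.oneSec X c.U else 0 := fun i => by
      change ev (d' i • c.φ i) c.U (c.s j) = _
      rw [ev_smul, LinearMap.smul_apply, Groth.PicAux.eq_toFun_smul_oneSec (ev (c.φ i) c.U (c.s j)),
        c.dualδ]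
      split
      · rw [one_smul]
      · rw [zero_smul, smul_zero]
    rw [Finset.sum_congr rfl fun i _ => e1 i, Finset.sum_ite_eq]
    simp only [Finset.mem_univ, if_true]
    change ev (c.f ^ N • φ) c.U (c.s j) - _ = 0
    rw [ev_smul, LinearMap.smul_apply, sub_eq_zero, map_pow, map_mul, map_pow]
    have e2 : ρf X (X.basicOpen_le c.f) (toFun (d j)) = u ^ k j * toFun (ev φ c.U (c.s j)) :=
      congrArg toFun (hd j)
    rw [e2, ← mul_assoc, ← pow_add, Nat.sub_add_cancel (hk j), mul_smul,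
      ← Groth.PicAux.eq_toFun_smul_oneSec])
  refine ⟨l + N, fun i => c.f ^ l * d' i, ?_⟩
  rw [smul_sub, sub_eq_zero, Finset.smul_sum] at hl
  rw [pow_add, mul_smul, hl]
  simp [mul_smul]

end Chart

section Formal

variable {A : Type u} [CommRing A] [X.Over (Spec (CommRingCat.of A))] (I : Ideal A)

/-- Global sections of the system `M / I^(n+1)M`, compatible. -/
def Compat {M : X.Modules} (y : ∀ n, Γ(Formal.modPow I (n + 1) M, ⊤)) : Prop :=
  ∀ n, (Formal.modPowTrans I (n + 1) M).app ⊤ (y (n + 1)) = y n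

lemma sections_of_bijective {M : X.Modules} (h : Function.Bijective (Formal.toHHlim I M 0)) :
    (∀ a : Γ(M, ⊤), (∀ n, (Formal.modPowπ I (n + 1) M).app ⊤ a = 0) → a = 0) ∧
      ∀ y, Compat I (M := M) y → ∃ a, ∀ n, (Formal.modPowπ I (n + 1) M).app ⊤ a = y n := by
  refine ⟨fun a ha => ?_, fun y hy => ?_⟩
  · have : (CohC3.secEquiv₀ M).symm a = 0 := by
      refine h.1 (Subtype.ext (funext fun n => ?_))
      rw [map_zero]
      refine (CohC3.secEquiv₀ _).injective ?_
      refine (CohC3.secEquiv₀_hmap (A := A) (Formal.modPowπ I (n + 1) M) _).trans ?_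
      rw [AddEquiv.apply_symm_apply, ha]
      exact (map_zero _).symm
    simpa using congrArg (CohC3.secEquiv₀ M) this
  · obtain ⟨z, hz⟩ := h.2 ⟨fun n => (CohC3.secEquiv₀ _).symm (y n), fun n => by
      refine (CohC3.secEquiv₀ _).injective ?_
      refine (CohC3.secEquiv₀_hmap (A := A) (Formal.modPowTrans I (n + 1) M) _).trans ?_
      rw [AddEquiv.apply_symm_apply, AddEquiv.apply_symm_apply]
      exact hy n⟩
    refine ⟨CohC3.secEquiv₀ M z, fun n => ?_⟩
    refine (CohC3.secEquiv₀_hmap (A := A) (Formal.modPowπ I (n + 1) M) z).symm.trans ?_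
    refine (congrArg (CohC3.secEquiv₀ _) (congrArg (fun w : Formal.HHlim I M 0 =>
      (w : ∀ n, Formal.HHmodPow I M 0 n) n) hz)).trans ?_
    exact (CohC3.secEquiv₀ _).apply_symm_apply _

lemma bijective_of_sections {M : X.Modules}
    (hi : ∀ a : Γ(M, ⊤), (∀ n, (Formal.modPowπ I (n + 1) M).app ⊤ a = 0) → a = 0)
    (hs : ∀ y, Compat I (M := M) y → ∃ a, ∀ n, (Formal.modPowπ I (n + 1) M).app ⊤ a = y n) :
    Function.Bijective (Formal.toHHlim I M 0) := by
  refine ⟨(injective_iff_map_eq_zero _).2 fun z hz => ?_, fun y => ?_⟩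
  · refine (CohC3.secEquiv₀ M).injective (Eq.trans ?_ (map_zero _).symm)
    refine hi _ fun n => ?_
    refine (CohC3.secEquiv₀_hmap (A := A) (Formal.modPowπ I (n + 1) M) z).symm.trans ?_
    refine (congrArg (CohC3.secEquiv₀ _) (congrArg (fun w : Formal.HHlim I M 0 =>
      (w : ∀ n, Formal.HHmodPow I M 0 n) n) hz)).trans ?_
    exact map_zero _
  · obtain ⟨a, ha⟩ := hs (fun n => CohC3.secEquiv₀ _ (y.1 n)) fun n => by
      refine (CohC3.secEquiv₀_hmap (A := A) (Formal.modPowTrans I (n + 1) M) _).symm.trans ?_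
      exact congrArg _ (y.2 n)
    refine ⟨(CohC3.secEquiv₀ M).symm a, Subtype.ext (funext fun n => ?_)⟩
    refine (CohC3.secEquiv₀ _).injective ?_
    refine (CohC3.secEquiv₀_hmap (A := A) (Formal.modPowπ I (n + 1) M) _).trans ?_
    rw [AddEquiv.apply_symm_apply]
    exact ha n



/-- `a` is the value of the functional `φ` on the formal section `y`. -/
def Lifts (y : ∀ n, Γ(Formal.modPow I (n + 1) E, ⊤)) (φ : Γ(dual E, ⊤))
    (a : Γ(Coh.structureModule X, ⊤)) : Prop :=
  ∀ (n : ℕ) (V : X.Opens), IsAffineOpen V → ∀ z : Γ(E, V),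
    (Formal.modPowπ I (n + 1) E).app V z = ρ (Formal.modPow I (n + 1) E) (le_top : V ≤ ⊤) (y n) →
    (Formal.modPowπ I (n + 1) (Coh.structureModule X)).app V
        (ρ (Coh.structureModule X) (le_top : V ≤ ⊤) a) =
      (Formal.modPowπ I (n + 1) (Coh.structureModule X)).app V (ev φ V z)

lemma app_smul' {M N : X.Modules} (ψ : M ⟶ N) {V : X.Opens} (r : Γ(X, V)) (z : Γ(M, V)) :
    ψ.app V (r • z) = r • ψ.app V z := ψ.app_smul r z

variable (hE : FlatMod.IsFinLocFree E)
  (hi : ∀ a : Γ(Coh.structureModule X, ⊤),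
    (∀ n, (Formal.modPowπ I (n + 1) (Coh.structureModule X)).app ⊤ a = 0) → a = 0)
  (hs : ∀ y, Compat I (M := Coh.structureModule X) y →
    ∃ a, ∀ n, (Formal.modPowπ I (n + 1) (Coh.structureModule X)).app ⊤ a = y n)

include hE hs in
lemma exists_lifts {y : ∀ n, Γ(Formal.modPow I (n + 1) E, ⊤)} (hy : Compat I y) (φ : Γ(dual E, ⊤)) :
    ∃ a, Lifts I y φ a := by
  have : E.IsQuasicoherent := KTheory.LocFree.isQCoh hE
  choose ψ hψ using fun n => (CohC3.isQuot_modPowπ I (n + 1) E).desc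
    (CohC3.homOfGlobal φ ≫ Formal.modPowπ I (n + 1) (Coh.structureModule X))
    ((CohC3.isQuot_modPowπ I (n + 1) (Coh.structureModule X)).le_ann.trans
      (CohC3.annHom_le_precomp _ _))
  have hcomp : ∀ n, ψ (n + 1) ≫ Formal.modPowTrans I (n + 1) (Coh.structureModule X) =
      Formal.modPowTrans I (n + 1) E ≫ ψ n := fun n => by
    refine (CohC3.isQuot_modPowπ I (n + 1 + 1) E).hom_ext ?_
    rw [← Category.assoc, hψ (n + 1), Category.assoc, Formal.modPowπ_trans, ← Category.assoc,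
      Formal.modPowπ_trans, hψ n]
  obtain ⟨a, ha⟩ := hs (fun n => (ψ n).app ⊤ (y n)) fun n => by
    refine (congr($(hcomp n) |>.app ⊤ (y (n + 1)))).trans ?_
    exact congrArg ((ψ n).app ⊤) (hy n)
  refine ⟨a, fun n V hV z hz => ?_⟩
  refine (CohTwo.app_res _ (le_top : V ≤ ⊤) a).trans ?_
  rw [ha n]
  refine (CohTwo.app_res (ψ n) (le_top : V ≤ ⊤) (y n)).symm.trans ?_
  refine (congrArg ((ψ n).app V) hz.symm).trans ?_
  refine (congr($(hψ n) |>.app V z)).trans ?_
  refine congrArg ((Formal.modPowπ I (n + 1) (Coh.structureModule X)).app V) ?_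
  refine RefRank.mod_section_ext _ fun x hx => ?_
  refine (RefRank.germ_applySec φ le_top z x hx).trans ?_
  exact (RefRank.germ_secToLin (ρ (dual E) (le_top : V ≤ ⊤) φ) z x hx).symm

variable [IsNoetherian X] [X.IsQuasiAffine]

include hE hi in
lemma lifts_unique {y : ∀ n, Γ(Formal.modPow I (n + 1) E, ⊤)} {φ : Γ(dual E, ⊤)}
    {a b : Γ(Coh.structureModule X, ⊤)} (ha : Lifts I y φ a) (hb : Lifts I y φ b) : a = b := by
  have : E.IsQuasicoherent := KTheory.LocFree.isQCoh hE
  refine sub_eq_zero.1 (hi _ fun n => CohTwo.eq_of_local _ _ _ fun x _ => ?_)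
  obtain ⟨_, ⟨V, hV, rfl⟩, hxV, -⟩ :=
    X.isBasis_affineOpens.exists_subset_of_mem_open (Set.mem_univ x) isOpen_univ
  refine ⟨V, le_top, hxV, ?_⟩
  obtain ⟨z, hz⟩ := (CohC3.isQuot_modPowπ I (n + 1) E).app_surjective hV
    (ρ (Formal.modPow I (n + 1) E) (le_top : V ≤ ⊤) (y n))
  rw [map_zero, ← CohTwo.app_res, map_sub, map_sub, sub_eq_zero]
  exact (ha n V hV z hz).trans (hb n V hV z hz).symm

lemma lifts_smul {y : ∀ n, Γ(Formal.modPow I (n + 1) E, ⊤)} {φ : Γ(dual E, ⊤)}
    {a : Γ(Coh.structureModule X, ⊤)} (ha : Lifts I y φ a) (r : Γ(X, ⊤)) :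
    Lifts I y (r • φ) (r • a) := fun n V hV z hz => by
  rw [ev_smul, LinearMap.smul_apply, Groth.QCohMod.res_smul, app_smul', app_smul', ha n V hV z hz]

lemma lifts_sum {ι : Type*} [Fintype ι] {y : ∀ n, Γ(Formal.modPow I (n + 1) E, ⊤)}
    {φ : ι → Γ(dual E, ⊤)} {a : ι → Γ(Coh.structureModule X, ⊤)} (ha : ∀ i, Lifts I y (φ i) (a i)) :
    Lifts I y (∑ i, φ i) (∑ i, a i) := fun n V hV z hz => by
  rw [ev_sum, LinearMap.sum_apply, map_sum, map_sum, map_sum]
  exact Finset.sum_congr rfl fun i _ => ha i n V hV z hz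

include hE hi hs in
/-- Global sections of a locally free module are its formal sections. -/
theorem sections_locFree :
    (∀ a : Γ(E, ⊤), (∀ n, (Formal.modPowπ I (n + 1) E).app ⊤ a = 0) → a = 0) ∧
      ∀ y, Compat I (M := E) y → ∃ a, ∀ n, (Formal.modPowπ I (n + 1) E).app ⊤ a = y n := by
  have : E.IsQuasicoherent := KTheory.LocFree.isQCoh hE
  have hlift : ∀ (w : Γ(E, ⊤)) (φ : Γ(dual E, ⊤)),
      Lifts I (fun n => (Formal.modPowπ I (n + 1) E).app ⊤ w) φ (ev φ ⊤ w) := by
    intro w φ n V hV z hz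
    replace hz : (Formal.modPowπ I (n + 1) E).app V (z - ρ E le_top w) = 0 := by
      rw [map_sub, sub_eq_zero, hz]
      exact (CohTwo.app_res _ _ _).symm
    have hz' := ((CohC3.isQuot_modPowπ I (n + 1) E).app_eq_zero_iff _ hV).1 hz
    rw [← ev_res, ← sub_eq_zero, ← map_sub, ← map_sub]
    refine ((CohC3.isQuot_modPowπ I (n + 1) (Coh.structureModule X)).app_eq_zero_iff _ hV).2 ?_
    have := Submodule.mem_map_of_mem (f := ev φ V) hz'
    rw [Submodule.map_smul''] at this
    rw [← neg_sub z, map_neg]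
    exact neg_mem (Submodule.smul_mono le_rfl le_top this)
  refine ⟨fun w hw => ?_, fun y hy => ?_⟩
  · refine CohTwo.eq_of_local _ _ _ fun x _ => ?_
    obtain ⟨c, hc⟩ := exists_chart hE x
    refine ⟨c.U, le_top, hc, ?_⟩
    rw [map_zero]
    refine c.eq_zero le_rfl _ fun i => ?_
    refine (ev_res _ (le_top : c.U ≤ ⊤) w).trans ?_
    have h0 : ev (c.φ i) ⊤ w = 0 := by
      refine lifts_unique I hE hi (hlift w (c.φ i)) fun n V hV z hz => ?_
      simp only [hw] at hz
      rw [map_zero, map_zero]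
      refine (((CohC3.isQuot_modPowπ I (n + 1) (Coh.structureModule X)).app_eq_zero_iff _ hV).2 ?_).symm
      rw [map_zero] at hz
      have := Submodule.mem_map_of_mem (f := ev (c.φ i) V)
        (((CohC3.isQuot_modPowπ I (n + 1) E).app_eq_zero_iff _ hV).1 hz)
      rw [Submodule.map_smul''] at this
      exact Submodule.smul_mono le_rfl le_top this
    rw [h0, map_zero]
  · choose a ha using exists_lifts I hE hs hy
    choose c hc using exists_chart hE
    let w : ∀ x, Γ(E, (c x).U) := fun x =>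
      ∑ i, ρf X (le_top : (c x).U ≤ ⊤) (toFun (a ((c x).φ i))) • (c x).s i
    have hw : ∀ x φ, ev φ (c x).U (w x) =
        ρ (Coh.structureModule X) (le_top : (c x).U ≤ ⊤) (a φ) := by
      intro x φ
      obtain ⟨k, d, hd⟩ := (c x).exists_relation hE φ
      have ea : (c x).f ^ k • a φ = ∑ i, d i • a ((c x).φ i) := by
        refine lifts_unique I hE hi (φ := (c x).f ^ k • φ) (lifts_smul I (ha φ) _) ?_
        rw [hd]
        exact lifts_sum I fun i => lifts_smul I (ha _) _
      have hu : IsUnit (ρf X (le_top : (c x).U ≤ ⊤) ((c x).f) ^ k) :=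
        (RingedSpace.isUnit_res_basicOpen _ _).pow k
      refine hu.smul_left_cancel.1 ?_
      have h1 : ∀ i, ev ((c x).φ i) (c x).U (w x) =
          ρ (Coh.structureModule X) (le_top : (c x).U ≤ ⊤) (a ((c x).φ i)) := fun i => by
        change ev ((c x).φ i) (c x).U (∑ j, _) = _
        rw [map_sum]
        have e : ∀ j, ev ((c x).φ i) (c x).U
            (ρf X (le_top : (c x).U ≤ ⊤) (toFun (a ((c x).φ j))) • (c x).s j) =
            if j = i then ρ (Coh.structureModule X) (le_top : (c x).U ≤ ⊤) (a ((c x).φ j)) else 0 := fun j => by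
          rw [map_smul, Groth.PicAux.eq_toFun_smul_oneSec (ev ((c x).φ i) (c x).U ((c x).s j)), (c x).dualδ]
          split
          · rw [one_smul]
            exact (Groth.PicAux.eq_toFun_smul_oneSec _).symm
          · rw [zero_smul, smul_zero]
        rw [Finset.sum_congr rfl fun j _ => e j, Finset.sum_ite_eq']
        simp
      rw [← map_pow, ← LinearMap.smul_apply, ← ev_smul, hd, ev_sum, LinearMap.sum_apply,
        ← Groth.QCohMod.res_smul, ea, map_sum]
      refine Finset.sum_congr rfl fun i _ => ?_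
      rw [ev_smul, LinearMap.smul_apply, h1, Groth.QCohMod.res_smul]
    obtain ⟨v, hv⟩ := CohTwo.exists_glue E (W := ⊤) (fun x => (c x).U) (fun _ => le_top)
      (fun x _ => ⟨x, hc x⟩) w fun x x' => by
      refine sub_eq_zero.1 ((c x).eq_zero inf_le_left _ fun i => ?_)
      rw [map_sub, sub_eq_zero]
      refine (ev_res _ (inf_le_left : (c x).U ⊓ (c x').U ≤ (c x).U) (w x)).trans ?_
      rw [hw]
      refine Eq.trans ?_ (ev_res _ (inf_le_right : (c x).U ⊓ (c x').U ≤ (c x').U) (w x')).symm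
      rw [hw, Groth.QCohMod.res_res, Groth.QCohMod.res_res]
    refine ⟨v, fun n => CohTwo.eq_of_local _ _ _ fun x _ => ⟨(c x).U, le_top, hc x, ?_⟩⟩
    rw [← CohTwo.app_res, hv]
    obtain ⟨z, hz⟩ := (CohC3.isQuot_modPowπ I (n + 1) E).app_surjective (c x).aff
      (ρ (Formal.modPow I (n + 1) E) (le_top : (c x).U ≤ ⊤) (y n))
    refine Eq.trans ?_ hz
    rw [← sub_eq_zero, ← map_sub, CohC3.IsQuot.app_eq_zero_iff (CohC3.isQuot_modPowπ I (n + 1) E) _ (c x).aff,
      (c x).eq_sum le_rfl (w x - z)]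
    refine Submodule.sum_mem _ fun i _ => Submodule.smul_mem_smul ?_ trivial
    have h0 : (Formal.modPowπ I (n + 1) (Coh.structureModule X)).app (c x).U
        (ev ((c x).φ i) (c x).U (w x - z)) = 0 := by
      rw [map_sub, map_sub, hw, sub_eq_zero]
      exact ha ((c x).φ i) n _ (c x).aff z hz
    refine Submodule.smul_induction_on
      (p := fun t : Γ(Coh.structureModule X, (c x).U) => toFun t ∈ _)
      (((CohC3.isQuot_modPowπ I (n + 1) (Coh.structureModule X)).app_eq_zero_iff _ (c x).aff).1 h0)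
      (fun r hr t _ => ?_) fun t t' ht ht' => Ideal.add_mem _ ht ht'
    rw [Groth.PicAux.toFun_smul]
    exact Ideal.mul_mem_right _ _ hr

end Formal

end Groth.CohDev.QAFormal
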