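import Groth.Agent.QCohMod.QCQS
import Groth.Agent.QCohMod.Coherent
import Groth.Agent.CohTwo.Glue
import Mathlib.AlgebraicGeometry.Noetherian
import Mathlib.RingTheory.Noetherian.Basic

/-!
# Sections over an open subscheme of the spectrum of a Noetherian ring

Global sections of a module on an open `U` of `Spec R` form an `R`-module, and contain a finite
`R`-submodule generating over `U` when the module has finite sections on affine opens.
-/

universe u

open CategoryTheory AlgebraicGeometry TopologicalSpace Opposite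
open Groth.QCohMod (res resFun)

namespace Groth.CohDev.SpecOpen

variable {R : Type u} [CommRing R] {U : (Spec (CommRingCat.of R)).Opens}

variable (U) in
/-- The functions on `U` coming from `R`. -/
noncomputable def theta : R →+* Γ((U : Scheme.{u}), ⊤) :=
  (U.ι.appLE ⊤ ⊤ le_top).hom.comp (Scheme.ΓSpecIso (CommRingCat.of R)).inv.hom

/-- Sections over `⊤` as a module over `R`. -/
noncomputable scoped instance modTop (M : (U : Scheme.{u}).Modules) : Module R Γ(M, ⊤) :=
  Module.compHom _ (theta U)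

lemma smul_def (M : (U : Scheme.{u}).Modules) (r : R) (m : Γ(M, ⊤)) : r • m = theta U r • m := rfl

/-- A morphism on sections over `⊤`, linear over `R`. -/
noncomputable def appL {M N : (U : Scheme.{u}).Modules} (f : M ⟶ N) : Γ(M, ⊤) →ₗ[R] Γ(N, ⊤) where
  toFun m := f.app ⊤ m
  map_add' := map_add _
  map_smul' r m := f.app_smul (theta U r) m

/-- The basic open of `a`. -/
noncomputable abbrev dOpen (a : R) : (Spec (CommRingCat.of R)).Opens :=
  (Spec (CommRingCat.of R)).basicOpen ((Scheme.ΓSpecIso (CommRingCat.of R)).inv a)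

lemma mem_dOpen {a : R} {p : PrimeSpectrum R} :
    (show (Spec (CommRingCat.of R)) from p) ∈ dOpen a ↔ a ∉ p.asIdeal := by
  rw [dOpen, basicOpen_eq_of_affine]; rfl

lemma theta_eq (a : R) :
    theta U a = U.ι.appTop ((Scheme.ΓSpecIso (CommRingCat.of R)).inv a) := by
  rw [Scheme.Hom.appTop, Scheme.Hom.app_eq_appLE]; rfl

lemma basicOpen_theta (a : R) :
    (U : Scheme.{u}).basicOpen (theta U a) = U.ι ⁻¹ᵁ dOpen a := by
  rw [theta_eq, ← Scheme.preimage_basicOpen_top]

lemma isAffineOpen_basicOpen (a : R) (ha : dOpen a ≤ U) :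
    IsAffineOpen ((U : Scheme.{u}).basicOpen (theta U a)) := by
  rw [basicOpen_theta]
  exact IsAffineOpen.preimage_of_isOpenImmersion ((isAffineOpen_top _).basicOpen _) U.ι
    (by rw [Scheme.Opens.opensRange_ι]; exact ha)

/-- Functions on `D(a)` are fractions. -/
lemma exists_frac (a : R) (ha : dOpen a ≤ U)
    (r : Γ((U : Scheme.{u}), (U : Scheme.{u}).basicOpen (theta U a))) :
    ∃ (b : R) (k : ℕ), resFun _ ((U : Scheme.{u}).basicOpen_le (theta U a)) (theta U a) ^ k * r =
      resFun _ ((U : Scheme.{u}).basicOpen_le (theta U a)) (theta U b) := by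
  have hW : (U : Scheme.{u}).basicOpen (theta U a) = U.ι ⁻¹ᵁ dOpen a := basicOpen_theta a
  have := Scheme.Hom.isIso_app U.ι (dOpen a) (by rw [Scheme.Opens.opensRange_ι]; exact ha)
  have hbij : Function.Bijective (U.ι.appLE (dOpen a) _ hW.le) := by
    rw [Scheme.Hom.appLE]
    have : IsIso (homOfLE hW.le) := ⟨homOfLE hW.ge, Subsingleton.elim _ _, Subsingleton.elim _ _⟩
    exact ConcreteCategory.bijective_of_isIso _
  obtain ⟨r₀, hr₀⟩ := hbij.2 r
  have := (isAffineOpen_top (Spec (CommRingCat.of R))).isLocalization_basicOpen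
    ((Scheme.ΓSpecIso (CommRingCat.of R)).inv a)
  obtain ⟨k, b₀, hb₀⟩ := IsLocalization.Away.surj ((Scheme.ΓSpecIso (CommRingCat.of R)).inv a) r₀
  refine ⟨(Scheme.ΓSpecIso (CommRingCat.of R)).hom b₀, k, ?_⟩
  have hcompat : ∀ x : Γ(Spec (CommRingCat.of R), ⊤), U.ι.appLE (dOpen a) _ hW.le
      (((Spec (CommRingCat.of R)).presheaf.map
        (homOfLE ((Spec (CommRingCat.of R)).basicOpen_le ((Scheme.ΓSpecIso (CommRingCat.of R)).inv a))).op) x) =
      resFun _ ((U : Scheme.{u}).basicOpen_le (theta U a)) (U.ι.appLE ⊤ ⊤ le_top x) := fun x => by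
    simp only [resFun, ← CommRingCat.comp_apply, Scheme.Hom.map_appLE]
    exact (congr($(Scheme.Hom.appLE_map U.ι le_top (homOfLE ((U : Scheme.{u}).basicOpen_le (theta U a))).op) x)).symm
  have e := congrArg (U.ι.appLE (dOpen a) _ hW.le) hb₀
  rw [RingHom.algebraMap_toAlgebra, map_mul, map_pow, hr₀] at e
  erw [hcompat, hcompat] at e
  rw [mul_comm]
  refine e.trans ?_
  change _ = resFun _ _ (U.ι.appLE ⊤ ⊤ le_top ((Scheme.ΓSpecIso (CommRingCat.of R)).inv ((Scheme.ΓSpecIso (CommRingCat.of R)).hom b₀)))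
  rw [Iso.hom_inv_id_apply]
  exact hcompat b₀

variable [IsNoetherianRing R]

variable (U) in
/-- Finitely many basic opens covering `U`. -/
lemma exists_gens : ∃ s : Finset R, (∀ a ∈ s, dOpen a ≤ U) ∧
    ∀ p : PrimeSpectrum R, (show (Spec (CommRingCat.of R)) from p) ∈ U → ∃ a ∈ s, a ∉ p.asIdeal := by
  let U₀ : Set (PrimeSpectrum R) := (U : Set (Spec (CommRingCat.of R)))
  have hU₀ : IsOpen U₀ := U.2
  have hU : IsCompact U₀ := NoetherianSpace.isCompact _
  have hb : ∀ p : U₀, ∃ a : R, a ∉ (p : PrimeSpectrum R).asIdeal ∧ dOpen a ≤ U := fun p => by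
    obtain ⟨_, ⟨a, rfl⟩, hpa, hle⟩ :=
      PrimeSpectrum.isTopologicalBasis_basic_opens.exists_subset_of_mem_open p.2 hU₀
    exact ⟨a, hpa, fun q hq => hle (mem_dOpen.1 hq)⟩
  choose a ha hle using hb
  obtain ⟨t, ht⟩ := hU.elim_finite_subcover (fun p : U₀ => (PrimeSpectrum.basicOpen (a p) : Set (PrimeSpectrum R)))
    (fun p => (PrimeSpectrum.basicOpen (a p)).2) (fun p hp => Set.mem_iUnion.2 ⟨⟨p, hp⟩, ha ⟨p, hp⟩⟩)
  classical
  refine ⟨t.image a, fun b hb => ?_, fun p hp => ?_⟩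
  · obtain ⟨q, -, rfl⟩ := Finset.mem_image.1 hb
    exact hle q
  · obtain ⟨q, hq, hpq⟩ := Set.mem_iUnion₂.1 (ht hp)
    exact ⟨a q, Finset.mem_image_of_mem a hq, hpq⟩

variable (U) in
/-- A power of an ideal vanishing on the complement of `U` lies in the ideal of the covering. -/
lemma exists_pow_le_span (s : Finset R) (hs : ∀ p : PrimeSpectrum R, (show (Spec (CommRingCat.of R)) from p) ∈ U → ∃ a ∈ s, a ∉ p.asIdeal)
    (J : Ideal R) (hJ : ∀ p : PrimeSpectrum R, ¬ J ≤ p.asIdeal → (show (Spec (CommRingCat.of R)) from p) ∈ U) :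
    ∃ k, J ^ k ≤ Ideal.span (s : Set R) := by
  refine Ideal.exists_pow_le_of_le_radical_of_fg ?_ (IsNoetherian.noetherian J)
  rw [Ideal.radical_eq_sInf]
  refine le_sInf fun P hP => ?_
  by_contra h
  obtain ⟨a, ha, hpa⟩ := hs ⟨P, hP.2⟩ (hJ ⟨P, hP.2⟩ h)
  exact hpa (hP.1 (Ideal.subset_span ha))

lemma res_smulR (M : (U : Scheme.{u}).Modules) {V : (U : Scheme.{u}).Opens} (hV : V ≤ ⊤) (r : R) (z : Γ(M, ⊤)) :
    res M hV (r • z) = resFun (U : Scheme.{u}) hV (theta U r) • res M hV z :=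
  QCohMod.res_smul M hV (theta U r) z

lemma res_pow_smul (M : (U : Scheme.{u}).Modules) {V : (U : Scheme.{u}).Opens} (hV : V ≤ ⊤) (r : R) (k : ℕ)
    (z : Γ(M, ⊤)) :
    res M hV (r ^ k • z) = resFun (U : Scheme.{u}) hV (theta U r) ^ k • res M hV z := by
  rw [res_smulR, map_pow, map_pow]

lemma pow_smul_def (M : (U : Scheme.{u}).Modules) (r : R) (k : ℕ) (z : Γ(M, ⊤)) :
    theta U r ^ k • z = r ^ k • z :=
  (congrArg (· • z) (map_pow (theta U) r k).symm)

/-- A finite `R`-submodule of the global sections with torsion cokernel. -/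
theorem exists_lattice (M : (U : Scheme.{u}).Modules) [M.IsQuasicoherent]
    (hM : ∀ W : (U : Scheme.{u}).Opens, IsAffineOpen W → Module.Finite Γ((U : Scheme.{u}), W) Γ(M, W))
    (s : Finset R) (hs : ∀ a ∈ s, dOpen a ≤ U) :
    ∃ S : Set Γ(M, ⊤), S.Finite ∧
      ∀ z : Γ(M, ⊤), ∃ l : ℕ, ∀ c ∈ Ideal.span (s : Set R) ^ l, c • z ∈ Submodule.span R S := by
  have : CompactSpace (U : Scheme.{u}) := isCompact_iff_compactSpace.mp (NoetherianSpace.isCompact (α := PrimeSpectrum R) _)
  have : QuasiSeparatedSpace (U : Scheme.{u}) := quasiSeparatedSpace_of_quasiSeparated (U.ι)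
  have h1 : ∀ a ∈ s, ∃ S : Set Γ(M, ⊤), S.Finite ∧ ∀ z : Γ(M, ⊤), ∃ k : ℕ,
      a ^ k • z ∈ Submodule.span R S := by
    intro a ha
    obtain ⟨W, hWdef⟩ : ∃ W, W = (U : Scheme.{u}).basicOpen (theta U a) := ⟨_, rfl⟩
    have hWa : IsAffineOpen W := hWdef ▸ isAffineOpen_basicOpen a (hs a ha)
    subst hWdef
    have hW : (U : Scheme.{u}).basicOpen (theta U a) ≤ ⊤ := le_top
    obtain ⟨t, ht⟩ := (hM _ hWa).fg_top
    choose n T hT using fun y : Γ(M, (U : Scheme.{u}).basicOpen (theta U a)) => QCohMod.exists_pow_smul_eq_res_of_qcqs M (W := ⊤)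
      CompactSpace.isCompact_univ isQuasiSeparated_univ (theta U a) y
    refine ⟨T '' (t : Set Γ(M, (U : Scheme.{u}).basicOpen (theta U a))), t.finite_toSet.image T, fun z => ?_⟩
    obtain ⟨k, v, hv, hkv⟩ : ∃ k : ℕ, ∃ v ∈ Submodule.span R (T '' (t : Set Γ(M, (U : Scheme.{u}).basicOpen (theta U a)))),
        res M hW v = resFun (U : Scheme.{u}) hW (theta U a) ^ k • res M hW z := by
      suffices h : ∀ y : Γ(M, (U : Scheme.{u}).basicOpen (theta U a)), y ∈ Submodule.span Γ((U : Scheme.{u}), (U : Scheme.{u}).basicOpen (theta U a)) (t : Set Γ(M, (U : Scheme.{u}).basicOpen (theta U a))) →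
          ∃ k : ℕ, ∃ v ∈ Submodule.span R (T '' (t : Set Γ(M, (U : Scheme.{u}).basicOpen (theta U a)))), res M hW v = resFun (U : Scheme.{u}) hW (theta U a) ^ k • y from
        h _ (ht ▸ Submodule.mem_top)
      intro y hy
      induction hy using Submodule.span_induction with
      | mem y hy => exact ⟨n y, T y, Submodule.subset_span ⟨y, hy, rfl⟩, hT y⟩
      | zero => exact ⟨0, 0, zero_mem _, by simp⟩
      | add y y' _ _ hy hy' =>
        obtain ⟨k, v, hv, e⟩ := hy
        obtain ⟨k', v', hv', e'⟩ := hy'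
        refine ⟨k + k', a ^ k' • v + a ^ k • v',
          add_mem (Submodule.smul_mem _ _ hv) (Submodule.smul_mem _ _ hv'), ?_⟩
        rw [map_add, res_pow_smul, res_pow_smul, e, e', ← mul_smul, ← mul_smul, ← pow_add, ← pow_add,
          smul_add, add_comm k']
      | smul r y _ hy =>
        obtain ⟨k, v, hv, e⟩ := hy
        obtain ⟨b, j, hb⟩ := exists_frac a (hs a ha) r
        refine ⟨j + k, b • v, Submodule.smul_mem _ _ hv, ?_⟩
        rw [res_smulR, e, ← mul_smul, ← mul_smul, ← hb, pow_add]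
        exact congrArg (· • y) (by ring)
    obtain ⟨e, he⟩ := QCohMod.exists_pow_smul_eq_zero_of_isCompact M (W := ⊤)
      CompactSpace.isCompact_univ (theta U a) (v - a ^ k • z) (by
        rw [map_sub, hkv, res_pow_smul, sub_self])
    refine ⟨e + k, ?_⟩
    rw [pow_smul_def, smul_sub, sub_eq_zero, ← mul_smul, ← pow_add] at he
    rw [← he]
    exact Submodule.smul_mem _ _ hv
  choose S hSf hS using h1
  refine ⟨⋃ a : s, S a a.2, Set.finite_iUnion fun a => hSf a a.2, fun z => ?_⟩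
  let I : Ideal R := (Submodule.span R (⋃ a : s, S a a.2)).colon {z}
  have hrad : Ideal.span (s : Set R) ≤ I.radical := Ideal.span_le.2 fun a ha => by
    obtain ⟨k, hk⟩ := hS a ha z
    exact ⟨k, Submodule.mem_colon_singleton.2
      (Submodule.span_mono (Set.subset_iUnion (fun a : s => S a a.2) ⟨a, ha⟩) hk)⟩
  obtain ⟨l, hl⟩ := Ideal.exists_pow_le_of_le_radical_of_fg hrad (IsNoetherian.noetherian _)
  exact ⟨l, fun c hc => Submodule.mem_colon_singleton.1 (hl hc)⟩

end Groth.CohDev.SpecOpen
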