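import Groth.Agent.CohDev.TildeSections
import Groth.Agent.CohBase.Acyclic
import Groth.Agent.SiteCohomology.Free
import Groth.Prelude.Def_Formal2

/-! Degree zero cohomology of tilde modules as sections. -/

universe u

open CategoryTheory AlgebraicGeometry TopologicalSpace Opposite
open CategoryTheory.Abelian (Ext)

namespace Groth.CohDev.TS

variable {A : Type u} [CommRing A] {M N : Type u} [AddCommGroup M] [Module A M] [AddCommGroup N] [Module A N]

lemma addEquiv₀_mk₀' {C : Type*} [Category C] [Abelian C] [HasExt C] {X Y : C} (f : X ⟶ Y) :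
    Ext.addEquiv₀ (Ext.mk₀ f) = f := Ext.addEquiv₀.right_inv f

variable (A M) in
/-- The abelian sheaf of a tilde module. -/
noncomputable abbrev ab : CohTop.Ab (Spec (CommRingCat.of A)).toTopCat := Coh.toAb (Formal2.tmod A M)

/-- `H⁰(U, M~)` is the group of sections. -/
noncomputable def toSec (U : Op A) : Formal2.HV A M 0 U ≃+ Sec (A := A) M U :=
  Ext.addEquiv₀.trans (Groth.CohBase.homFreeOpen (X := (Spec (CommRingCat.of A)).toTopCat) U (ab A M))

lemma toSec_map (φ : M →ₗ[A] N) (U : Op A) (x : Formal2.HV A M 0 U) :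
    toSec U (Formal2.HVmap A φ 0 U x) = map φ U (toSec U x) := by
  obtain ⟨a, rfl⟩ := (Ext.mk₀_bijective _ _).2 x
  have e : Formal2.HVmap A φ 0 U (Ext.mk₀ a) =
      Ext.mk₀ (a ≫ (SheafOfModules.toSheaf _).map (Formal2.tmodMap A φ)) := Ext.mk₀_comp_mk₀ _ _
  rw [e]
  change Groth.CohBase.homFreeOpen (X := (Spec (CommRingCat.of A)).toTopCat) U (ab A N) (Ext.addEquiv₀ (Ext.mk₀ _)) = map φ U (Groth.CohBase.homFreeOpen (X := (Spec (CommRingCat.of A)).toTopCat) U (ab A M) (Ext.addEquiv₀ (Ext.mk₀ a)))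
  rw [addEquiv₀_mk₀', addEquiv₀_mk₀', Groth.CohBase.homFreeOpen_comp]
  rfl

lemma toSec_res {U V : Op A} (h : V ≤ U) (x : Formal2.HV A M 0 U) :
    toSec V (Formal2.HVres A M 0 h x) = res h (toSec U x) := by
  obtain ⟨a, rfl⟩ := (Ext.mk₀_bijective _ _).2 x
  have e : Formal2.HVres A M 0 h (Ext.mk₀ a) =
      Ext.mk₀ (CohCx.freeSheafMap (Opens.grothendieckTopology _) (homOfLE h) ≫ a) := Ext.mk₀_comp_mk₀ _ _
  rw [e]
  change Groth.CohBase.homFreeOpen (X := (Spec (CommRingCat.of A)).toTopCat) V (ab A M) (Ext.addEquiv₀ (Ext.mk₀ _)) = res h (Groth.CohBase.homFreeOpen (X := (Spec (CommRingCat.of A)).toTopCat) U (ab A M) (Ext.addEquiv₀ (Ext.mk₀ a)))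
  rw [addEquiv₀_mk₀', addEquiv₀_mk₀']
  exact CohFree.evalGen_freeSheafMap_comp (Opens.grothendieckTopology (Spec (CommRingCat.of A))) (homOfLE h) (ab A M) a

/-- The defining property of `FormalCohColimBijective` in degree zero, on sections. -/
def ColimBij (I : Ideal A) (M : Type u) [AddCommGroup M] [Module A M] (U : Op A) : Prop :=
  (∀ (V : Op A) (_ : Formal2.Admissible A I U V) (x : Sec (A := A) M V),
      (∀ n, map (Formal2.quotPowπ A I M n) V x = 0) →
        ∃ (V' : Op A) (h : Formal2.Admissible A I U V' ∧ V' ≤ V), res h.2 x = 0) ∧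
  ∀ y : ∀ n, Sec (A := A) (Formal2.quotPow A I M n) U,
    (∀ n, map (Formal2.quotPowTrans A I M n) U (y (n + 1)) = y n) →
      ∃ (V : Op A) (hV : Formal2.Admissible A I U V) (x : Sec (A := A) M V),
        ∀ n, res hV.1 (y n) = map (Formal2.quotPowπ A I M n) V x

theorem colimBij_iff (I : Ideal A) (U : Op A) :
    Formal2.FormalCohColimBijective A I M 0 U ↔ ColimBij I M U := by
  constructor
  · rintro ⟨h1, h2⟩
    refine ⟨fun V hV x hx => ?_, fun y hy => ?_⟩
    · obtain ⟨V', h, hx'⟩ := h1 V hV ((toSec V).symm x) fun n => (toSec V).injective (by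
        rw [toSec_map, AddEquiv.apply_symm_apply, hx, map_zero])
      exact ⟨V', h, by rw [← (toSec V).apply_symm_apply x, ← toSec_res, hx', map_zero]⟩
    · obtain ⟨V, hV, x, hx⟩ := h2 (fun n => (toSec U).symm (y n)) fun n => (toSec U).injective (by
        rw [toSec_map, AddEquiv.apply_symm_apply, AddEquiv.apply_symm_apply, hy])
      exact ⟨V, hV, toSec V x, fun n => by rw [← toSec_map, ← hx, toSec_res, AddEquiv.apply_symm_apply]⟩
  · rintro ⟨h1, h2⟩
    refine ⟨fun V hV x hx => ?_, fun y hy => ?_⟩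
    · obtain ⟨V', h, hx'⟩ := h1 V hV (toSec V x) fun n => by rw [← toSec_map, hx, map_zero]
      exact ⟨V', h, (toSec V').injective (by rw [toSec_res, hx', map_zero])⟩
    · obtain ⟨V, hV, x, hx⟩ := h2 (fun n => toSec U (y n)) fun n => by rw [← toSec_map, hy]
      exact ⟨V, hV, (toSec V).symm x, fun n => (toSec V).injective (by
        rw [toSec_res, toSec_map, AddEquiv.apply_symm_apply, hx])⟩

end Groth.CohDev.TS
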