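import Mathlib.AlgebraicGeometry.Modules.Tilde
import Mathlib.RingTheory.Noetherian.Basic
import Mathlib.RingTheory.Spectrum.Prime.Noetherian
import Mathlib.Topology.Sheaves.SheafCondition.UniqueGluing

/-! Sections of tilde modules over arbitrary opens of an affine scheme. -/

universe u

open CategoryTheory AlgebraicGeometry TopologicalSpace Opposite

namespace Groth.CohDev.TS

lemma gen_isLocalized {R : CommRingCat.{u}} (M : ModuleCat.{u} R) (f : R) :
    IsLocalizedModule (Submonoid.powers f) (tilde.toOpen M (PrimeSpectrum.basicOpen f)).hom := inferInstance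

lemma gen_smul_bijective {R : CommRingCat.{u}} (M : ModuleCat.{u} R) {U : (Spec R).Opens} (f : R)
    (h : U ≤ PrimeSpectrum.basicOpen f) :
    Function.Bijective (fun s : ((modulesSpecToSheaf.obj (tilde M)).presheaf.obj (op U) : ModuleCat R) => f • s) :=
  (Module.End.isUnit_iff _).1 (Scheme.Modules.isUnit_algebraMap_end_of_le_basicOpen (M := tilde M) f h)

variable {A : Type u} [CommRing A]

variable (A) in
/-- Opens of `Spec A`. -/
abbrev Op : Type u := (Spec (CommRingCat.of A)).Opens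

/-- The sheaf of `A`-modules attached to a module. -/
noncomputable abbrev shf (M : Type u) [AddCommGroup M] [Module A M] :=
  modulesSpecToSheaf.obj (tilde (R := CommRingCat.of A) (ModuleCat.of A M))

/-- Sections over an open. -/
noncomputable abbrev Sec (M : Type u) [AddCommGroup M] [Module A M] (U : Op A) : Type u :=
  ((shf (A := A) M).presheaf.obj (op U) : ModuleCat A)

variable {M N P : Type u} [AddCommGroup M] [Module A M] [AddCommGroup N] [Module A N]
  [AddCommGroup P] [Module A P]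

/-- Restriction. -/
noncomputable def res {U V : Op A} (h : V ≤ U) : Sec (A := A) M U →ₗ[A] Sec (A := A) M V :=
  ((shf (A := A) M).presheaf.map (homOfLE h).op).hom

/-- Functoriality. -/
noncomputable def map (φ : M →ₗ[A] N) (U : Op A) : Sec (A := A) M U →ₗ[A] Sec (A := A) N U :=
  ((modulesSpecToSheaf.map (tilde.map (R := CommRingCat.of A) (ModuleCat.ofHom φ))).1.app (op U)).hom

/-- The canonical map. -/
noncomputable def of (U : Op A) : M →ₗ[A] Sec (A := A) M U :=
  (tilde.toOpen (R := CommRingCat.of A) (ModuleCat.of A M) U).hom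

/-- Basic opens. -/
abbrev D (f : A) : Op A := PrimeSpectrum.basicOpen (R := A) f

@[simp] lemma res_of {U V : Op A} (h : V ≤ U) (m : M) : res h (of U m) = of (A := A) V m :=
  congr(($(tilde.toOpen_res (R := CommRingCat.of A) (ModuleCat.of A M) U V (homOfLE h))).hom m)

@[simp] lemma res_res {U V W : Op A} (h : V ≤ U) (h' : W ≤ V) (s : Sec (A := A) M U) :
    res h' (res h s) = res (h'.trans h) s := by
  change ((shf (A := A) M).presheaf.map (homOfLE h).op ≫ (shf (A := A) M).presheaf.map (homOfLE h').op).hom s = _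
  rw [← Functor.map_comp]
  rfl

@[simp] lemma res_self {U : Op A} (h : U ≤ U) (s : Sec (A := A) M U) : res h s = s := by
  change ((shf (A := A) M).presheaf.map (𝟙 (op U))).hom s = s
  rw [CategoryTheory.Functor.map_id]
  rfl

lemma map_res (φ : M →ₗ[A] N) {U V : Op A} (h : V ≤ U) (s : Sec (A := A) M U) :
    map φ V (res h s) = res h (map φ U s) :=
  congr(($((modulesSpecToSheaf.map (tilde.map (R := CommRingCat.of A) (ModuleCat.ofHom φ))).1.naturality
    (homOfLE h).op)).hom s)

@[simp] lemma map_of (φ : M →ₗ[A] N) (U : Op A) (m : M) : map φ U (of U m) = of U (φ m) :=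
  congr(($(tilde.toOpen_map_app (R := CommRingCat.of A) (ModuleCat.ofHom φ) U)).hom m)

lemma map_comp_apply (φ : M →ₗ[A] N) (ψ : N →ₗ[A] P) (U : Op A) (s : Sec (A := A) M U) :
    map ψ U (map φ U s) = map (ψ.comp φ) U s := by
  have e : tilde.map (R := CommRingCat.of A) (ModuleCat.ofHom φ) ≫ tilde.map (R := CommRingCat.of A) (ModuleCat.ofHom ψ) =
      tilde.map (R := CommRingCat.of A) (ModuleCat.ofHom (ψ.comp φ)) :=
    (tilde.map_comp (R := CommRingCat.of A) _ _).symm
  change _ = ((modulesSpecToSheaf.map _).1.app (op U)).hom s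
  rw [← e, Functor.map_comp]
  rfl

/-- Sections agreeing locally are equal. -/
lemma sep {ι : Type u} {U : Op A} (W : ι → Op A) (hW : ∀ i, W i ≤ U) (hc : U ≤ iSup W)
    {s t : Sec (A := A) M U} (h : ∀ i, res (hW i) s = res (hW i) t) : s = t :=
  TopCat.Sheaf.eq_of_locally_eq' (shf (A := A) M) W U (fun i => homOfLE (hW i)) hc s t h

/-- Compatible local sections glue. -/
lemma glue {ι : Type u} {U : Op A} (W : ι → Op A) (hW : ∀ i, W i ≤ U) (hc : U ≤ iSup W)
    (s : ∀ i, Sec (A := A) M (W i))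
    (h : ∀ i j, res (M := M) (inf_le_left : W i ⊓ W j ≤ W i) (s i) =
      res (M := M) (inf_le_right : W i ⊓ W j ≤ W j) (s j)) :
    ∃ t : Sec (A := A) M U, ∀ i, res (hW i) t = s i :=
  (TopCat.Sheaf.existsUnique_gluing' (shf (A := A) M) W U (fun i => homOfLE (hW i)) hc s h).exists

lemma exists_D_le {U : Op A} {x : PrimeSpectrum A} (hx : x ∈ U) : ∃ f : A, x ∈ D f ∧ D f ≤ U := by
  obtain ⟨_, ⟨f, rfl⟩, hf, hle⟩ :=
    PrimeSpectrum.isTopologicalBasis_basic_opens.exists_subset_of_mem_open hx U.isOpen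
  exact ⟨f, hf, hle⟩

/-- Sections agreeing on basic opens are equal. -/
lemma sep_D {U : Op A} {s t : Sec (A := A) M U}
    (h : ∀ (f : A) (hf : D f ≤ U), res hf s = res hf t) : s = t :=
  sep (fun f : {f : A // D f ≤ U} => D f.1) (fun f => f.2)
    (fun _ hx => Opens.mem_iSup.2 (let ⟨f, hf, hle⟩ := exists_D_le hx; ⟨⟨f, hle⟩, hf⟩)) fun f => h f.1 f.2

instance isLocalized_of (f : A) : IsLocalizedModule (Submonoid.powers f) (of (A := A) (M := M) (D f)) :=
  gen_isLocalized (R := CommRingCat.of A) (ModuleCat.of A M) f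

lemma exists_of_eq {f : A} (s : Sec (A := A) M (D f)) : ∃ (k : ℕ) (m : M), f ^ k • s = of (D f) m := by
  obtain ⟨⟨m, ⟨_, k, rfl⟩⟩, e⟩ := IsLocalizedModule.surj (.powers f)
    (of (A := A) (M := M) (D f)) s
  exact ⟨k, m, e⟩

lemma of_eq_zero_iff {f : A} {m : M} : of (A := A) (D f) m = 0 ↔ ∃ k : ℕ, f ^ k • m = 0 := by
  refine (IsLocalizedModule.eq_zero_iff (.powers f)
    (of (A := A) (M := M) (D f))).trans ⟨?_, ?_⟩
  · rintro ⟨⟨_, k, rfl⟩, h⟩
    exact ⟨k, h⟩
  · rintro ⟨k, h⟩
    exact ⟨⟨f ^ k, k, rfl⟩, h⟩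

/-- An element invertible on an open acts bijectively on its sections. -/
lemma smul_bijective {a : A} {U : Op A} (h : U ≤ D a) :
    Function.Bijective (fun s : Sec (A := A) M U => a • s) :=
  gen_smul_bijective (R := CommRingCat.of A) (ModuleCat.of A M) a h

lemma pow_smul_bijective {a : A} {U : Op A} (h : U ≤ D a) (k : ℕ) :
    Function.Bijective (fun s : Sec (A := A) M U => a ^ k • s) := by
  rcases Nat.eq_zero_or_pos k with rfl | hk
  · simp [Function.Bijective, Function.Injective, Function.Surjective]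
  · exact smul_bijective (h.trans (PrimeSpectrum.basicOpen_pow (R := A) a k hk).ge)

/-- Injective maps are injective on sections. -/
lemma map_injective {φ : M →ₗ[A] N} (hφ : Function.Injective φ) (U : Op A) :
    Function.Injective (map φ U) := by
  rw [injective_iff_map_eq_zero]
  intro s hs
  refine sep_D fun f hf => ?_
  obtain ⟨k, m, hm⟩ := exists_of_eq (res hf s)
  have h0 : of (A := A) (D f) (φ m) = 0 := by
    rw [← map_of, ← hm, map_smul, map_res, hs, map_zero, smul_zero]
  obtain ⟨l, hl⟩ := of_eq_zero_iff.1 h0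
  rw [← map_smul, ← map_zero φ] at hl
  have hm0 : of (A := A) (D f) m = 0 := of_eq_zero_iff.2 ⟨l, hφ hl⟩
  rw [hm0] at hm
  rw [map_zero]
  exact (pow_smul_bijective le_rfl k).1 (hm.trans (smul_zero _).symm)

/-- Sections are left exact. -/
lemma exists_map_eq {φ : M →ₗ[A] N} {ψ : N →ₗ[A] P} (hφ : Function.Injective φ)
    (h : LinearMap.range φ = LinearMap.ker ψ) {U : Op A} (s : Sec (A := A) N U) (hs : map ψ U s = 0) :
    ∃ t, map φ U t = s := by
  have loc : ∀ f : {f : A // D f ≤ U}, ∃ t : Sec (A := A) M (D f.1), map φ (D f.1) t = res f.2 s := by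
    rintro ⟨f, hf⟩
    obtain ⟨k, m, hm⟩ := exists_of_eq (res hf s)
    have h0 : of (A := A) (D f) (ψ m) = 0 := by
      rw [← map_of, ← hm, map_smul, map_res, hs, map_zero, smul_zero]
    obtain ⟨l, hl⟩ := of_eq_zero_iff.1 h0
    obtain ⟨m', hm'⟩ : f ^ l • m ∈ LinearMap.range φ := by rw [h, LinearMap.mem_ker, map_smul, hl]
    obtain ⟨t, ht⟩ := (pow_smul_bijective (M := M) (U := D f) le_rfl (l + k)).2 (of (D f) m')
    refine ⟨t, (pow_smul_bijective le_rfl (l + k)).1 ?_⟩
    change f ^ (l + k) • map φ (D f) t = f ^ (l + k) • res hf s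
    rw [← map_smul, show f ^ (l + k) • t = of (D f) m' from ht, map_of, hm', pow_add, mul_smul, hm, map_smul]
  choose t ht using loc
  obtain ⟨T, hT⟩ := glue (fun f : {f : A // D f ≤ U} => D f.1) (fun f => f.2)
    (fun _ hx => Opens.mem_iSup.2 (let ⟨f, hf, hle⟩ := exists_D_le hx; ⟨⟨f, hle⟩, hf⟩)) t
    (fun i j => map_injective hφ _ (by rw [map_res, map_res, ht, ht, res_res, res_res]))
  exact ⟨T, sep_D fun f hf => ((map_res φ hf T).symm.trans (congrArg (map φ (D f)) (hT ⟨f, hf⟩))).trans (ht ⟨f, hf⟩)⟩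

/-- A section of a module killed by a power of `I` only depends on its restriction near `V(I)`. -/
lemma res_injective_of_killed {I : Ideal A} {n : ℕ} (hM : ∀ a ∈ I ^ n, ∀ m : M, a • m = 0) {U V : Op A}
    (h : V ≤ U) (hV : ∀ p : PrimeSpectrum A, p ∈ U → p ∈ PrimeSpectrum.zeroLocus (I : Set A) → p ∈ V) :
    Function.Injective (res (M := M) h) := by
  rw [injective_iff_map_eq_zero]
  intro s hs
  refine sep_D fun f hf => ?_
  rw [map_zero]
  obtain ⟨k, m, hm⟩ := exists_of_eq (res hf s)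
  refine sep (ι := Option I) (fun o => o.elim (D f ⊓ V) fun a => D f ⊓ D a.1) (fun o => by cases o <;> exact inf_le_left) (fun p hp => ?_) fun o => ?_
  · by_cases hI : p ∈ PrimeSpectrum.zeroLocus (I : Set A)
    · exact Opens.mem_iSup.2 ⟨none, hp, hV p (hf hp) hI⟩
    · obtain ⟨a, ha, ha'⟩ := Set.not_subset.1 (show ¬ (I : Set A) ⊆ p.asIdeal from hI)
      exact Opens.mem_iSup.2 ⟨some ⟨a, ha⟩, hp, ha'⟩
  · rw [map_zero]
    cases o with
    | none =>
      exact (res_res hf (inf_le_left : D f ⊓ V ≤ D f) s).trans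
        (((res_res h (inf_le_right : D f ⊓ V ≤ V) s).symm.trans
          (congrArg (res (inf_le_right : D f ⊓ V ≤ V)) hs)).trans (map_zero _))
    | some a =>
      refine (pow_smul_bijective (inf_le_left : D f ⊓ D a.1 ≤ D f) k).1 ?_
      refine (pow_smul_bijective (inf_le_right : D f ⊓ D a.1 ≤ D a.1) n).1 ?_
      change a.1 ^ n • f ^ k • res (inf_le_left : D f ⊓ D a.1 ≤ D f) (res hf s) = a.1 ^ n • f ^ k • 0
      rw [← map_smul _ (f ^ k), hm, res_of, ← map_smul, hM _ (Ideal.pow_mem_pow a.2 n), smul_zero, smul_zero, map_zero]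

/-- Sections of a quotient lift after multiplication by a power of the equation of a basic open. -/
lemma exists_pow_smul_lift [IsNoetherianRing A] {ψ : M →ₗ[A] N} (hψ : Function.Surjective ψ) {U : Op A}
    {b : A} (hb : D b ≤ U) (s : Sec (A := A) N U) :
    ∃ (k : ℕ) (m : M), b ^ k • s = of U (ψ m) := by
  obtain ⟨k, m'', hk⟩ := exists_of_eq (res hb s)
  obtain ⟨m, rfl⟩ := hψ m''
  let s' := b ^ k • s - of U (ψ m)
  have hs' : res hb s' = 0 := by rw [map_sub, map_smul, hk, res_of, sub_self]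
  obtain ⟨F, hF⟩ := (show IsCompact (X := PrimeSpectrum A) U.carrier from NoetherianSpace.isCompact (α := PrimeSpectrum A) _).elim_finite_subcover
    (fun c : {c : A // D c ≤ U} => (D c.1).carrier) (fun c => (D c.1).isOpen)
    (fun _ hx => let ⟨c, hc, hle⟩ := exists_D_le hx; Set.mem_iUnion.2 ⟨⟨c, hle⟩, hc⟩)
  have loc : ∀ c : {c : A // D c ≤ U}, ∃ l : ℕ, b ^ l • res c.2 s' = 0 := fun ⟨c, hc⟩ => by
    obtain ⟨j, n, hn⟩ := exists_of_eq (res hc s')
    have hle : D (c * b) ≤ D c := PrimeSpectrum.basicOpen_mul_le_left (R := A) c b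
    have hle' : D (c * b) ≤ D b := PrimeSpectrum.basicOpen_mul_le_right (R := A) c b
    have h0 : of (A := A) (D (c * b)) n = 0 := by
      rw [← res_of hle, ← hn, map_smul, res_res, ← res_res hb hle', hs', map_zero, smul_zero]
    obtain ⟨l, hl⟩ := of_eq_zero_iff.1 h0
    refine ⟨l, (pow_smul_bijective le_rfl j).1 ((pow_smul_bijective le_rfl l).1 ?_)⟩
    change c ^ l • c ^ j • b ^ l • res hc s' = c ^ l • c ^ j • 0
    rw [smul_comm (c ^ j), hn, ← mul_smul, ← mul_pow, ← map_smul, hl, map_zero, smul_zero, smul_zero]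
  choose l hl using loc
  refine ⟨F.sup l + k, b ^ F.sup l • m, ?_⟩
  have : b ^ F.sup l • s' = 0 := by
    refine sep (fun c : F => D c.1.1) (fun c => c.1.2)
      (fun x hx => by
        obtain ⟨c, hc, hxc⟩ := Set.mem_iUnion₂.1 (hF hx)
        exact Opens.mem_iSup.2 ⟨⟨c, hc⟩, hxc⟩) fun c => ?_
    obtain ⟨j, hj⟩ := Nat.exists_eq_add_of_le (Finset.le_sup (f := l) c.2)
    rw [map_smul, hj, pow_add, mul_comm, mul_smul, hl, smul_zero, map_zero]
  rw [smul_sub, sub_eq_zero] at this
  rw [pow_add, mul_smul, this, map_smul, map_smul]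

end Groth.CohDev.TS
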