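import Groth.Agent.CohDev.GapTower
import Groth.Agent.CohDev.FormalLimit
import Groth.Agent.CohC3.Smul
import Groth.Agent.QCohMod.Category
import Groth.Agent.CohTwo.Glue
import Mathlib.AlgebraicGeometry.Morphisms.FiniteType
import Mathlib.RingTheory.FiniteType

/-! Stationarity of the kernels of a tower whose limit is covered by a countably generated module. -/

universe u

open CategoryTheory CategoryTheory.Limits AlgebraicGeometry Opposite TopologicalSpace
open Groth.QCohMod (res resFun res_app)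

namespace Groth.CohDev.TowerStationary

variable {k : Type u} [Field k] {X : Scheme.{u}} [X.Over (Spec (CommRingCat.of k))]

lemma finiteType_baseApp [LocallyOfFiniteType (X ↘ Spec (CommRingCat.of k))] {U : X.Opens}
    (hU : IsAffineOpen U) : (CohC3.baseApp (A := k) X U).FiniteType := by
  have h := (X ↘ Spec (CommRingCat.of k)).finiteType_appLE (isAffineOpen_top _) hU le_top
  exact h.comp (RingHom.FiniteType.of_surjective _
    (ConcreteCategory.bijective_of_isIso (Scheme.ΓSpecIso (CommRingCat.of k)).inv).2)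

lemma exists_countable_span_algebra {A : Type u} [CommRing A] [Algebra k A] [Algebra.FiniteType k A] :
    ∃ c : ℕ → A, Submodule.span k (Set.range c) = ⊤ := by
  obtain ⟨n, φ, hφ⟩ := Algebra.FiniteType.iff_quotient_mvPolynomial''.1 ‹Algebra.FiniteType k A›
  obtain ⟨d, hd⟩ := exists_surjective_nat (Fin n →₀ ℕ)
  refine ⟨fun i => φ (MvPolynomial.monomial (d i) 1), top_unique fun a _ => ?_⟩
  obtain ⟨p, rfl⟩ := hφ a
  rw [p.as_sum, map_sum]
  refine sum_mem fun e _ => ?_
  obtain ⟨i, rfl⟩ := hd e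
  rw [show MvPolynomial.monomial (d i) (p.coeff (d i)) =
    p.coeff (d i) • MvPolynomial.monomial (d i) (1 : k) by simp [MvPolynomial.smul_monomial], map_smul]
  exact Submodule.smul_mem _ _ (Submodule.subset_span ⟨i, rfl⟩)

variable [LocallyOfFiniteType (X ↘ Spec (CommRingCat.of k))]

include k in
/-- A tower of maps out of a countably generated quasi-coherent module covering its own limit locally has
stationary kernels over every affine open. -/
theorem exists_stationary {G : X.Modules} [G.IsQuasicoherent] {F : ℕ → X.Modules}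
    (hF : ∀ n, (F n).IsQuasicoherent) (t : ∀ n, F (n + 1) ⟶ F n) (ψ : ∀ n, G ⟶ F n)
    (hψ : ∀ n, ψ (n + 1) ≫ t n = ψ n) {U : X.Opens} (hU : IsAffineOpen U)
    (hG : ∃ s : Set Γ(G, U), s.Countable ∧ Submodule.span Γ(X, U) s = ⊤)
    (hlift : ∀ v : ∀ n, Γ(F n, U), (∀ n, (t n).app U (v (n + 1)) = v n) → ∀ x ∈ U,
      ∃ (W : X.Opens) (h : W ≤ U), x ∈ W ∧ ∃ g : Γ(G, W), ∀ n, (ψ n).app W g = res (F n) h (v n)) :
    ∃ c, ∀ n, c ≤ n → ∀ z : Γ(G, U), (ψ n).app U z = 0 ↔ (ψ c).app U z = 0 := by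
  let _ : Algebra k Γ(X, U) := (CohC3.baseApp (A := k) X U).toAlgebra
  let _ : Module k Γ(G, U) := Module.compHom _ (CohC3.baseApp (A := k) X U)
  have : IsScalarTower k Γ(X, U) Γ(G, U) := ⟨fun a r z => mul_smul (CohC3.baseApp (A := k) X U a) r z⟩
  have : Algebra.FiniteType k Γ(X, U) := finiteType_baseApp (k := k) hU
  have : IsNoetherianRing Γ(X, U) := Algebra.FiniteType.isNoetherianRing k Γ(X, U)
  obtain ⟨cA, hcA⟩ := exists_countable_span_algebra (k := k) (A := Γ(X, U))
  obtain ⟨s, hs, hspan⟩ := hG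
  obtain ⟨cs, hcs⟩ := (hs.insert 0).exists_eq_range (Set.insert_nonempty _ _)
  let H : ℕ → Submodule Γ(X, U) Γ(G, U) := fun n => LinearMap.ker (QCohMod.appₗ (ψ n) U)
  have hH : Antitone H := antitone_nat_of_succ_le fun n z hz => by
    change (ψ n).app U z = 0
    rw [← hψ n]
    change (t n).app U ((ψ (n + 1)).app U z) = 0
    rw [show (ψ (n + 1)).app U z = 0 from hz, map_zero]
  obtain ⟨c, hc⟩ := GapTower.stationary_of_local_lifting (k := k) cA hcA
    (fun i : ℕ => cA i.unpair.1 • cs i.unpair.2) (by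
      refine top_unique ?_
      have h1 := Submodule.span_smul_of_span_eq_top hcA (insert 0 s : Set Γ(G, U))
      rw [Submodule.span_insert_zero, hspan, Submodule.restrictScalars_top] at h1
      rw [← h1]
      refine Submodule.span_mono ?_
      rintro _ ⟨_, ⟨i, rfl⟩, q, hq, rfl⟩
      rw [hcs] at hq
      obtain ⟨j, rfl⟩ := hq
      exact ⟨Nat.pair i j, by simp [Nat.unpair_pair]⟩) H hH (by
    intro T hT p
    have hpU : hU.fromSpec p ∈ U := by
      have := Set.mem_range_self (f := hU.fromSpec) p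
      rwa [hU.range_fromSpec] at this
    obtain ⟨W, hW, hxW, g, hg⟩ := hlift (fun n => (ψ n).app U (T n)) (fun n => by
      rw [show (t n).app U ((ψ (n + 1)).app U (T (n + 1))) = (ψ (n + 1) ≫ t n).app U (T (n + 1)) from rfl,
        hψ, ← sub_eq_zero, ← map_sub]
      exact hT n) _ hpU
    obtain ⟨h, hhW, hxh⟩ := hU.exists_basicOpen_le (V := W) ⟨_, hxW⟩ hpU
    obtain ⟨m, a, ha⟩ := QCohMod.exists_pow_smul_eq_res G hU h (res G hhW g)
    refine ⟨h ^ (m + 1), fun hmem => ?_, h • a, fun n => ?_⟩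
    · have h1 : p ∈ hU.fromSpec ⁻¹ᵁ X.basicOpen h := hxh
      rw [hU.fromSpec_preimage_basicOpen] at h1
      exact h1 (p.isPrime.mem_of_pow_mem _ hmem)
    · obtain ⟨e, he⟩ := QCohMod.exists_pow_smul_eq_zero (F n) hU h ((ψ n).app U (h ^ (m + 1) • T n - h • a)) (by
        rw [map_sub, map_sub, sub_eq_zero, res_app, res_app, QCohMod.res_smul, QCohMod.res_smul, ha,
          ← mul_smul, ← pow_succ', map_pow, (ψ n).app_smul, (ψ n).app_smul]
        congr 1
        rw [← res_app, ← QCohMod.res_res (F n) hW hhW, ← hg n, res_app])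
      refine ⟨e, ?_⟩
      change (ψ n).app U ((h ^ (m + 1)) ^ e • (h ^ (m + 1) • T n - h • a)) = 0
      rw [(ψ n).app_smul, ← pow_mul, show (m + 1) * e = m * e + e by ring, pow_add, mul_smul, he, smul_zero])
  exact ⟨c, fun n hn z => by
    change z ∈ H n ↔ z ∈ H c
    rw [hc n hn]⟩

include k in
/-- Stationarity of the kernels on a finite affine cover. -/
theorem exists_stationary_cover [CompactSpace X] {G : X.Modules} [G.IsQuasicoherent] {F : ℕ → X.Modules}
    (hF : ∀ n, (F n).IsQuasicoherent) (t : ∀ n, F (n + 1) ⟶ F n) (ψ : ∀ n, G ⟶ F n)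
    (hψ : ∀ n, ψ (n + 1) ≫ t n = ψ n)
    (hG : ∀ U : X.affineOpens, ∃ s : Set Γ(G, U.1), s.Countable ∧ Submodule.span Γ(X, U.1) s = ⊤)
    (hlift : ∀ (U : X.Opens) (v : ∀ n, Γ(F n, U)), (∀ n, (t n).app U (v (n + 1)) = v n) → ∀ x ∈ U,
      ∃ (W : X.Opens) (h : W ≤ U), x ∈ W ∧ ∃ g : Γ(G, W), ∀ n, (ψ n).app W g = res (F n) h (v n)) :
    ∃ N, ∀ x : X, ∃ U : X.Opens, IsAffineOpen U ∧ x ∈ U ∧
      ∀ n, N ≤ n → ∀ z : Γ(G, U), (ψ n).app U z = 0 ↔ (ψ N).app U z = 0 := by
  choose c hc using fun U : X.affineOpens => exists_stationary (k := k) hF t ψ hψ U.2 (hG U) (hlift U.1)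
  choose Uf hUf hx using fun x : X => exists_isAffineOpen_mem_and_subset (x := x) (U := ⊤) trivial
  obtain ⟨fs, hfs⟩ := isCompact_univ.elim_finite_subcover (fun x : X => (Uf x : Set X))
    (fun x => (Uf x).2) (fun x _ => Set.mem_iUnion.2 ⟨x, (hx x).1⟩)
  refine ⟨fs.sup fun x => c ⟨Uf x, hUf x⟩, fun y => ?_⟩
  obtain ⟨x, hxfs, hy⟩ := Set.mem_iUnion₂.1 (hfs (Set.mem_univ y))
  refine ⟨Uf x, hUf x, hy, fun n hn z => ?_⟩
  have hle : c ⟨Uf x, hUf x⟩ ≤ fs.sup fun x => c ⟨Uf x, hUf x⟩ :=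
    Finset.le_sup (f := fun x => c ⟨Uf x, hUf x⟩) hxfs
  exact (hc ⟨Uf x, hUf x⟩ n (hle.trans hn) z).trans (hc ⟨Uf x, hUf x⟩ _ hle z).symm

/-- Compatible sections of a tower are sections of its limit. -/
theorem exists_section_limit {Y : Scheme.{u}} (F : ℕᵒᵖ ⥤ Y.Modules) (U : Y.Opens)
    (v : ∀ n, Γ(F.obj (op n), U))
    (hv : ∀ n, (F.map (homOfLE (Nat.le_succ n)).op).app U (v (n + 1)) = v n) :
    ∃ s : Γ((limit F : Y.Modules), U), ∀ n, (limit.π F (op n)).app U s = v n := by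
  haveI := preservesLimits_toSheaf (X := Y)
  let E : Y.Modules ⥤ AddCommGrpCat.{u} := SheafOfModules.toSheaf Y.ringCatSheaf ⋙
    sheafToPresheaf (Opens.grothendieckTopology Y) AddCommGrpCat.{u} ⋙ (evaluation _ _).obj (op U)
  haveI h1 : PreservesLimitsOfShape ℕᵒᵖ (SheafOfModules.toSheaf.{u} Y.ringCatSheaf) := inferInstance
  haveI h2 : PreservesLimitsOfShape ℕᵒᵖ (sheafToPresheaf (Opens.grothendieckTopology Y) AddCommGrpCat.{u}) :=
    inferInstance
  haveI h3 : PreservesLimitsOfShape ℕᵒᵖ ((evaluation (Opens Y.toTopCat)ᵒᵖ AddCommGrpCat.{u}).obj (op U)) :=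
    inferInstance
  haveI h12 := @comp_preservesLimitsOfShape _ _ _ _ _ _ _ _
    (SheafOfModules.toSheaf.{u} Y.ringCatSheaf) (sheafToPresheaf (Opens.grothendieckTopology Y) AddCommGrpCat.{u}) h1 h2
  haveI hE : PreservesLimitsOfShape ℕᵒᵖ E :=
    @comp_preservesLimitsOfShape _ _ _ _ _ _ _ _ (SheafOfModules.toSheaf.{u} Y.ringCatSheaf ⋙
      sheafToPresheaf (Opens.grothendieckTopology Y) AddCommGrpCat.{u})
      ((evaluation (Opens Y.toTopCat)ᵒᵖ AddCommGrpCat.{u}).obj (op U)) h12 h3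
  have hc := isLimitOfPreserves (E ⋙ forget AddCommGrpCat.{u}) (limit.isLimit F)
  obtain ⟨s, hs, -⟩ := (Types.isLimit_iff _).1 ⟨hc⟩ (fun j => v j.unop) (by
    intro i j f
    obtain ⟨i⟩ := i
    obtain ⟨j⟩ := j
    have hji : j ≤ i := leOfHom f.unop
    rw [show f = (homOfLE hji).op from rfl]
    induction i, hji using Nat.le_induction with
    | base =>
      change (F.map (homOfLE (le_refl j)).op).app U (v j) = v j
      rw [show (homOfLE (le_refl j)).op = 𝟙 (op j) from rfl, F.map_id]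
      rfl
    | succ i hji ih =>
      change (F.map (homOfLE (hji.trans (Nat.le_succ i))).op).app U (v (i + 1)) = v j
      rw [show (homOfLE (hji.trans (Nat.le_succ i))).op = (homOfLE (Nat.le_succ i)).op ≫ (homOfLE hji).op from rfl,
        F.map_comp]
      change (F.map (homOfLE hji).op).app U ((F.map (homOfLE (Nat.le_succ i)).op).app U (v (i + 1))) = v j
      rw [hv]
      exact ih (homOfLE hji).op)
  exact ⟨s, fun n => hs (op n)⟩

end Groth.CohDev.TowerStationary
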